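/-
An involution centralizer `2·Aₙ` with `n ≥ 12` forces the involution to be isolated.
-/
import Cfsg.Agent.INV.STD.AltE

set_option autoImplicit false
set_option linter.unusedSectionVars false

namespace CL.StdA

open Equiv Equiv.Perm CL.AltInvol CL.StdE

variable {α : Type*} [Fintype α] [DecidableEq α] {X G : Type*} [Group X] [Group G] [Finite X]
  {σ : X →* Perm α} {ζ : X} {f f' : X →* G} {h k t : G} {p q : Perm α}

/-- the image of `f` is the full centralizer of `f ζ` -/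
def Full (ζ : X) (f : X →* G) : Prop := ∀ h, h * f ζ = f ζ * h → ∃ x, h = f x

theorem Full.conj (hF : Full ζ f) (g : G) : Full ζ (cj g f) := fun h hh => by
  obtain ⟨x, hx⟩ := hF (g⁻¹ * h * g) (by
    rw [cj_apply] at hh
    calc _ = g⁻¹ * (h * (g * f ζ * g⁻¹)) * g := by group
      _ = _ := by rw [hh]; group)
  exact ⟨x, by rw [cj_apply, ← hx]; group⟩

theorem Pr.not_triv (P : Pr σ ζ f f') (hq : A f' σ (f ζ) q) {w c : X} {ξ : Perm α} (hw : A f' σ (f w) ξ)
    (h1 : ∀ d, q d ≠ d → ξ d = d ∨ ξ d = q d) (hc : f c * f' ζ = f' ζ * f c)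
    (h2 : w * (c * w * c⁻¹) * (w * (c * w * c⁻¹)) = ζ) : False := by
  obtain ⟨κ, hκ⟩ := P.symm.ex hc
  have e := apply_apply_of_mul_self (P.symm.sq hq P.l.zsq)
  have k1 : ∀ d, q (ξ d) = ξ (q d) := fun d =>
    DFunLike.congr_fun (P.symm.map_comm hq hw (P.l.fcomm w).symm) d
  have k2 : ∀ d, q (κ⁻¹ d) = κ⁻¹ (q d) := fun d => DFunLike.congr_fun
    (P.symm.map_comm hq (hκ.inv P.r.inj) (by rw [← map_inv, P.l.fcomm])) d
  have k3 : ∀ d, q (κ d) = κ (q d) := fun d =>
    DFunLike.congr_fun (P.symm.map_comm hq hκ (P.l.fcomm c).symm) d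
  have k4 : ∀ d, q d ≠ d → (κ * ξ * κ⁻¹) d = d ∨ (κ * ξ * κ⁻¹) d = q d := fun d hd => by
    rw [mul_apply, mul_apply]
    rcases h1 (κ⁻¹ d) (fun e => hd (κ⁻¹.injective (by rw [← k2, e]))) with e | e <;> rw [e]
    · exact Or.inl (by simp)
    · exact Or.inr (by rw [← k3]; simp)
  have k5 : ∀ d, q d ≠ d → (ξ * (κ * ξ * κ⁻¹)) d = d ∨ (ξ * (κ * ξ * κ⁻¹)) d = q d := fun d hd => by
    rw [mul_apply]
    rcases k4 d hd with e1 | e1 <;> rw [e1]
    · exact h1 d hd
    · rw [← k1]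
      rcases h1 d hd with e2 | e2 <;> rw [e2]
      · exact Or.inr rfl
      · exact Or.inl (e d)
  have h3 := hw.mul ((hκ.mul hw).mul (hκ.inv P.r.inj))
  rw [← map_inv, ← map_mul, ← map_mul, ← map_mul] at h3
  have k6 := P.symm.map_comm hq h3 (P.l.fcomm _).symm
  have k7 := P.symm.uniq (h3.mul h3) (by rwa [← map_mul, h2])
  generalize ξ * (κ * ξ * κ⁻¹) = η at k5 k6 k7
  obtain ⟨d, hd⟩ : ∃ d, q d ≠ d := by
    by_contra! h
    exact P.symm.ne_one hq (Equiv.ext h)
  have k8 : η (η d) = q d := DFunLike.congr_fun k7 d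
  have k9 : q (η d) = η (q d) := DFunLike.congr_fun k6 d
  rcases k5 d hd with e1 | e1 <;> rw [e1] at k8 k9
  · exact hd (k8.symm.trans e1)
  · rw [← k9, e] at k8
    exact hd k8.symm

theorem Pr.exists_triv (P : Pr σ ζ f f') (hF : Full ζ f) (hq : A f' σ (f ζ) q) {y : X} (hy : y * y = ζ)
    (hc : f y * f' ζ = f' ζ * f y) : ∃ g w ξ, f g * f' ζ = f' ζ * f g ∧ w = g⁻¹ * y * g * y⁻¹ ∧ w * w = 1 ∧
      A f' σ (f w) ξ ∧ (∀ d, q d ≠ d → ξ d = d ∨ ξ d = q d) ∧ (σ w = 1 → q.support.card = 8) := by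
  obtain ⟨η, hη⟩ := P.symm.ex hc
  have q2 := P.symm.sq hq P.l.zsq
  have e0 := apply_apply_of_mul_self q2
  have e1 : η * η = q := P.symm.uniq (hη.mul hη) (by rwa [← map_mul, hy])
  have k1 : ∀ d, η (q d) = q (η d) := fun d => by rw [← e1]; rfl
  obtain ⟨q3, q4⟩ := quad_spec e1 q2
  have h8 := (P.symm.supp hq).1
  obtain ⟨a, ha, -⟩ := exists_not_mem q.support [] (by simp only [List.length_nil]; omega)
  obtain ⟨b, hb, hb'⟩ := exists_not_mem q.support (quad η q a) (by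
    simp only [quad, List.length_cons, List.length_nil]; omega)
  rw [mem_support] at ha hb
  have hn : [a, q a, η a, q (η a), b, q b, η b, q (η b)].Nodup :=
    List.nodup_append.2 (⟨(q3 a ha).1, (q3 b hb).1, q4 a b hb'⟩ : (quad η q a).Nodup ∧ (quad η q b).Nodup ∧ _)
  have s1 : [a, q a, b, q b].Nodup := hn.sublist (by simp)
  have s2 : [η a, q (η a), η b, q (η b)].Nodup :=
    hn.sublist (.cons _ (.cons _ (.cons_cons _ (.cons_cons _ (.cons _ (.cons _ (List.Sublist.refl _)))))))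
  obtain ⟨e, he, e2⟩ := P.D.lift2 s1
  obtain ⟨g, hg⟩ := hF _ (hq.comm_swaps P.D P.r.inj P.comm.symm q2 s1 he).symm
  obtain ⟨e', h1, h2⟩ := hη e
  rw [he, ← conj_mul, ← swap_apply_apply, ← swap_apply_apply, k1, k1] at h2
  have hd : Perm.Disjoint (σ e⁻¹) (σ e') := fun d => by
    rw [map_inv, he, h2, inv_eq_of_mul_eq_one_right (swap_swap_sq s1)]
    simp only [mul_apply, swap_apply_def]
    clear q3 q4 k1 e0
    grind
  have h3 : f (g⁻¹ * y * g * y⁻¹) = f' (e⁻¹ * e') := by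
    rw [map_mul f', ← h1, map_inv f', hg]
    simp only [map_mul, map_inv, mul_assoc]
  have h4 : (σ (e⁻¹ * e')).support.card = 8 := by
    rw [map_mul, hd.card_support_mul, map_inv, support_inv, he, h2, card_support_swap_swap s1,
      card_support_swap_swap s2]
  refine ⟨g, _, σ (e⁻¹ * e'), hg ▸ P.r.fcomm e, rfl, P.l.inj ?_, h3 ▸ A.of_f _, fun d _ => ?_, fun h5 => ?_⟩
  · rw [map_mul, h3, ← map_mul, mul_assoc, ← mul_assoc e', ← P.D.comm_disj hd, mul_assoc,
      P.D.sq e' _ _ _ _ s2 h2, ← mul_assoc, ← mul_inv_rev, e2, inv_mul_cancel, map_one, map_one]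
  · rw [map_mul, map_inv, he, h2, inv_eq_of_mul_eq_one_right (swap_swap_sq s1)]
    simp only [mul_apply, swap_apply_def]
    have := e0 a
    have := e0 b
    have := e0 (η a)
    have := e0 (η b)
    clear q3 q4 k1 e0 hd
    grind
  · rcases (P.D.ker _).1 h5 with e3 | e3 <;> rw [e3] at h3
    · rw [← P.r.inj ((map_one f').trans ((map_one f).symm.trans h3))] at h4
      simp at h4
    · rwa [P.symm.uniq hq (by rw [h3]; exact A.of_f _)]

theorem Pr.caseA (P : Pr σ ζ f f') (hF : Full ζ f) (hp : A f σ (f' ζ) p)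
    (h4 : p.support.card + 4 ≤ Fintype.card α) : False := by
  obtain ⟨q, hq⟩ := P.symm.ex P.comm.symm
  obtain ⟨a, b, c, d, hn, e1, e2, e3, e4⟩ := exists_fixed4 h4
  obtain ⟨y, hy, y2⟩ := P.D.lift2 hn
  have hd : Perm.Disjoint p (σ y) :=
    hy ▸ ((disjoint_swap_of_fix e1 e2).mul_left (disjoint_swap_of_fix e3 e4)).symm
  have hc := (hp.comm_disj P.D P.l.inj P.comm hd).symm
  obtain ⟨g, w, ξ, g1, g2, g3, g4, g5, g6⟩ := P.exists_triv hF hq y2 hc
  have p2 := P.sq hp P.r.zsq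
  by_cases hw : σ w = 1
  · obtain ⟨a', b', c', hn'⟩ := exists_blocks3 p2 (by have := (P.supp hp).1; omega)
    refine P.no_root (fun q' hq' => ?_) (r := f y) (by rw [← map_mul, y2]) hc hp hn' fun x hx => ?_
    · rw [P.symm.uniq hq' hq, g6 hw]; norm_num
    · rw [← map_mul, ← map_mul, P.D.comm_disj fun s => ?_]
      refine (hd s).symm.imp_right fun e => hx s ?_
      have := apply_apply_of_mul_self p2
      grind
  have h5 : ∀ s, p s ≠ s → σ w s = s := fun s hs => by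
    have k1 : p (σ g s) = σ g (p s) := DFunLike.congr_fun (P.map_comm hp (A.of_f g) g1.symm) s
    rw [g2, map_mul, map_mul, map_mul, map_inv, map_inv, mul_apply, mul_apply, mul_apply,
      (inv_eq_iff_eq).2 ((hd s).resolve_left hs).symm,
      (hd _).resolve_left fun e => hs ((σ g).injective (by rw [← k1, e]))]
    simp
  have w2 : σ w * σ w = 1 := by rw [← map_mul, g3, map_one]
  obtain ⟨x1, x2, x3, x4, hx, f1, f2, f3, f4⟩ := twoSwaps_of_involution w2 hw (P.D.even w)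
  obtain ⟨e, he, e5⟩ := P.D.lift3 (tau_cube (show [x1, x2, x3].Nodup from hx.sublist (by simp)))
  refine P.not_triv hq g4 g5 (hp.comm3 P.D P.l.inj e5 ?_).symm (P.D.sq _ x1 x3 x2 x4 (by grind) ?_)
  · rw [he, ← mul_inv_eq_iff_eq_mul, tau_conj, show p x1 = x1 by grind, show p x2 = x2 by grind,
      show p x3 = x3 by grind]
  · rw [map_mul, map_mul, map_mul, map_inv, he, ← mul_assoc, ← mul_assoc, mul_inv_eq_iff_eq_mul]
    nth_rewrite 2 [← inv_eq_of_mul_eq_one_right w2]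
    rw [tau_conj, f1, f2, f3]
    ext s
    simp only [tau, mul_apply, swap_apply_def]
    clear h5
    grind

theorem conj_rho {ω : Perm α} (hω : ω * ω = 1) {a b c : α}
    (hn : [a, p a, b, p b, c, p c].Nodup) (h1 : ω a = p a) (h2 : ω b = b) (h3 : ω (p b) = p b)
    (h4 : ω c = c) (h5 : ω (p c) = p c) :
    ω * (rho p a b c * ω * (rho p a b c)⁻¹) = swap a (p a) * swap b (p b) := by
  have h6 : ω (p a) = a := by rw [← h1, apply_apply_of_mul_self hω]
  rw [← mul_assoc, ← mul_assoc, mul_inv_eq_iff_eq_mul]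
  nth_rewrite 2 [← inv_eq_of_mul_eq_one_right hω]
  rw [rho, ← conj_mul, tau_conj, tau_conj, h1, h2, h3, h4, h5, h6]
  ext s
  simp only [tau, mul_apply, swap_apply_def]
  grind

/-- `ω` preserves every block of `p` -/
def BT (p ω : Perm α) : Prop := ∀ s, (ω s = s ∧ ω (p s) = p s) ∨ (ω s = p s ∧ ω (p s) = s)

theorem BT.mul {ω η : Perm α} (h1 : BT p ω) (h2 : BT p η) : BT p (ω * η) := fun s => by
  rw [mul_apply, mul_apply]
  rcases h1 s with e | e <;> rcases h2 s with e' | e' <;> simp only [e, e', true_or, or_true, and_self]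

theorem BT.swap (hp : p * p = 1) (a : α) : BT p (swap a (p a)) := fun s => by
  have e0 := apply_apply_of_mul_self hp
  have := e0 s
  have := e0 a
  simp only [swap_apply_def]
  grind

theorem Pr.sixteen (P : Pr σ ζ f f') (hF : Full ζ f) (hp : A f σ (f' ζ) p) (h9 : 9 ≤ p.support.card) :
    16 ≤ p.support.card := by
  obtain ⟨v, hv⟩ := hF _ P.comm
  obtain rfl := P.uniq hp (hv ▸ A.of_f v)
  obtain ⟨m, h1, h2⟩ := P.D.sq_eq (P.sq hp P.r.zsq)
  by_contra h3
  obtain rfl : m = 3 := by omega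
  rw [P.l.inj (show f (v * v) = f 1 by rw [map_mul, ← hv, P.r.zsq, map_one]), pow_succ, pow_two, P.D.zsq,
    one_mul] at h2
  exact P.D.ne h2.symm

theorem Pr.caseB (P : Pr σ ζ f f') (hF : Full ζ f) (hp : A f σ (f' ζ) p) (hq : A f' σ (f ζ) q)
    (h1 : 12 ≤ p.support.card) (h2 : q.support.card ≠ 8) : False := by
  have p2 := P.sq hp P.r.zsq
  have e0 := apply_apply_of_mul_self p2
  obtain ⟨a, b, hn⟩ := exists_blocks2 p2 (by omega)
  obtain ⟨y, hy, y2⟩ := P.D.lift2 hn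
  obtain ⟨g, w, ξ, g1, g2, g3, g4, g5, g6⟩ := P.exists_triv hF hq y2
    (hp.comm_swaps P.D P.l.inj P.comm p2 hn hy).symm
  have k1 : ∀ s, (σ g)⁻¹ (p s) = p ((σ g)⁻¹ s) := fun s => DFunLike.congr_fun
    (P.map_comm ((A.of_f g).inv P.l.inj) hp (Commute.inv_left g1)) s
  have hw : σ w = swap ((σ g)⁻¹ a) (p ((σ g)⁻¹ a)) * swap ((σ g)⁻¹ b) (p ((σ g)⁻¹ b)) *
      (swap a (p a) * swap b (p b)) := by
    rw [g2, map_mul, map_mul, map_mul, map_inv, map_inv, hy, inv_eq_of_mul_eq_one_right (swap_swap_sq hn),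
      ← k1, ← k1, swap_apply_apply, swap_apply_apply]
    group
  have hn' : [(σ g)⁻¹ a, p ((σ g)⁻¹ a), (σ g)⁻¹ b, p ((σ g)⁻¹ b)].Nodup := by
    rw [← k1, ← k1]
    exact hn.map (σ g)⁻¹.injective
  generalize (σ g)⁻¹ a = a' at hw hn'
  generalize (σ g)⁻¹ b = b' at hw hn'
  have k3 : ∀ s, σ w s = s ∨ σ w s = p s := fun s =>
    (hw ▸ ((BT.swap p2 a').mul (BT.swap p2 b')).mul ((BT.swap p2 a).mul (BT.swap p2 b)) s).imp And.left And.left
  have k4 : ∀ s ∉ [a', p a', b', p b', a, p a, b, p b], σ w s = s := fun s hs => by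
    rw [hw]
    simp only [mul_apply, swap_apply_def]
    clear e0 k1 hw g5 k3
    grind
  obtain ⟨l, hl⟩ : ∃ l, σ w l ≠ l := by
    by_contra! h
    exact h2 (g6 (Equiv.ext h))
  obtain ⟨m, hm, hm'⟩ := exists_not_mem p.support [a', p a', b', p b', a, p a, b, p b]
    (by simp only [List.length_cons, List.length_nil]; omega)
  obtain ⟨c, hc, hc'⟩ := exists_not_mem p.support [m, p m, a', p a', b', p b', a, p a, b, p b]
    (by simp only [List.length_cons, List.length_nil]; omega)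
  rw [mem_support] at hm hc
  have l1 := (k3 l).resolve_left hl
  have m1 := k4 m hm'
  have k5 : ∀ s ∉ [a', p a', b', p b', a, p a, b, p b], σ w (p s) = p s := fun s hs => k4 _ fun h => hs (by
    rw [← e0 s]
    simp only [List.mem_cons, List.not_mem_nil, or_false] at h ⊢
    rcases h with h | h | h | h | h | h | h | h <;> simp only [h, e0, true_or, or_true])
  have m2 := k5 m hm'
  have c0 : c ∉ [a', p a', b', p b', a, p a, b, p b] := fun h =>
    hc' (List.mem_cons_of_mem _ (List.mem_cons_of_mem _ h))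
  have c1 := k4 c c0
  have c2 := k5 c c0
  have hN : [l, p l, m, p m, c, p c].Nodup := by
    have t1 : c ≠ m ∧ c ≠ p m := ⟨fun e => hc' (by simp [e]), fun e => hc' (by simp [e])⟩
    have := e0 l
    have := e0 m
    have := e0 c
    clear k1 hw g5 k3 k4 k5 e0 hm' hc' hn hn' c0
    simp only [List.nodup_cons, List.mem_cons, List.not_mem_nil, or_false, not_or, List.nodup_nil,
      and_true, not_false_eq_true]
    refine ⟨⟨?_, ?_, ?_, ?_, ?_⟩, ⟨?_, ?_, ?_, ?_⟩, ⟨?_, ?_, ?_⟩, ⟨?_, ?_⟩, ?_⟩ <;> grind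
  obtain ⟨r1, r2, -⟩ := rho_conj p2 hN
  obtain ⟨e, he, e3⟩ := P.D.lift3 r1
  refine P.not_triv hq g4 g5 (hp.comm3 P.D P.l.inj e3 (he ▸ r2)).symm (P.D.sq _ l (p l) m (p m)
    (hN.sublist (by simp)) ?_)
  rw [map_mul, map_mul, map_mul, map_inv, he]
  exact conj_rho (by rw [← map_mul, g3, map_one]) hN l1 m1 m2 c1 c2

theorem Pr.lt_twelve (P : Pr σ ζ f f') (hF : Full ζ f) (hF' : Full ζ f') : Fintype.card α < 12 := by
  by_contra h
  obtain ⟨p, hp⟩ := P.ex P.comm
  obtain ⟨q, hq⟩ := P.symm.ex P.comm.symm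
  have h1 := mt (P.caseA hF hp) not_false
  have h2 := mt (P.symm.caseA hF' hq) not_false
  have h3 := P.sixteen hF hp (by omega)
  exact P.caseB hF hp hq (by omega) (by omega)

end CL.StdA
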