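/-
Finite facts on permutations of ten points.
-/
import Cfsg.Agent.INV.STD.AltP

set_option autoImplicit false

namespace CL.StdA.T

open Equiv Equiv.Perm

abbrev F := Fin 10

def c1 : Perm F := tau 0 1 2
def c2 : Perm F := tau 3 4 5
def d8 : Perm F := tau 6 7 8
def d9 : Perm F := tau 6 7 9
def ro : Perm F := c1 * c2
def aa : Perm F := c1 * c2 ^ 2
def uu : Perm F := swap 0 3 * swap 1 4 * (swap 2 5 * swap 6 7)
def tt : Perm F := swap 1 2 * swap 4 5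
def ss : Perm F := swap 6 7 * swap 8 9
def rr : Perm F := tt * ss
def e1 : Perm F := swap 0 6 * swap 3 7 * (swap 1 2 * swap 4 5)
def e2 : Perm F := swap 0 6 * swap 3 7 * (swap 1 5 * swap 2 4)
def gg : Perm F := swap 1 3 * swap 2 5

/-- number of moved points -/
def sp (g : F → F) : ℕ := (Finset.univ.filter fun x => g x ≠ x).card

/-- the sign -/
def sg (g : F → F) : ℤˣ := ∏ j, ∏ i ∈ Finset.Iio j, if g i < g j then 1 else -1

/-- table of values -/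
def tb (p : Perm F) : F → F := ![p 0, p 1, p 2, p 3, p 4, p 5, p 6, p 7, p 8, p 9]

theorem tb_eq (p : Perm F) : tb p = p := by
  ext x
  fin_cases x <;> rfl

theorem sp_eq (p : Perm F) : p.support.card = sp p := rfl

theorem sg_eq (p : Perm F) : sign p = sg p := p.sign_eq_prod_prod_Iio

instance (g : F → F) (n : ℕ) : Decidable (sp g = n) := inferInstanceAs (Decidable (_ = _))

/-- `Q` holds on the centralizer of `ro` -/
def AllR (Q : (F → F) → Prop) : Prop :=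
  ∀ a : F, a < 6 → ∀ b : F, b < 6 → b ≠ a → b ≠ ro a → b ≠ ro (ro a) → ∀ c : F, 6 ≤ c → ∀ d : F, 6 ≤ d →
    d ≠ c → ∀ e : F, 6 ≤ e → e ≠ c → e ≠ d → ∀ f : F, 6 ≤ f → f ≠ c → f ≠ d → f ≠ e →
      Q ![a, ro a, ro (ro a), b, ro b, ro (ro b), c, d, e, f]

instance (Q : (F → F) → Prop) [DecidablePred Q] : Decidable (AllR Q) := by
  unfold AllR; infer_instance

theorem AllR.app {Q : (F → F) → Prop} (h : AllR Q) {p : Perm F} (hp : p * ro = ro * p) : Q p := by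
  have e : ∀ x, p (ro x) = ro (p x) := fun x => DFunLike.congr_fun hp x
  have k1 : ∀ x : F, ro x = x ↔ 6 ≤ x := by decide
  have k2 : ∀ x : F, 6 ≤ p x ↔ 6 ≤ x := fun x => by rw [← k1, ← k1, ← e, p.injective.eq_iff]
  have k3 : ∀ {x y : F}, x ≠ y → p x ≠ p y := fun h => p.injective.ne h
  have e1 : ro (p 0) = p 1 := (e 0).symm
  have e2 : ro (p 1) = p 2 := (e 1).symm
  have e4 : ro (p 3) = p 4 := (e 3).symm
  have e5 : ro (p 4) = p 5 := (e 4).symm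
  have := h (p 0) (not_le.1 (mt (k2 0).1 (by decide))) (p 3) (not_le.1 (mt (k2 3).1 (by decide)))
    (k3 (by decide)) (e1 ▸ k3 (by decide)) (by rw [e1, e2]; exact k3 (by decide))
    (p 6) ((k2 6).2 (by decide)) (p 7) ((k2 7).2 (by decide)) (k3 (by decide))
    (p 8) ((k2 8).2 (by decide)) (k3 (by decide)) (k3 (by decide))
    (p 9) ((k2 9).2 (by decide)) (k3 (by decide)) (k3 (by decide)) (k3 (by decide))
  rw [e1, e2, e4, e5] at this
  convert this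
  ext x
  fin_cases x <;> rfl

/-- `Q` holds on the centralizer of `uu` -/
def AllU (Q : (F → F) → Prop) : Prop :=
  ∀ a : F, a < 8 → ∀ b : F, b < 8 → b ≠ a → b ≠ uu a → ∀ c : F, c < 8 → c ≠ a → c ≠ uu a → c ≠ b →
    c ≠ uu b → ∀ d : F, d < 8 → d ≠ a → d ≠ uu a → d ≠ b → d ≠ uu b → d ≠ c → d ≠ uu c →
    ∀ e : F, 8 ≤ e → ∀ f : F, 8 ≤ f → f ≠ e → Q ![a, b, c, uu a, uu b, uu c, d, uu d, e, f]

instance (Q : (F → F) → Prop) [DecidablePred Q] : Decidable (AllU Q) := by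
  unfold AllU; infer_instance

theorem AllU.app {Q : (F → F) → Prop} (h : AllU Q) {p : Perm F} (hp : p * uu = uu * p) : Q p := by
  have e : ∀ x, p (uu x) = uu (p x) := fun x => DFunLike.congr_fun hp x
  have k1 : ∀ x : F, uu x = x ↔ 8 ≤ x := by decide
  have k2 : ∀ x : F, 8 ≤ p x ↔ 8 ≤ x := fun x => by rw [← k1, ← k1, ← e, p.injective.eq_iff]
  have k3 : ∀ {x y : F}, x ≠ y → p x ≠ p y := fun h => p.injective.ne h
  have k4 : ∀ x : F, x < 8 → p x < 8 := fun x hx => not_le.1 (mt (k2 x).1 (not_le.2 hx))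
  have e1 : uu (p 0) = p 3 := (e 0).symm
  have e2 : uu (p 1) = p 4 := (e 1).symm
  have e4 : uu (p 2) = p 5 := (e 2).symm
  have e5 : uu (p 6) = p 7 := (e 6).symm
  have := h (p 0) (k4 0 (by decide)) (p 1) (k4 1 (by decide)) (k3 (by decide)) (e1 ▸ k3 (by decide))
    (p 2) (k4 2 (by decide)) (k3 (by decide)) (e1 ▸ k3 (by decide)) (k3 (by decide)) (e2 ▸ k3 (by decide))
    (p 6) (k4 6 (by decide)) (k3 (by decide)) (e1 ▸ k3 (by decide)) (k3 (by decide)) (e2 ▸ k3 (by decide))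
    (k3 (by decide)) (e4 ▸ k3 (by decide))
    (p 8) ((k2 8).2 (by decide)) (p 9) ((k2 9).2 (by decide)) (k3 (by decide))
  rw [e1, e2, e4, e5] at this
  convert this
  ext x
  fin_cases x <;> rfl

theorem f12 : AllR fun g => ∀ x, g^[12] x = x := by decide +kernel

theorem f4 : AllR fun g => (∀ x, g (uu x) = uu (g x)) → sg g = 1 →
    ∃ i : Fin 3, ∃ q ∈ [1, uu, ss, ss * uu], ∀ x, g x = (ro ^ (i : ℕ) * q) x := by decide +kernel

theorem f5 : AllR fun g => (∀ x, g (g (g x)) = x) → (∀ x, g (uu (g (uu x))) = x) →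
    ∃ i j : Fin 3, ∃ n : F, 8 ≤ n ∧ ∀ x, g x = (aa ^ (i : ℕ) * tau 6 7 n ^ (j : ℕ)) x := by decide +kernel

/-- if `p` commutes with its conjugate under the involution `g` then `g` normalizes it -/
def Q6 (g p : F → F) : Prop :=
  (∀ x, p (g (p (g x))) = g (p (g (p x)))) → (∀ x, g (p (g x)) = p x) ∨ ∀ x, g (p (g (p x))) = x

instance (g p : F → F) : Decidable (Q6 g p) := by unfold Q6; infer_instance

theorem f6 : AllU fun g => (∀ x, g (g x) = x) → sp g = 8 → sp (g ∘ uu) = 8 → (∀ x, g (ro (g (ro x))) = x) →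
    ∀ i j : Fin 3, ∀ n : F, 8 ≤ n → Q6 g (tb (aa ^ (i : ℕ) * tau 6 7 n ^ (j : ℕ))) := by decide +kernel

theorem f8 : AllR fun g => (∀ x, g (g (g x)) = x) → ∀ x, g (aa x) = aa (g x) := by decide +kernel

theorem f9 : AllR fun g => (∀ x, g (c1 x) = c1 (g x)) → (∀ x, g (d8 x) = d8 (g x)) →
    ∀ x, g (g (g x)) = x := by decide +kernel

theorem f10 : AllR fun g => (∀ x, g (g (g x)) = x) → (∀ x, g x = 9 → d8 x = x) →
    ∃ i j l : Fin 3, ∀ x, g x = (c1 ^ (i : ℕ) * c2 ^ (j : ℕ) * d8 ^ (l : ℕ)) x := by decide +kernel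

/-- two translates of `k` by powers of `ro` move six points -/
def Q11 (k : F → F) : Prop := ∀ m n : Fin 3, m ≠ n →
    sp (tb (ro ^ (m : ℕ)) ∘ k) = 6 → sp (tb (ro ^ (n : ℕ)) ∘ k) = 6 → ∃ s : Fin 3, (∀ x, k x = (ro ^ (s : ℕ)) x) ∨
      ∃ i j : Fin 3, i ≠ 0 ∧ j ≠ 0 ∧ ∀ x, tb (ro ^ (s : ℕ)) (k x) = (aa ^ (i : ℕ) * d8 ^ (j : ℕ)) x

instance (k : F → F) : Decidable (Q11 k) := by unfold Q11; infer_instance

theorem f11a : ∀ i j l : Fin 3, Q11 (tb (c1 ^ (i : ℕ) * c2 ^ (j : ℕ) * d8 ^ (l : ℕ))) := by decide +kernel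

/-- `g tt` maps `k` to its inverse modulo `ro` -/
def Q12 (g k : F → F) : Prop := ∀ i : Fin 3, (∀ x, k (g (tt (k x))) = (ro ^ (i : ℕ)) (g (tt x))) → sg g ≠ 1

instance (g k : F → F) : Decidable (Q12 g k) := by unfold Q12; infer_instance

theorem f11 : AllR fun g => ∀ i j : Fin 3, i ≠ 0 → j ≠ 0 → Q12 g (tb (aa ^ (i : ℕ) * d8 ^ (j : ℕ))) := by
  decide +kernel

theorem fsig : AllU fun g => (∀ x, g (g x) = x) → sp g = 8 → sp (g ∘ uu) = 8 →
    (∀ x, g (ro (g (ro (ro x)))) = ro (g (ro (ro (g x))))) →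
      ∃ i : Fin 3, ∃ e ∈ [e1, e2], ∃ q ∈ [1, uu], ∀ x, g x = (ro ^ (i : ℕ) * e * (ro ^ (i : ℕ))⁻¹ * q) x := by
  decide +kernel

theorem fpair : AllU fun g => (∀ x, g (g (g x)) = x) → (∃ x, g x ≠ x) → g 8 = 8 ∧ g 9 = 9 ∧
    ∃ a c, [a, g a, g (g a), uu a, uu (g a), uu (g (g a)), c, uu c, 8, 9].Nodup ∧ g c = c ∧ g (uu c) = uu c := by
  decide +kernel

end CL.StdA.T
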