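/-
Permutations of ten points: centralizers of `ro` and `uu`.
-/
import Cfsg.Agent.INV.STD.AltH
import Cfsg.Agent.KSG.AltInvol

set_option autoImplicit false

namespace CL.StdA.T

open Equiv Equiv.Perm

variable {p q k : Perm F}

theorem cube_apply (h : p ^ 3 = 1) (x : F) : p (p (p x)) = x := by
  simpa [pow_succ] using DFunLike.congr_fun h x

theorem cube_of_odd (hp : p * ro = ro * p) (h : Odd (orderOf p)) : p ^ 3 = 1 := by
  have h1 : orderOf p ∣ 4 * 3 :=
    orderOf_dvd_of_pow_eq_one (Equiv.ext fun x => by rw [coe_pow]; exact f12.app hp x)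
  exact orderOf_dvd_iff_pow_eq_one.1
    ((Nat.Coprime.pow_right 2 (Nat.coprime_two_right.2 h)).dvd_of_dvd_mul_left h1)

theorem p4 (hp : p * ro = ro * p) (hu : p * uu = uu * p) (h : sign p = 1) :
    ∃ i : ℕ, p = ro ^ i ∨ p = ro ^ i * uu ∨ p = ro ^ i * ss ∨ p = ro ^ i * (ss * uu) := by
  obtain ⟨i, q, hq, e⟩ := f4.app hp (fun x => DFunLike.congr_fun hu x) (sg_eq p ▸ h)
  obtain rfl : p = ro ^ (i : ℕ) * q := Equiv.ext e
  exact ⟨i, by simpa using hq⟩

theorem p5 (hp : p * ro = ro * p) (h3 : p ^ 3 = 1) (hu : p * uu * p * uu = 1) :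
    ∃ i j : Fin 3, ∃ n : F, 8 ≤ n ∧ p = aa ^ (i : ℕ) * tau 6 7 n ^ (j : ℕ) := by
  obtain ⟨i, j, n, hn, e⟩ := f5.app hp (cube_apply h3) fun x => DFunLike.congr_fun hu x
  exact ⟨i, j, n, hn, Equiv.ext e⟩

theorem p6 (hp : p * ro = ro * p) (h3 : p ^ 3 = 1) (hu : p * uu * p * uu = 1) (hq : q * uu = uu * q)
    (h1 : q * q = 1) (h2 : q.support.card = 8) (h4 : (q * uu).support.card = 8) (h5 : q * ro * q * ro = 1)
    (h6 : p * (q * p * q) = q * p * q * p) : q * p * q = p ∨ q * p * q * p = 1 := by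
  obtain ⟨i, j, n, hn, e⟩ := p5 hp h3 hu
  have := f6.app hq (fun x => DFunLike.congr_fun h1 x) h2 h4 (fun x => DFunLike.congr_fun h5 x) i j n hn
  rw [← e, tb_eq] at this
  exact (this fun x => DFunLike.congr_fun h6 x).imp (fun h => Equiv.ext h) fun h => Equiv.ext h

theorem p8' (hp : p * ro = ro * p) (h : Odd (orderOf p)) : p * aa = aa * p :=
  Equiv.ext (f8.app hp (cube_apply (cube_of_odd hp h)))

theorem p8 (hp : p * aa = aa * p) (h : Odd (orderOf p)) : p * ro = ro * p := by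
  have e1 : aa = swap 4 5 * ro * swap 4 5 := by decide +kernel
  have e2 : ro = swap 4 5 * aa * swap 4 5 := by decide +kernel
  have e3 : ∀ x : Perm F, swap 4 5 * (swap 4 5 * x) = x := fun x => by rw [← mul_assoc, swap_mul_self, one_mul]
  have h1 : swap 4 5 * p * swap 4 5 * ro = ro * (swap 4 5 * p * swap 4 5) := by
    rw [e2]; simp only [mul_assoc, e3]; rw [← mul_assoc p, hp, mul_assoc]
  have h2 : orderOf (swap 4 5 * p * swap 4 5) = orderOf p :=
    SemiconjBy.orderOf_eq (swap 4 5) (by simp only [SemiconjBy, mul_assoc, e3])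
  have h3 := p8' h1 (by rwa [h2])
  rw [e1] at h3
  simp only [mul_assoc, e3, mul_right_inj] at h3
  simpa only [← mul_assoc, mul_left_inj] using h3

theorem p9 (h1 : p * c1 = c1 * p) (h2 : p * c2 = c2 * p) (h3 : p * d8 = d8 * p) (h : p * p = 1) : p = 1 := by
  have h4 : p * ro = ro * p := by rw [ro, ← mul_assoc, h1, mul_assoc, h2, mul_assoc]
  ext x
  have := f9.app h4 (fun x => DFunLike.congr_fun h1 x) (fun x => DFunLike.congr_fun h3 x) x
  rw [show p (p x) = x from DFunLike.congr_fun h x] at this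
  exact congrArg _ this

theorem p10 (hp : p * ro = ro * p) (h3 : p ^ 3 = 1) (h : (p * d8 * p⁻¹) 9 = 9) :
    ∃ i j l : ℕ, p = c1 ^ i * c2 ^ j * d8 ^ l := by
  obtain ⟨i, j, l, e⟩ := f10.app hp (cube_apply h3) fun x hx => p.injective (by
    rwa [mul_apply, mul_apply, ← hx, show p⁻¹ (p x) = x from p.symm_apply_apply x] at h)
  exact ⟨i, j, l, Equiv.ext e⟩

theorem p11a {i j l m n : Fin 3} (hk : k = c1 ^ (i : ℕ) * c2 ^ (j : ℕ) * d8 ^ (l : ℕ)) (h : m ≠ n)
    (h1 : (ro ^ (m : ℕ) * k).support.card = 6) (h2 : (ro ^ (n : ℕ) * k).support.card = 6) : ∃ s : ℕ, k = ro ^ s ∨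
      ∃ i j : Fin 3, i ≠ 0 ∧ j ≠ 0 ∧ ro ^ s * k = aa ^ (i : ℕ) * d8 ^ (j : ℕ) := by
  have := f11a i j l
  rw [← hk, tb_eq, Q11] at this
  simp only [tb_eq] at this
  obtain ⟨s, e | ⟨i, j, hi, hj, e⟩⟩ := this m n h h1 h2
  exacts [⟨s, Or.inl (Equiv.ext e)⟩, ⟨s, Or.inr ⟨i, j, hi, hj, Equiv.ext e⟩⟩]

theorem p11 {i j s : Fin 3} (hi : i ≠ 0) (hj : j ≠ 0) (hk : k = aa ^ (i : ℕ) * d8 ^ (j : ℕ))
    (h1 : q * ro * q⁻¹ = ro⁻¹) (h2 : k * q * k = ro ^ (s : ℕ) * q) : sign q ≠ 1 := by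
  have e1 : tt * tt = 1 := by decide +kernel
  have e2 : tt * ro = ro⁻¹ * tt := by decide +kernel
  have e3 : sign tt = 1 := by simp [tt]
  have h3 : q * tt * ro = ro * (q * tt) := by
    have h4 : ro = (q * ro * q⁻¹)⁻¹ := by rw [h1, inv_inv]
    rw [mul_assoc, e2]
    conv_rhs => rw [h4]
    group
  have := f11.app h3 i j hi hj s
  rw [← hk, tb_eq, ← sg_eq, Perm.sign_mul, e3, mul_one] at this
  have e4 : ∀ x, tt (tt x) = x := fun x => DFunLike.congr_fun e1 x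
  exact this fun x => by simpa [e4] using DFunLike.congr_fun h2 x

theorem psig (hp : p * uu = uu * p) (h1 : p * p = 1) (h2 : p.support.card = 8) (h3 : (p * uu).support.card = 8)
    (h4 : p * (ro * p * ro⁻¹) = ro * p * ro⁻¹ * p) :
    ∃ i : Fin 3, ∃ e ∈ [e1, e2], ∃ q ∈ [1, uu], p = ro ^ (i : ℕ) * e * (ro ^ (i : ℕ))⁻¹ * q := by
  have e : ro⁻¹ = ro * ro := by decide +kernel
  rw [e] at h4
  obtain ⟨i, e, he, q, hq, h⟩ := fsig.app hp (fun x => DFunLike.congr_fun h1 x) h2 h3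
    fun x => by simpa only [mul_apply] using DFunLike.congr_fun h4 x
  exact ⟨i, e, he, q, hq, Equiv.ext h⟩

theorem su : uu.support.card = 8 := by decide +kernel

theorem uu_sq : uu * uu = 1 := by decide +kernel

theorem conj_of_inv (h1 : p * p = 1) (h2 : q * q = 1) (h : p.support.card = q.support.card) :
    ∃ π, π * p * π⁻¹ = q :=
  isConj_iff.1 (isConj_iff_cycleType_eq.2 (CL.AltInvol.cycleType_eq_of_involution h1 h2 h))

theorem exists_conj_uu {b : Prop} (h1 : q * q = 1) (h2 : q.support.card = 8) (hb : b → q 9 = 9) :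
    ∃ π : Perm F, sign π = 1 ∧ (b → π 9 = 9) ∧ π * uu * π⁻¹ = q := by
  obtain ⟨π, e⟩ := conj_of_inv uu_sq h1 (su.trans h2.symm)
  have key : ∀ π : Perm F, (b → π 9 = 9) → π * uu * π⁻¹ = q →
      ∃ π : Perm F, sign π = 1 ∧ (b → π 9 = 9) ∧ π * uu * π⁻¹ = q := fun π h e => by
    rcases Int.units_eq_one_or (sign π) with s | s
    · exact ⟨π, s, h, e⟩
    · refine ⟨π * swap 6 7, by simp [s], fun hb => h hb, ?_⟩
      rw [mul_assoc π, show swap 6 7 * uu = uu * swap 6 7 by decide +kernel, ← e]; group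
  by_cases h : b
  · have h3 : uu (π⁻¹ 9) = π⁻¹ 9 := π.injective (by simpa [← e] using hb h)
    have h4 : ∀ j : F, uu j = j → swap 9 j * uu * (swap 9 j)⁻¹ = uu := by decide +kernel
    refine key (π * swap 9 (π⁻¹ 9)) (fun _ => by simp) ?_
    conv_rhs => rw [← e, ← h4 _ h3]
    group
  · exact key π (fun h' => absurd h' h) e

theorem exists_perm {a b c d e f g h i j : F} (hn : [a, b, c, d, e, f, g, h, i, j].Nodup) : ∃ π : Perm F,
    π 0 = a ∧ π 1 = b ∧ π 2 = c ∧ π 3 = d ∧ π 4 = e ∧ π 5 = f ∧ π 6 = g ∧ π 7 = h ∧ π 8 = i ∧ π 9 = j :=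
  ⟨Equiv.ofBijective ![a, b, c, d, e, f, g, h, i, j] (Finite.injective_iff_bijective.1 (List.nodup_ofFn.1 hn)),
    rfl, rfl, rfl, rfl, rfl, rfl, rfl, rfl, rfl, rfl⟩

theorem exists_pair (hp : p * uu = uu * p) (h3 : p ^ 3 = 1) (h1 : p ≠ 1) :
    ∃ π : Perm F, sign π = 1 ∧ π 9 = 9 ∧ π * uu * π⁻¹ = uu ∧ π * ro * π⁻¹ = p := by
  obtain ⟨h8, h9, a, c, hn, hc, hd⟩ := fpair.app hp (cube_apply h3) (by
    by_contra! h; exact h1 (Equiv.ext h))
  have e : ∀ x, p (uu x) = uu (p x) := fun x => DFunLike.congr_fun hp x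
  have e' : ∀ x, uu (uu x) = x := by decide +kernel
  obtain ⟨π, v0, v1, v2, v3, v4, v5, v6, v7, v8, k3⟩ := exists_perm hn
  have w : ∀ (Q : F → Prop), Q 0 → Q 1 → Q 2 → Q 3 → Q 4 → Q 5 → Q 6 → Q 7 → Q 8 → Q 9 → ∀ x, Q x :=
    fun Q _ _ _ _ _ _ _ _ _ _ x => by fin_cases x <;> assumption
  have k1 : π * uu = uu * π := Equiv.ext (w (fun x => π (uu x) = uu (π x)) (v3.trans (by rw [v0]))
    (v4.trans (by rw [v1])) (v5.trans (by rw [v2])) (v0.trans (by rw [v3, e'])) (v1.trans (by rw [v4, e']))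
    (v2.trans (by rw [v5, e'])) (v7.trans (by rw [v6])) (v6.trans (by rw [v7, e']))
    (v8.trans (by rw [v8]; rfl)) (k3.trans (by rw [k3]; rfl)))
  have k2 : π * ro = p * π := Equiv.ext (w (fun x => π (ro x) = p (π x)) (v1.trans (by rw [v0]))
    (v2.trans (by rw [v1])) (v0.trans (by rw [v2, cube_apply h3])) (v4.trans (by rw [v3, e]))
    (v5.trans (by rw [v4, e])) (v3.trans (by rw [v5, e, cube_apply h3])) (v6.trans (by rw [v6, hc]))
    (v7.trans (by rw [v7, hd])) (v8.trans (by rw [v8, h8])) (k3.trans (by rw [k3, h9])))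
  rcases Int.units_eq_one_or (sign π) with s | s
  · exact ⟨π, s, k3, by rw [k1, mul_inv_cancel_right], by rw [k2, mul_inv_cancel_right]⟩
  · refine ⟨π * swap 6 7, by simp [s], k3, ?_, ?_⟩
    · rw [mul_assoc π, show swap 6 7 * uu = uu * swap 6 7 by decide +kernel, ← mul_assoc, k1, mul_assoc uu,
        mul_inv_cancel_right]
    · rw [mul_assoc π, show swap 6 7 * ro = ro * swap 6 7 by decide +kernel, ← mul_assoc, k2, mul_assoc p,
        mul_inv_cancel_right]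

theorem normal_fix (P : F → Prop) [DecidablePred P] (h5 : 5 ≤ Fintype.card {x // P x})
    {D : Subgroup (Perm F)} (hD : ∀ π, sign π = 1 → (∀ x, ¬ P x → π x = x) → ∀ d ∈ D, π * d * π⁻¹ ∈ D)
    {d : Perm F} (hd : d ∈ D) (h1 : sign d = 1) (h2 : ∀ x, ¬ P x → d x = x) (hne : d ≠ 1) {π : Perm F}
    (h3 : sign π = 1) (h4 : ∀ x, ¬ P x → π x = x) : π ∈ D := by
  let ι : alternatingGroup {x // P x} →* Perm F := (ofSubtype (p := P)).comp (alternatingGroup _).subtype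
  have hι : ∀ τ, sign τ = 1 → (∀ x, ¬ P x → τ x = x) → ∃ σ, ι σ = τ := by
    intro τ k1 k2
    have k3 : ∀ x, τ x ≠ x → P x := fun x hx => by
      by_contra h
      exact hx (k2 x h)
    have k4 : ∀ x, P (τ x) ↔ P x := fun x => by
      refine ⟨fun h => ?_, fun h => ?_⟩
      · by_contra h'
        exact h' (k2 x h' ▸ h)
      · by_contra h'
        exact h' ((τ.injective (k2 _ h')).symm ▸ h)
    exact ⟨⟨τ.subtypePerm k4, by rw [mem_alternatingGroup, sign_subtypePerm τ k4 k3]; exact k1⟩,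
      ofSubtype_subtypePerm k4 k3⟩
  have := alternatingGroup.isSimpleGroup (α := {x // P x}) (by rwa [Nat.card_eq_fintype_card])
  have hN : (D.comap ι).Normal := ⟨fun a ha b => by
    rw [Subgroup.mem_comap, map_mul, map_mul, map_inv]
    exact hD _ ((sign_ofSubtype _).trans b.2) (fun x hx => ofSubtype_apply_of_not_mem _ hx) _ ha⟩
  obtain ⟨a, rfl⟩ := hι d h1 h2
  obtain ⟨b, rfl⟩ := hι π h3 h4
  rcases hN.eq_bot_or_eq_top with e | e
  · exact absurd (by rw [Subgroup.mem_bot.1 (e.le hd), map_one]) hne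
  · exact e.ge (Subgroup.mem_top b)

end CL.StdA.T
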