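/-
Odd cores of extended centralizers of elements of order three with an isolated involution.
-/
import Cfsg.Agent.REC.Basic
import Cfsg.Agent.INV.TwoInv
import Cfsg.Agent.INV.ZStar

set_option autoImplicit false
set_option linter.unusedSectionVars false

namespace CL.StdA.T

open Subgroup Cfsg CL.TwoInv

variable {G : Type*} [Group G] {z d u g x y w : G}

theorem odd_of_cube (h : x ^ 3 = 1) : Odd (orderOf x) :=
  Odd.of_dvd_nat (by decide) (orderOf_dvd_of_pow_eq_one h)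

theorem odd_conj (h : Odd (orderOf x)) (g : G) : Odd (orderOf (g * x * g⁻¹)) := by rwa [orderOf_conj]

theorem odd_mul (h : x * y = y * x) (hx : Odd (orderOf x)) (hy : Odd (orderOf y)) : Odd (orderOf (x * y)) :=
  Odd.of_dvd_nat (hx.mul hy) (Commute.orderOf_mul_dvd_mul_orderOf h)

theorem exists_sqrt (h : Odd (orderOf x)) : ∃ n : ℕ, (x * x) ^ n = x ∧ x ^ n * x ^ n = x := by
  obtain ⟨m, hm⟩ := h
  have e : x ^ (2 * (m + 1)) = x := by
    rw [show 2 * (m + 1) = orderOf x + 1 by omega, pow_succ, pow_orderOf_eq_one, one_mul]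
  exact ⟨m + 1, by rw [← pow_two, ← pow_mul, e], by rw [← pow_add, ← two_mul, e]⟩

theorem mem_of_sq {K : Subgroup G} (h : Odd (orderOf x)) (hx : x * x ∈ K) : x ∈ K := by
  obtain ⟨n, e, -⟩ := exists_sqrt h
  exact e ▸ pow_mem hx n

theorem comm_of_sq (h : Odd (orderOf x)) (hx : x * x * y = y * (x * x)) : x * y = y * x :=
  mem_centralizer_singleton_iff.1 (mem_of_sq h (mem_centralizer_singleton_iff.2 hx))

theorem eq_one_of_sq (h : Odd (orderOf x)) (hx : x * x = 1) : x = 1 := mem_bot.1 (mem_of_sq h (mem_bot.2 hx))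

theorem eq_one_of_inv (h : Odd (orderOf x)) (h1 : z * x * z⁻¹ = x⁻¹) (h2 : x * z = z * x) : x = 1 :=
  eq_one_of_sq h (by rw [← h2, mul_inv_cancel_right] at h1; exact mul_eq_one_iff_eq_inv.2 h1)

theorem cj_of_comm (h : g * x = x * g) : g * x * g⁻¹ = x := by rw [h, mul_inv_cancel_right]

theorem comm_of_cj (h : g * x * g⁻¹ = x) : g * x = x * g := mul_inv_eq_iff_eq_mul.1 h

theorem comm_cj (h : x * y = y * x) (g : G) : g * x * g⁻¹ * (g * y * g⁻¹) = g * y * g⁻¹ * (g * x * g⁻¹) := by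
  rw [conj_mul, conj_mul, h]

theorem inv_cj (h : x * y * x⁻¹ = y⁻¹) (g : G) : g * x * g⁻¹ * (g * y * g⁻¹) * (g * x * g⁻¹)⁻¹ = (g * y * g⁻¹)⁻¹ := by
  rw [conj_inv, conj_inv, conj_mul, conj_mul, h]

theorem sq_cj (h : x * x = 1) (g : G) : g * x * g⁻¹ * (g * x * g⁻¹) = 1 := by rw [conj_mul, h]; group

theorem mem_zp (h : d ^ 3 = 1) (hx : x ∈ zpowers d) : x = 1 ∨ x = d ∨ x = d⁻¹ := by
  obtain ⟨k, rfl⟩ := hx
  have e : d ^ k = d ^ (k % 3) := zpow_eq_zpow_emod k (by exact_mod_cast h)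
  have : k % 3 = 0 ∨ k % 3 = 1 ∨ k % 3 = 2 := by omega
  rcases this with h1 | h1 | h1 <;> rw [h1] at e
  · exact Or.inl (by simpa using e)
  · exact Or.inr (Or.inl (by simpa using e))
  · refine Or.inr (Or.inr (e.trans (eq_inv_of_mul_eq_one_left ?_)))
    rw [← h]; group

/-- the elements that centralize or invert `d` -/
def ecent (d : G) : Subgroup G where
  carrier := {g | g * d * g⁻¹ = d ∨ g * d * g⁻¹ = d⁻¹}
  one_mem' := Or.inl (by group)
  mul_mem' {a b} ha hb := by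
    have e : a * b * d * (a * b)⁻¹ = a * (b * d * b⁻¹) * a⁻¹ := by group
    rcases hb with hb | hb <;> rw [Set.mem_ofPred_eq, e, hb]
    · exact ha
    · rw [← conj_inv, inv_eq_iff_eq_inv, inv_inj]; exact ha.symm
  inv_mem' {a} ha := by
    rcases ha with ha | ha
    · exact Or.inl (by conv_lhs => rw [← ha]
                       group)
    · refine Or.inr ?_
      have : d = a * d⁻¹ * a⁻¹ := by rw [← conj_inv, ha, inv_inv]
      conv_lhs => rw [this]
      group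

theorem mem_ecent : g ∈ ecent d ↔ g * d * g⁻¹ = d ∨ g * d * g⁻¹ = d⁻¹ := Iff.rfl

variable [Finite G]

/-- two distinct commuting involutions centralizing `x` give one that commutes with `z` and is not `z` -/
theorem exists_inv_ne {e e' : G} (z2 : z * z = 1) (hx : x * z = z * x) (e2 : e * e = 1) (e2' : e' * e' = 1)
    (h1 : e ≠ 1) (h1' : e' ≠ 1) (hne : e ≠ e') (hc : e * e' = e' * e) (h2 : x * e = e * x)
    (h2' : x * e' = e' * x) : ∃ w, w * w = 1 ∧ w ≠ 1 ∧ w ≠ z ∧ w * z = z * w ∧ x * w = w * x := by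
  by_contra! hh
  have key : ∀ w, w * w = 1 → w ≠ 1 → w * z = z * w → x * w = w * x → w = z := fun w a b c e => by
    by_contra h
    exact hh w a b h c e
  have hc : Commute x (e * z) := Commute.mul_right h2 hx
  rcases Nat.even_or_odd (orderOf (e * z)) with h | h
  · obtain ⟨k1, k2, k3⟩ := half_pow_spec e2 z2 (orderOf_pos _).ne' h
    have k4 := key _ (mul_self_of_orderOf_eq_two k1) (ne_one_of_orderOf_eq_two k1) k3 (hc.pow_right _)
    rw [k4] at k2
    obtain rfl := key e e2 h1 k2.symm h2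
    exact hne (key e' e2' h1' (by assumption : e * e' = e' * e).symm h2').symm
  · obtain ⟨k, hk⟩ := exists_conj_of_odd e2 z2 h
    have k1 := (hc.zpow_right k).eq
    generalize (e * z) ^ k = δ at hk k1
    have := key (δ * e' * δ⁻¹) (sq_cj e2' δ) (by simpa using h1')
      (by rw [← hk]; exact comm_cj (by assumption : e * e' = e' * e).symm δ)
      (by rw [← cj_of_comm k1.symm]; exact comm_cj h2' δ)
    exact hne (by simpa [← hk] using this.symm)

/-- `z` is the only involution of `D` -/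
theorem eq_of_no_inv {D : Subgroup G} (z2 : z * z = 1) (hz : z ∈ D)
    (h1 : ∀ y ∈ D, Odd (orderOf y) → z * y * z⁻¹ = y⁻¹ → y = 1)
    (h2 : ∀ w ∈ D, w * w = 1 → w ≠ 1 → w * z = z * w → w = z) (hw : w ∈ D) (w2 : w * w = 1) (w1 : w ≠ 1) :
    w = z := by
  rcases Nat.even_or_odd (orderOf (z * w)) with h | h
  · obtain ⟨k1, k2, k3⟩ := half_pow_spec z2 w2 (orderOf_pos _).ne' h
    rw [h2 _ (pow_mem (mul_mem hz hw) _) (mul_self_of_orderOf_eq_two k1) (ne_one_of_orderOf_eq_two k1) k2] at k3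
    exact h2 w hw w2 w1 k3.symm
  · have := h1 _ (mul_mem hz hw) h (conj_mul_left z2 w2)
    exact (mul_left_cancel (this.trans z2.symm))

/-- the odd core of the extended centralizer of `d` -/
structure Core (z d : G) (P : Subgroup G) : Prop where
  odd : ∀ y ∈ P, Odd (orderOf y)
  norm : ∀ g ∈ ecent d, ∀ y ∈ P, g * y * g⁻¹ ∈ P
  cen : ∀ y ∈ P, y * d = d * y
  self : d ∈ P
  mem : ∀ y, Odd (orderOf y) → y * d = d * y → z * y * z⁻¹ = y⁻¹ → y ∈ P

theorem exists_core (z2 : z * z = 1) (z1 : z ≠ 1) (d3 : d ^ 3 = 1) (zd : z * d = d * z)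
    (iso : ∀ w, w * w = 1 → w ≠ 1 → w * z = z * w → w * d = d * w → w = z) : ∃ P, Core z d P := by
  have hz : z ∈ ecent d := Or.inl (cj_of_comm zd)
  have hd : d ∈ ecent d := Or.inl (cj_of_comm rfl)
  have k1 : ∀ g ∈ ecent d, z * (g⁻¹ * d * g) = g⁻¹ * d * g * z := fun g hg => by
    rcases inv_mem hg with e | e <;> rw [inv_inv] at e <;> rw [e]
    exacts [zd, (Commute.inv_right zd).eq]
  have hi : IsIsolatedInvolution (⟨z, hz⟩ : ecent d) :=
    ⟨by rw [← orderOf_coe]; exact orderOf_eq_two_of z2 z1, fun g hg => Subtype.ext (iso (g * z * g⁻¹)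
      (sq_cj z2 g) (by simpa using z1) (congrArg Subtype.val hg.symm) (by
        have := comm_cj (k1 g g.2) g
        simpa [mul_assoc] using this))⟩
  have odd : ∀ y ∈ (oddCore (ecent d)).map (ecent d).subtype, Odd (orderOf y) := by
    rintro _ ⟨y, hy, rfl⟩
    exact (orderOf_coe y).symm ▸ CL.Rec.odd_orderOf_of_mem CL.Rec.odd_card_oddCore hy
  refine ⟨(oddCore (ecent d)).map (ecent d).subtype, odd, ?_, fun y hy => ?_, ⟨⟨d, hd⟩, ?_, rfl⟩,
    fun y h1 h2 h3 => mem_of_sq h1 (inv_mem_iff.1 ?_)⟩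
  · rintro g hg _ ⟨y, hy, rfl⟩
    exact ⟨_, (inferInstance : (oddCore (ecent d)).Normal).conj_mem y hy ⟨g, hg⟩, rfl⟩
  · rcases map_subtype_le _ hy with e | e
    · exact comm_of_cj e
    · refine comm_of_sq (odd y hy) (comm_of_cj ?_)
      calc _ = y * (y * d * y⁻¹) * y⁻¹ := by group
        _ = d := by rw [e, ← conj_inv, e, inv_inv]
  · have : (zpowers (⟨d, hd⟩ : ecent d)).Normal := ⟨fun a ha g => by
      obtain ⟨k, rfl⟩ := ha
      rw [← conj_zpow]
      refine zpow_mem ?_ k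
      rcases g.2 with e | e
      · rw [(Subtype.ext e : g * ⟨d, hd⟩ * g⁻¹ = ⟨d, hd⟩)]; exact mem_zpowers _
      · rw [(Subtype.ext e : g * ⟨d, hd⟩ * g⁻¹ = ⟨d, hd⟩⁻¹)]; exact inv_mem (mem_zpowers _)⟩
    refine CL.le_pPrimeCore ?_ (mem_zpowers _)
    rw [Nat.card_zpowers, ← orderOf_coe]
    exact Nat.coprime_two_right.2 (odd_of_cube d3)
  · refine ⟨_, CL.BS.zstar hi ⟨y, Or.inl (cj_of_comm h2)⟩, ?_⟩
    change z * y * z⁻¹ * y⁻¹ = _
    rw [h3, mul_inv_rev]

variable {P : Subgroup G}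

theorem Core.cen' (h : Core z d P) (hy : y ∈ P) (hx : x ∈ zpowers d) : x * y = y * x := by
  obtain ⟨k, rfl⟩ := hx
  exact (Commute.zpow_right (h.cen y hy) k).eq.symm

theorem Core.inv (h : Core z d P) (z2 : z * z = 1) (zd : z * d = d * z)
    (hf : ∀ y ∈ P, y * z = z * y → y ∈ zpowers d) (hy : y ∈ P) : z * y * z⁻¹ * y ∈ zpowers d := by
  have hz : z ∈ ecent d := Or.inl (cj_of_comm zd)
  have zi : z⁻¹ = z := inv_eq_of_mul_eq_one_right z2
  have hm : (z * y * z⁻¹)⁻¹ * y ∈ P := mul_mem (inv_mem (h.norm z hz y hy)) hy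
  obtain ⟨n, -, e⟩ := exists_sqrt (h.odd _ hm)
  have e1 : z * ((z * y * z⁻¹)⁻¹ * y) ^ n * z⁻¹ = (((z * y * z⁻¹)⁻¹ * y) ^ n)⁻¹ := by
    rw [← conj_pow, ← inv_pow]
    congr 1
    calc _ = z * z * y⁻¹ * (z⁻¹ * y * z⁻¹) := by group
      _ = _ := by rw [z2, one_mul]; nth_rewrite 1 [zi]; group
  have hw := pow_mem hm n
  generalize ((z * y * z⁻¹)⁻¹ * y) ^ n = w at e e1 hw
  have e2 : z * y * z⁻¹ = y * w⁻¹ * w⁻¹ := by rw [mul_assoc y, ← mul_inv_rev, e]; group
  have hc : y * w⁻¹ ∈ zpowers d := hf _ (mul_mem hy (inv_mem hw)) (comm_of_cj (by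
    rw [← conj_mul, ← conj_inv, e1, e2]; group)).symm
  have e3 : z * y * z⁻¹ * y = y * w⁻¹ * (y * w⁻¹) := by
    rw [e2, mul_assoc (y * w⁻¹), mul_left_cancel_iff]
    have := h.cen' hw hc
    calc w⁻¹ * y = w⁻¹ * (y * w⁻¹ * w) := by group
      _ = _ := by rw [this]; group
  exact e3 ▸ mul_mem hc hc

theorem Core.comm (h : Core z d P) (z2 : z * z = 1) (zd : z * d = d * z)
    (hf : ∀ y ∈ P, y * z = z * y → y ∈ zpowers d) (hx : x ∈ P) (hy : y ∈ P) :
    x⁻¹ * y⁻¹ * x * y ∈ zpowers d := by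
  have h1 := h.inv z2 zd hf hx
  have h2 := h.inv z2 zd hf hy
  have h3 := h.inv z2 zd hf (mul_mem hx hy)
  have h4 := h.cen' (inv_mem hx) h2
  have e : x⁻¹ * y⁻¹ * x * y = (z * y * z⁻¹ * y)⁻¹ * (z * x * z⁻¹ * x)⁻¹ * (z * (x * y) * z⁻¹ * (x * y)) := by
    calc _ = (z * y * z⁻¹ * y)⁻¹ * (z * y * z⁻¹ * y * x⁻¹) * (y⁻¹ * x * y) := by group
      _ = _ := by rw [h4]; group
  exact e ▸ mul_mem (mul_mem (inv_mem h2) (inv_mem h1)) h3

theorem inv_zp (hu : u * d * u⁻¹ = d⁻¹) (hx : x ∈ zpowers d) : u * x * u⁻¹ = x⁻¹ := by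
  obtain ⟨k, rfl⟩ := hx
  rw [← conj_zpow, hu, inv_zpow]

theorem cube_zp (d3 : d ^ 3 = 1) (hx : x ∈ zpowers d) : x ^ 3 = 1 := by
  rcases mem_zp d3 hx with e | e | e <;> simp [e, d3]

theorem Core.comm_of_fix (h : Core z d P) (z2 : z * z = 1) (zd : z * d = d * z)
    (hf : ∀ y ∈ P, y * z = z * y → y ∈ zpowers d) (d3 : d ^ 3 = 1) (hu : u * d * u⁻¹ = d⁻¹) (hx : x ∈ P)
    (hy : y ∈ P) (h1 : u * x = x * u) (h2 : u * y = y * u) : x * y = y * x := by
  have h3 := h.comm z2 zd hf hx hy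
  have h4 : Commute u (x⁻¹ * y⁻¹ * x * y) :=
    (((Commute.inv_right h1).mul_right (Commute.inv_right h2)).mul_right h1).mul_right h2
  have h5 := eq_one_of_inv (odd_of_cube (cube_zp d3 h3)) (inv_zp hu h3) h4.eq.symm
  calc x * y = y * x * (x⁻¹ * y⁻¹ * x * y) := by group
    _ = _ := by rw [h5, mul_one]

theorem Core.adj (h : Core z d P) (d3 : d ^ 3 = 1) (hu : u * d * u⁻¹ = d⁻¹) (hx : x * d = d * x)
    (h1 : ∀ y ∈ P, u * y = y * u → x * y = y * x) (hy : y ∈ P) (h2 : y⁻¹ * (u * y * u⁻¹) ∈ zpowers d) :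
    x * y = y * x := by
  have h3 := inv_zp hu h2
  have h4 := cube_zp d3 h2
  have h5 : y⁻¹ * (u * y * u⁻¹) ∈ P := zpowers_le.2 h.self h2
  have h6 : Commute x (y⁻¹ * (u * y * u⁻¹)) := by
    obtain ⟨k, e⟩ := h2
    exact e ▸ Commute.zpow_right hx k
  have h7 : u * y * u⁻¹ = y * (y⁻¹ * (u * y * u⁻¹)) := by group
  generalize y⁻¹ * (u * y * u⁻¹) = δ at h3 h4 h5 h6 h7
  have h8 : Commute x (y * (δ * δ)) := h1 _ (mul_mem hy (mul_mem h5 h5)) (comm_of_cj (by
    rw [← conj_mul, ← conj_mul, h3, h7, ← mul_one (y * δ * _), ← h4]; group; rw [zpow_two, mul_assoc]))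
  simpa [mul_assoc] using (h8.mul_right (h6.mul_right h6).inv_right).eq

theorem Core.comm_all (h : Core z d P) (z2 : z * z = 1) (zd : z * d = d * z)
    (hf : ∀ y ∈ P, y * z = z * y → y ∈ zpowers d) (d3 : d ^ 3 = 1) (u2 : u * u = 1) (uz : u * z = z * u)
    (hu : u * d * u⁻¹ = d⁻¹) (hx : x * d = d * x) (h1 : ∀ y ∈ P, u * y = y * u → x * y = y * x)
    (h2 : ∀ y ∈ P, u * z * y = y * (u * z) → x * y = y * x) (hy : y ∈ P) : x * y = y * x := by
  have hs := h.norm u (Or.inr hu) y hy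
  have e : u * (u * y * u⁻¹) * u⁻¹ = y := by
    calc _ = u * u * y * (u * u)⁻¹ := by group
      _ = y := by rw [u2]; group
  have hv : u * z * d * (u * z)⁻¹ = d⁻¹ := by rw [← hu, mul_assoc u, zd]; group
  have e' : ∀ a, u * z * a * (u * z)⁻¹ = z * (u * a * u⁻¹) * z⁻¹ := fun a => by rw [uz]; group
  have k0 := e'  (y * (u * y * u⁻¹)⁻¹)
  rw [← conj_mul (b := u), ← conj_inv (b := u), e] at k0
  have k1 := h.adj d3 hu hx h1 (mul_mem hy hs) (by
    rw [← conj_mul, e]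
    convert h.comm z2 zd hf hs hy using 1
    group)
  generalize u * y * u⁻¹ = s at hs k0 k1
  have hm := mul_mem hy (inv_mem hs)
  have k2 := h.adj d3 hv hx h2 hm (by
    have a1 := h.inv z2 zd hf (inv_mem hm)
    have a2 := h.cen' hm a1
    rw [k0]
    convert a1 using 1
    rw [← mul_right_inj (y * s⁻¹), ← a2]; group)
  have k3 : Commute x (y⁻¹ * s⁻¹⁻¹ * y * s⁻¹) := by
    rw [← inv_inv s] at hs
    have a1 := h.comm z2 zd hf hy (inv_mem_iff.1 hs)
    obtain ⟨k, e⟩ := a1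
    exact e ▸ Commute.zpow_right hx k
  refine (comm_of_sq (h.odd y hy) ?_).symm
  have := ((Commute.mul_right k1 k2).mul_right k3.inv_right).eq
  convert this.symm using 2 <;> group

end CL.StdA.T
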