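/-
An involution centralizer `2·A₉` or `2·A₁₀`: the model and the local facts.
-/
import Cfsg.Agent.INV.STD.AltI
import Cfsg.Agent.INV.STD.AltJ

set_option autoImplicit false
set_option linter.unusedSectionVars false

namespace CL.StdA.T

open Subgroup Equiv Equiv.Perm CL.TwoInv

variable {G : Type*} [Group G]

/-- the centralizer of `z` is `2·A₁₀`, or `2·A₉` if `b` holds; `A h p`: `h` induces `p` -/
structure Ctx (z : G) (A : G → Perm F → Prop) (b : Prop) : Prop where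
  zsq : z * z = 1
  zne : z ≠ 1
  ex : ∀ {h}, h * z = z * h → ∃ p, A h p
  cen : ∀ {h p}, A h p → h * z = z * h
  mul : ∀ {h k p q}, A h p → A k q → A (h * k) (p * q)
  uniq : ∀ {h p q}, A h p → A h q → p = q
  ker : ∀ {h}, A h 1 → h = 1 ∨ h = z
  az : A z 1
  even : ∀ {h p}, A h p → sign p = 1
  fix : b → ∀ {h p}, A h p → p 9 = 9
  surj : ∀ p, sign p = 1 → (b → p 9 = 9) → ∃ h, A h p
  inv8 : ∀ {h p}, A h p → p * p = 1 → p ≠ 1 → (h * h = 1 ↔ p.support.card = 8)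

namespace Ctx

variable {z : G} {A : G → Perm F → Prop} {b : Prop} (C : Ctx z A b) {g h k x y w u ρ d : G} {p q r : Perm F}
include C

theorem one : A 1 1 := by simpa [C.zsq] using C.mul C.az C.az

theorem pow (h1 : A h p) (n : ℕ) : A (h ^ n) (p ^ n) := by
  induction n with
  | zero => simpa using C.one
  | succ n ih => rw [pow_succ, pow_succ]; exact C.mul ih h1

theorem inv (h1 : A h p) : A h⁻¹ p⁻¹ := by
  obtain ⟨q, hq⟩ := C.ex (h := h⁻¹) (Commute.inv_left (C.cen h1))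
  rwa [← eq_inv_of_mul_eq_one_left (C.uniq (C.mul hq h1) (by simpa using C.one))]

theorem conj (h1 : A g q) (h2 : A h p) : A (g * h * g⁻¹) (q * p * q⁻¹) := C.mul (C.mul h1 h2) (C.inv h1)

theorem eq_or (h1 : A h p) (h2 : A k p) : h = k ∨ h = k * z :=
  (C.ker (h := k⁻¹ * h) (by simpa using C.mul (C.inv h2) h1)).imp (fun e => (inv_mul_eq_one.1 e).symm)
    fun e => inv_mul_eq_iff_eq_mul.1 e

theorem eq_odd (h1 : A h p) (h2 : A k p) (o1 : Odd (orderOf h)) (o2 : Odd (orderOf k)) : h = k := by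
  refine (C.eq_or h1 h2).resolve_right fun e => C.zne (eq_one_of_sq ?_ C.zsq)
  rw [eq_inv_mul_iff_mul_eq.2 e.symm]
  exact odd_mul (by rw [e]; exact (Commute.inv_left ((Commute.refl k).mul_right (C.cen h2))).eq)
    (by rwa [orderOf_inv]) o1

theorem map_eq (h1 : A h p) (h2 : A k q) (e : h = k) : p = q := C.uniq h1 (e ▸ h2)

theorem map_comm (h1 : A h p) (h2 : A k q) (e : h * k = k * h) : p * q = q * p :=
  C.map_eq (C.mul h1 h2) (C.mul h2 h1) e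

theorem odd (h1 : A h p) (o : Odd (orderOf h)) : Odd (orderOf p) :=
  o.of_dvd_nat (orderOf_dvd_of_pow_eq_one (C.map_eq (C.pow h1 _) C.one (pow_orderOf_eq_one h)))

theorem conj_odd (h1 : A g q) (h2 : A h p) (h3 : A k r) (o1 : Odd (orderOf h)) (o2 : Odd (orderOf k))
    (e : q * p * q⁻¹ = r) : g * h * g⁻¹ = k :=
  C.eq_odd (e ▸ C.conj h1 h2) h3 (odd_conj o1 g) o2

theorem comm_odd (h1 : A g q) (h2 : A h p) (o : Odd (orderOf h)) (e : q * p = p * q) : g * h = h * g :=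
  comm_of_cj (C.conj_odd h1 h2 h2 o o (cj_of_comm e))

theorem sq_z (h1 : A h p) (h2 : p * p = 1) (h3 : p ≠ 1) (h4 : p.support.card ≠ 8) : h * h = z :=
  (C.ker (h2 ▸ C.mul h1 h1)).resolve_left fun e => h4 ((C.inv8 h1 h2 h3).1 e)

theorem sq_one (h1 : A h p) (h2 : p * p = 1) (h4 : p.support.card = 8) : h * h = 1 :=
  (C.inv8 h1 h2 (by rintro rfl; simp at h4)).2 h4

theorem lift3 (h3 : p ^ 3 = 1) (hb : b → p 9 = 9) : ∃ h, A h p ∧ h ^ 3 = 1 := by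
  obtain ⟨h, h1⟩ := C.surj p (sign_of_odd (by decide) h3) hb
  refine ⟨h ^ 4, by simpa [pow_succ _ 3, h3] using C.pow h1 4, ?_⟩
  rw [← pow_mul, show 4 * 3 = 3 * 2 * 2 from rfl, pow_mul, pow_mul, pow_two (h ^ 3)]
  rcases C.ker (h3 ▸ C.pow h1 3) with e | e <;> rw [e]
  · simp
  · rw [C.zsq, one_pow]

theorem inv_spec (h1 : A w q) (w2 : w * w = 1) (w1 : w ≠ 1) (wz : w ≠ z) :
    q * q = 1 ∧ q.support.card = 8 := by
  have e : q * q = 1 := C.map_eq (C.mul h1 h1) C.one w2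
  exact ⟨e, (C.inv8 h1 e fun e' => (C.ker (e' ▸ h1)).elim w1 wz).1 w2⟩

theorem conj_u (hu : A u uu) (hw : w * z = z * w) (w2 : w * w = 1) (w1 : w ≠ 1) (wz : w ≠ z) :
    ∃ h, h * z = z * h ∧ (h * u * h⁻¹ = w ∨ h * u * h⁻¹ = w * z) := by
  obtain ⟨q, hq⟩ := C.ex hw
  obtain ⟨e1, e2⟩ := C.inv_spec hq w2 w1 wz
  obtain ⟨π, s, hb, e⟩ := exists_conj_uu e1 e2 fun hb => C.fix hb hq
  obtain ⟨h, h1⟩ := C.surj π s hb
  exact ⟨h, C.cen h1, C.eq_or (e ▸ C.conj h1 hu) hq⟩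

theorem pair (hu : A u uu) (hρ : A ρ ro) (ρ3 : ρ ^ 3 = 1) (hx : x * z = z * x) (hw : w * z = z * w)
    (x3 : x ^ 3 = 1) (x1 : x ≠ 1) (w2 : w * w = 1) (w1 : w ≠ 1) (wz : w ≠ z) (c : x * w = w * x) :
    ∃ h, h * z = z * h ∧ h * ρ * h⁻¹ = x ∧ (h * u * h⁻¹ = w ∨ h * u * h⁻¹ = w * z) := by
  obtain ⟨q, hq⟩ := C.ex hw
  obtain ⟨p, hp⟩ := C.ex hx
  obtain ⟨e1, e2⟩ := C.inv_spec hq w2 w1 wz
  obtain ⟨π, s, hb, e⟩ := exists_conj_uu e1 e2 fun hb => C.fix hb hq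
  have p3 : p ^ 3 = 1 := C.map_eq (C.pow hp 3) C.one x3
  have p1 : p ≠ 1 := fun e => x1 (C.eq_odd (e ▸ hp) C.one (odd_of_cube x3) (by simp))
  obtain ⟨τ, s', h9, f1, f2⟩ := exists_pair (p := π⁻¹ * p * π⁻¹⁻¹)
    (by simpa [← e, mul_assoc] using comm_cj (C.map_comm hp hq c) π⁻¹) (by rw [conj_pow, p3]; group)
    (fun e => p1 (conj_eq_one_iff.1 e))
  obtain ⟨h, h1⟩ := C.surj (π * τ) (by simp [s, s']) fun h => by rw [mul_apply, h9, hb h]
  refine ⟨h, C.cen h1, C.conj_odd h1 hρ hp (odd_of_cube ρ3) (odd_of_cube x3) ?_,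
    C.eq_or (p := q) (by convert C.conj h1 hu using 1; rw [← e, ← f1, f1]; conv_lhs => rw [← f1]
                         group) hq⟩
  calc _ = π * (τ * ro * τ⁻¹) * π⁻¹ := by group
    _ = p := by rw [f2]; group

theorem cent_V (hu : A u uu) (hρ : A ρ ro) (hz : h * z = z * h) (h1 : h * u = u * h) (h2 : h * ρ = ρ * h) :
    ∃ i : ℕ, ∃ v, (v = 1 ∨ v = z ∨ v = u ∨ v = u * z) ∧ h = ρ ^ i * v := by
  obtain ⟨p, hp⟩ := C.ex hz
  have u2 := C.sq_one hu uu_sq su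
  have c : Commute ρ u := (C.comm_odd hu (C.pow hρ 4) (odd_of_cube (by
    rw [← pow_mul, show 4 * 3 = 3 * 2 * 2 from rfl, pow_mul, pow_mul, pow_two (ρ ^ 3)]
    rcases C.ker ((show ro ^ 3 = 1 by decide +kernel) ▸ C.pow hρ 3) with e | e <;> rw [e]
    · simp
    · rw [C.zsq, one_pow])) (by decide +kernel)).symm |> fun c => by
      rcases C.eq_or hρ ((show ro ^ 4 = ro by decide +kernel) ▸ C.pow hρ 4) with e | e <;> rw [e]
      exacts [c, Commute.mul_left c (C.cen hu).symm]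
  have key : ∀ i : ℕ, ∀ q, p = ro ^ i * q → q * q = 1 → q * uu * (q * uu) = 1 → q ≠ 1 → q * uu ≠ 1 →
      (q.support.card = 8 ↔ (q * uu).support.card = 8) := fun i q e e1 e2 n1 n2 => by
    have a : A ((ρ ^ i)⁻¹ * h) q := by simpa [e] using C.mul (C.inv (C.pow hρ i)) hp
    have c' : Commute ((ρ ^ i)⁻¹ * h) u := (c.pow_left i).inv_left.mul_left h1
    rw [← C.inv8 a e1 n1, ← C.inv8 (C.mul a hu) e2 n2, ← pow_two, ← pow_two, c'.mul_pow, pow_two u, u2, mul_one]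
  obtain ⟨i, e | e | e | e⟩ := p4 (C.map_comm hp hρ h2) (C.map_comm hp hu h1) (C.even hp)
  · rcases C.eq_or (e ▸ hp) (C.pow hρ i) with e | e
    exacts [⟨i, 1, by simp, by simpa using e⟩, ⟨i, z, by simp, e⟩]
  · rcases C.eq_or (e ▸ hp) (C.mul (C.pow hρ i) hu) with e | e
    exacts [⟨i, u, by simp, e⟩, ⟨i, u * z, by simp, e.trans (mul_assoc _ _ _)⟩]
  · exact absurd (key i _ e (by decide +kernel) (by decide +kernel) (by decide +kernel) (by decide +kernel))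
      (by decide +kernel)
  · exact absurd (key i _ e (by decide +kernel) (by decide +kernel) (by decide +kernel) (by decide +kernel))
      (by decide +kernel)

omit C in
theorem comm_d8 (h : p * d8 = d8 * p) : ∃ s : Fin 3, ∀ x : F, 6 ≤ x → x ≠ 9 → p x = (d8 ^ (s : ℕ)) x := by
  have h1 : p 7 = d8 (p 6) := DFunLike.congr_fun h 6
  have h2 : p 8 = d8 (p 7) := DFunLike.congr_fun h 7
  have h3 : p 7 ≠ p 6 := p.injective.ne (by decide)
  have key : ∀ a : F, d8 a ≠ a → ∃ s : Fin 3, a = (d8 ^ (s : ℕ)) 6 ∧ d8 a = (d8 ^ (s : ℕ)) 7 ∧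
    d8 (d8 a) = (d8 ^ (s : ℕ)) 8 := by decide +kernel
  obtain ⟨s, k1, k2, k3⟩ := key (p 6) (h1 ▸ h3)
  refine ⟨s, fun x a b => ?_⟩
  obtain rfl | rfl | rfl : x = 6 ∨ x = 7 ∨ x = 8 := by clear h1 h2 h3 k1 k2 k3; revert x; decide
  exacts [k1, h1.trans k2, by rw [h2, h1, k3]]

theorem iso (hd : A d d8) (w2 : w * w = 1) (w1 : w ≠ 1) (hw : w * z = z * w) (c : w * d = d * w) : w = z := by
  by_contra wz
  obtain ⟨q, hq⟩ := C.ex hw
  obtain ⟨e1, e2⟩ := C.inv_spec hq w2 w1 wz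
  obtain ⟨s, hs⟩ := comm_d8 (C.map_comm hq hd c)
  have k : ∀ s : Fin 3, s ≠ 0 → 6 ≤ (d8 ^ (s : ℕ)) 6 ∧ (d8 ^ (s : ℕ)) 6 ≠ 9 ∧
    (d8 ^ (s : ℕ)) ((d8 ^ (s : ℕ)) 6) ≠ 6 := by decide +kernel
  by_cases h0 : s = 0
  · have : q.support ⊆ {0, 1, 2, 3, 4, 5, 9} := fun x hx => by
      by_contra hn
      have : 6 ≤ x ∧ x ≠ 9 := by clear hx; revert x; decide
      exact mem_support.1 hx (by simpa [h0] using hs x this.1 this.2)
    exact absurd (e2 ▸ Finset.card_le_card this) (by decide)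
  · obtain ⟨k1, k2, k3⟩ := k s h0
    exact k3 (by rw [← hs _ k1 k2, ← hs 6 le_rfl (by decide)]; exact DFunLike.congr_fun e1 6)

theorem core_fix {P : Subgroup G} (hP : Core z d P) (hd : A d d8) (d3 : d ^ 3 = 1) (y : G) (hy : y ∈ P)
    (hz : y * z = z * y) : y ∈ zpowers d := by
  classical
  obtain ⟨p, hp⟩ := C.ex hz
  obtain ⟨s, hs⟩ := comm_d8 (C.map_comm hp hd (hP.cen y hy))
  have a := C.mul (C.inv (C.pow hd s)) hp
  have m := mul_mem (inv_mem (pow_mem hP.self s)) hy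
  by_cases h1 : (d8 ^ (s : ℕ))⁻¹ * p = 1
  · rw [← inv_mul_eq_one.1 (C.eq_odd (h1 ▸ a) C.one (hP.odd _ m) (by simp))]
    exact npow_mem_zpowers _ _
  let D : Subgroup (Perm F) :=
    { carrier := {p | ∃ y ∈ P, A y p}
      one_mem' := ⟨1, one_mem _, C.one⟩
      mul_mem' := fun ⟨x, a, b⟩ ⟨y, c, d⟩ => ⟨_, mul_mem a c, C.mul b d⟩
      inv_mem' := fun ⟨x, a, b⟩ => ⟨_, inv_mem a, C.inv b⟩ }
  obtain ⟨t, t1, t2⟩ : tt ∈ D := by
    refine normal_fix (D := D) (fun x => x < 6 ∨ x = 9 ∧ ¬ b) ?_ ?_ ⟨_, m, a⟩ (C.even a) (fun x hx => ?_) h1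
      (by simp [tt]) fun x hx => ?_
    · exact le_trans (by decide) (Fintype.card_subtype_mono (fun x : F => x < 6) _ fun x hx => Or.inl hx)
    · rintro π s1 s2 _ ⟨x, x1, x2⟩
      obtain ⟨g, hg⟩ := C.surj π s1 fun hb => s2 9 (by simp [hb])
      refine ⟨_, hP.norm g (Or.inl (cj_of_comm (C.comm_odd hg hd (odd_of_cube d3) (Disjoint.commute fun i => ?_).eq)))
        x x1, C.conj hg x2⟩
      by_cases hi : 6 ≤ i ∧ i ≠ 9
      · exact Or.inl (s2 i (by simp [hi]))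
      · exact Or.inr (by revert i; decide +kernel)
    · rw [mul_apply, inv_eq_iff_eq]
      by_cases h9 : x = 9
      · have hb : b := by by_contra hb; exact hx (Or.inr ⟨h9, hb⟩)
        rw [h9, C.fix hb hp, C.fix hb (C.pow hd s)]
      · exact hs x (not_lt.1 fun h => hx (Or.inl h)) h9
    · have : 6 ≤ x := not_lt.1 fun h => hx (Or.inl h)
      clear hx; revert x; decide +kernel
  exact absurd (eq_one_of_sq (C.odd t2 (hP.odd t t1)) (by decide +kernel)) (by decide +kernel)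

end Ctx

end CL.StdA.T
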