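/-
An involution centralizer `2·A₉` or `2·A₁₀` with fusion: the involution inverts no element of odd order
that centralizes three commuting lifts of `3`-cycles.
-/
import Cfsg.Agent.INV.STD.AltK

set_option autoImplicit false
set_option linter.unusedSectionVars false

namespace CL.StdA.T

open Subgroup Equiv Equiv.Perm CL.TwoInv

variable {G : Type*} [Group G]

/-- lifts of the basic permutations -/
structure Fr (z : G) (A : G → Perm F → Prop) (b : Prop) (c₁ c₂ d u t : G) : Prop extends Ctx z A b where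
  a1 : A c₁ c1
  a2 : A c₂ c2
  ad : A d d8
  au : A u uu
  att : A t tt
  o1 : c₁ ^ 3 = 1
  o2 : c₂ ^ 3 = 1
  od : d ^ 3 = 1

/-- `k` centralizes `ρ` and rotates the involutions `z`, `u`, `u z` -/
structure Rt (z u ρ k : G) : Prop where
  kρ : k * ρ = ρ * k
  kz : k * z * k⁻¹ = u
  ku : k * u * k⁻¹ = u * z

variable {z : G} {A : G → Perm F → Prop} {b : Prop} {c₁ c₂ d u t g h k x y w : G} {p q : Perm F}

theorem Ctx.exists_fr (C : Ctx z A b) : ∃ c₁ c₂ d u t, Fr z A b c₁ c₂ d u t := by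
  obtain ⟨c₁, a1, o1⟩ := C.lift3 (p := c1) (by decide +kernel) fun _ => rfl
  obtain ⟨c₂, a2, o2⟩ := C.lift3 (p := c2) (by decide +kernel) fun _ => rfl
  obtain ⟨d, a3, o3⟩ := C.lift3 (p := d8) (by decide +kernel) fun _ => rfl
  obtain ⟨u, a4⟩ := C.surj uu (by simp [uu]) fun _ => rfl
  obtain ⟨t, a5⟩ := C.surj tt (by simp [tt]) fun _ => rfl
  exact ⟨c₁, c₂, d, u, t, C, a1, a2, a3, a4, a5, o1, o2, o3⟩

/-- elements of odd order that centralize `c₁` and `c₂` and are inverted by `z` -/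
structure Iv (z c₁ c₂ y : G) : Prop where
  odd : Odd (orderOf y)
  h1 : y * c₁ = c₁ * y
  h2 : y * c₂ = c₂ * y
  inv : z * y * z⁻¹ = y⁻¹

/-- elements that centralize `ρ` and `z` and are inverted by `u` -/
structure Bx (z u ρ y : G) : Prop where
  odd : Odd (orderOf y)
  h1 : ρ * y = y * ρ
  h2 : z * y = y * z
  inv : u * y * u⁻¹ = y⁻¹

theorem comm_of_or (h : x * w = w * x) (e : w = y ∨ w = y⁻¹) : x * y = y * x := by
  rcases e with rfl | rfl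
  exacts [h, Commute.inv_right_iff.1 h]

namespace Fr

variable (C : Fr z A b c₁ c₂ d u t)
include C

theorem c12 : c₁ * c₂ = c₂ * c₁ := C.comm_odd C.a1 C.a2 (odd_of_cube C.o2) (by decide +kernel)
theorem aρ : A (c₁ * c₂) ro := C.mul C.a1 C.a2
theorem oρ : (c₁ * c₂) ^ 3 = 1 := by rw [Commute.mul_pow C.c12, C.o1, C.o2, one_mul]
theorem aa' : A (c₁ * c₂ ^ 2) aa := C.mul C.a1 (C.pow C.a2 2)
theorem oa : (c₁ * c₂ ^ 2) ^ 3 = 1 := by
  rw [(Commute.pow_right C.c12 2).mul_pow, C.o1, ← pow_mul, mul_comm, pow_mul, C.o2, one_pow, one_mul]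
theorem u2 : u * u = 1 := C.sq_one C.au uu_sq su
theorem uz : u * z = z * u := C.cen C.au
theorem u1 : u ≠ 1 := fun e => absurd (C.map_eq C.au C.one e) (by decide +kernel)
theorem un : u ≠ z := fun e => absurd (C.map_eq C.au C.az e) (by decide +kernel)
theorem t2 : t * t = z := C.sq_z C.att (by decide +kernel) (by decide +kernel) (by decide +kernel)
theorem tz : t * z * t⁻¹ = z := cj_of_comm (C.cen C.att)
theorem uρ : u * (c₁ * c₂) = c₁ * c₂ * u := C.comm_odd C.au C.aρ (odd_of_cube C.oρ) (by decide +kernel)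
theorem tρ : t * (c₁ * c₂) * t⁻¹ = (c₁ * c₂)⁻¹ := C.conj_odd C.att C.aρ (C.inv C.aρ) (odd_of_cube C.oρ)
  (by rw [orderOf_inv]; exact odd_of_cube C.oρ) (by decide +kernel)
theorem ud : u * d * u⁻¹ = d⁻¹ := C.conj_odd C.au C.ad (C.inv C.ad) (odd_of_cube C.od)
  (by rw [orderOf_inv]; exact odd_of_cube C.od) (by decide +kernel)

theorem tu : t * u * t⁻¹ = u * z := by
  refine (C.eq_or ((show tt * uu * tt⁻¹ = uu by decide +kernel) ▸ C.conj C.att C.au) C.au).resolve_left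
    fun e => C.zne ?_
  have := C.sq_one (C.mul C.att C.au) (by decide +kernel) (by decide +kernel)
  rwa [← pow_two, Commute.mul_pow (comm_of_cj e), pow_two, pow_two, C.t2, C.u2, mul_one] at this

theorem tuz : t * (u * z) * t⁻¹ = u := by rw [← conj_mul, C.tu, C.tz, mul_assoc, C.zsq, mul_one]

theorem exists_rt (h1 : g * z * g⁻¹ ≠ z) (h2 : g * z * g⁻¹ * z = z * (g * z * g⁻¹)) : ∃ k, Rt z u (c₁ * c₂) k := by
  have zρ := C.cen C.aρ
  have key : ∀ w g, g * z * g⁻¹ = w → w * z = z * w → w ≠ z → w * (c₁ * c₂) = c₁ * c₂ * w →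
      ∃ g, g * (c₁ * c₂) = c₁ * c₂ * g ∧ g * z * g⁻¹ = w ∧ (g * u * g⁻¹ = z ∨ g * u * g⁻¹ = z * w) := by
    rintro _ g rfl k1 k2 k3
    obtain ⟨h, e1, e2, e3⟩ := C.pair C.au C.aρ C.oρ (x := g⁻¹ * (c₁ * c₂) * g⁻¹⁻¹) (w := g⁻¹ * z * g⁻¹⁻¹)
      (by simpa [mul_assoc] using (comm_cj k3 g⁻¹).symm) (by simpa [mul_assoc] using (comm_cj k1 g⁻¹).symm)
      (by rw [conj_pow, C.oρ]; group) (fun e => absurd (C.map_eq C.aρ C.one (conj_eq_one_iff.1 e)) (by decide +kernel))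
      (sq_cj C.zsq _) (fun e => C.zne (conj_eq_one_iff.1 e)) (fun e => k2 (by conv_lhs => rw [← e]
                                                                              group)) (comm_cj zρ _)
    have e : ∀ a, g * h * a * (g * h)⁻¹ = g * (h * a * h⁻¹) * g⁻¹ := fun a => by group
    refine ⟨g * h, comm_of_cj (by rw [e, e2]; group), by rw [e, cj_of_comm e1], ?_⟩
    rcases e3 with e3 | e3 <;> rw [e, e3]
    exacts [Or.inl (by group), Or.inr (by group)]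
  obtain ⟨g₁, e₁⟩ : ∃ g, g * z * g⁻¹ = u := by
    obtain ⟨h, e1, e | e⟩ := C.conj_u C.au h2 (sq_cj C.zsq g) (fun e => C.zne (conj_eq_one_iff.1 e)) h1
    · exact ⟨h⁻¹ * g, by rw [← mul_left_inj h⁻¹, ← mul_right_inj h, ← mul_assoc, ← mul_assoc, ← mul_assoc h u, e]; group⟩
    · refine ⟨t * h⁻¹ * g, ?_⟩
      have : h * (u * z) * h⁻¹ = g * z * g⁻¹ := by
        rw [← conj_mul, e, cj_of_comm e1, mul_assoc, C.zsq, mul_one]
      calc _ = t * (h⁻¹ * (g * z * g⁻¹) * h) * t⁻¹ := by group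
        _ = u := by rw [← this, ← C.tuz]; congr 2; rw [C.tuz]; group
  have e : ∀ a b c : G, a * b * c * (a * b)⁻¹ = a * (b * c * b⁻¹) * a⁻¹ := fun a b c => by group
  have zu : z * (u * z) = u := by rw [C.uz, ← mul_assoc, C.zsq, one_mul]
  obtain ⟨g, k1, k2, k3 | k3⟩ := key u g₁ e₁ C.uz C.un C.uρ
  · obtain ⟨g', l1, l2, l3 | l3⟩ := key (u * z) (t * g₁) (by rw [e, e₁, C.tu])
      (by rw [zu, mul_assoc, C.zsq, mul_one]) (fun e => C.u1 (mul_eq_right.1 e))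
      (Commute.mul_left C.uρ zρ.symm)
    · exact ⟨g' * g', Commute.mul_left l1 l1, by rw [e, l2, ← conj_mul, l2, l3, zu], by rw [e, l3, l2]⟩
    · exact ⟨g' * g, Commute.mul_left l1 k1, by rw [e, k2, l3, zu], by rw [e, k3, l2]⟩
  · exact ⟨g, k1, k2, k3.trans C.uz.symm⟩

variable [Finite G]

theorem core : ∃ P, Core z d P ∧ ∀ y ∈ P, y * z = z * y → y ∈ zpowers d := by
  obtain ⟨P, hP⟩ := exists_core C.zsq C.zne C.od (C.cen C.ad).symm fun w a b c e => C.iso C.ad a b c e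
  exact ⟨P, hP, C.core_fix hP C.ad C.od⟩

theorem comm_Iv (hx : Iv z c₁ c₂ x) (hy : Iv z c₁ c₂ y) : x * y = y * x := by
  obtain ⟨P, hP, hf⟩ := C.core
  have key : ∀ c p π, A c p → c ^ 3 = 1 → sign π = 1 → π 9 = 9 → π * p * π⁻¹ = d8 → x * c = c * x →
      y * c = c * y → x⁻¹ * y⁻¹ * x * y ∈ zpowers c := fun c p π h1 h2 h3 h4 h5 h6 h7 => by
    obtain ⟨g, hg⟩ := C.surj π h3 fun _ => h4
    have e := C.conj_odd hg h1 C.ad (odd_of_cube h2) (odd_of_cube C.od) h5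
    have e' := cj_of_comm (C.cen hg)
    obtain ⟨n, hn⟩ := hP.comm C.zsq (C.cen C.ad).symm hf
      (hP.mem _ (odd_conj hx.odd g) (e ▸ comm_cj h6 g) (e' ▸ inv_cj hx.inv g))
      (hP.mem _ (odd_conj hy.odd g) (e ▸ comm_cj h7 g) (e' ▸ inv_cj hy.inv g))
    refine ⟨n, (MulAut.conj g).injective ?_⟩
    simpa only [map_mul, map_inv, map_zpow, MulAut.conj_apply, e] using hn
  have k1 := key c₁ c1 (swap 0 6 * swap 1 7 * (swap 2 8 * swap 3 4)) C.a1 C.o1 (by simp) rfl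
    (by decide +kernel) hx.h1 hy.h1
  have k2 := key c₂ c2 (swap 3 6 * swap 4 7 * (swap 5 8 * swap 0 1)) C.a2 C.o2 (by simp) rfl
    (by decide +kernel) hx.h2 hy.h2
  have k3 : x⁻¹ * y⁻¹ * x * y = 1 := by
    rcases mem_zp C.o1 k1 with e | e | e
    · exact e
    all_goals rcases mem_zp C.o2 k2 with f | f | f
    · exact f
    · exact absurd (C.map_eq C.a1 C.a2 (e.symm.trans f)) (by decide +kernel)
    · exact absurd (C.map_eq C.a1 (C.inv C.a2) (e.symm.trans f)) (by decide +kernel)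
    · exact f
    · exact absurd (C.map_eq (C.inv C.a1) C.a2 (e.symm.trans f)) (by decide +kernel)
    · exact absurd (C.map_eq (C.inv C.a1) (C.inv C.a2) (e.symm.trans f)) (by decide +kernel)
  calc x * y = y * x * (x⁻¹ * y⁻¹ * x * y) := by group
    _ = _ := by rw [k3, mul_one]

variable (R : Rt z u (c₁ * c₂) k)
include R

theorem kuz : k * (u * z) * k⁻¹ = z := by rw [← conj_mul, R.ku, R.kz, C.uz, mul_assoc, C.u2, mul_one]

omit R in
theorem act_V {m : G} (hz : m * z = z * m) (h1 : m * u = u * m) (h2 : m * (c₁ * c₂) = c₁ * c₂ * m)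
    (hy : Bx z u (c₁ * c₂) y) : m * y * m⁻¹ = y ∨ m * y * m⁻¹ = y⁻¹ := by
  obtain ⟨i, v, hv, rfl⟩ := C.cent_V C.au C.aρ hz h1 h2
  have e : ∀ a b c : G, a * b * c * (a * b)⁻¹ = a * (b * c * b⁻¹) * a⁻¹ := fun a b c => by group
  have c : Commute ((c₁ * c₂) ^ i) y := Commute.pow_left hy.h1 i
  rcases hv with h | h | h | h <;> rw [h, e]
  · exact Or.inl (by simpa using cj_of_comm c)
  · exact Or.inl (by rw [cj_of_comm hy.h2, cj_of_comm c])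
  · exact Or.inr (by rw [hy.inv, cj_of_comm c.inv_right])
  · exact Or.inr (by rw [e, cj_of_comm hy.h2, hy.inv, cj_of_comm c.inv_right])

theorem tk : t⁻¹ * k * t * k * z = z * (t⁻¹ * k * t * k) ∧ t⁻¹ * k * t * k * u = u * (t⁻¹ * k * t * k) ∧
    t⁻¹ * k * t * k * (c₁ * c₂) = c₁ * c₂ * (t⁻¹ * k * t * k) := by
  have e : ∀ a, t⁻¹ * k * t * k * a * (t⁻¹ * k * t * k)⁻¹ = t⁻¹ * (k * (t * (k * a * k⁻¹) * t⁻¹) * k⁻¹) * t :=
    fun a => by group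
  refine ⟨comm_of_cj ?_, comm_of_cj ?_, comm_of_cj ?_⟩ <;> rw [e]
  · rw [R.kz, C.tu, C.kuz R]; conv_lhs => rw [← C.tz]
    group
  · rw [R.ku, C.tuz, R.ku, ← C.tu]; group
  · rw [cj_of_comm R.kρ, C.tρ, ← conj_inv, cj_of_comm R.kρ, ← C.tρ]; group

theorem tw (hy : Bx z u (c₁ * c₂) y) : k * (t * (k * y * k⁻¹) * t⁻¹) * k⁻¹ = t * y * t⁻¹ ∨
    k * (t * (k * y * k⁻¹) * t⁻¹) * k⁻¹ = (t * y * t⁻¹)⁻¹ := by
  obtain ⟨h1, h2, h3⟩ := C.tk R
  have e : k * (t * (k * y * k⁻¹) * t⁻¹) * k⁻¹ = t * (t⁻¹ * k * t * k * y * (t⁻¹ * k * t * k)⁻¹) * t⁻¹ := by group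
  rcases C.act_V h1 h2 h3 hy with h | h <;> rw [e, h]
  exacts [Or.inl rfl, Or.inr conj_inv.symm]

theorem sym (hy : Bx z u (c₁ * c₂) y) (h : x * (k * y * k⁻¹) = k * y * k⁻¹ * x) :
    t * y * t⁻¹ * (k * (t * x * t⁻¹) * k⁻¹) = k * (t * x * t⁻¹) * k⁻¹ * (t * y * t⁻¹) :=
  (comm_of_or (comm_cj (comm_cj h t) k) (C.tw R hy)).symm

omit R in
theorem Iv_t (hy : Iv z c₁ c₂ y) : Iv z c₁ c₂ (t * y * t⁻¹) := by
  have e1 := C.conj_odd C.att C.a1 (C.inv C.a1) (odd_of_cube C.o1)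
    (by rw [orderOf_inv]; exact odd_of_cube C.o1) (by decide +kernel)
  have e2 := C.conj_odd C.att C.a2 (C.inv C.a2) (odd_of_cube C.o2)
    (by rw [orderOf_inv]; exact odd_of_cube C.o2) (by decide +kernel)
  exact ⟨odd_conj hy.odd t, comm_of_or (comm_cj hy.h1 t) (Or.inr e1), comm_of_or (comm_cj hy.h2 t) (Or.inr e2),
    C.tz ▸ inv_cj hy.inv t⟩

theorem inv_k (hy : Bx z u (c₁ * c₂) y) : z * (k * y * k⁻¹) * z⁻¹ = (k * y * k⁻¹)⁻¹ := by
  refine C.kuz R ▸ inv_cj ?_ k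
  rw [mul_assoc u, hy.h2, ← hy.inv]; group

theorem Iv_k (hy : Bx z u (c₁ * c₂) y) (h : c₁ * c₂ ^ 2 * (k * y * k⁻¹) = k * y * k⁻¹ * (c₁ * c₂ ^ 2)) :
    Iv z c₁ c₂ (k * y * k⁻¹) := by
  have h1 : Commute (c₁ * c₂) (k * y * k⁻¹) := cj_of_comm R.kρ ▸ comm_cj hy.h1 k
  have e : c₁ * c₂ * (c₁ * c₂ ^ 2) = c₁ * c₁ := by
    rw [mul_assoc, ← mul_assoc c₂, ← C.c12, mul_assoc, ← pow_succ', C.o2, mul_one]
  have h2 : Commute c₁ (k * y * k⁻¹) := comm_of_sq (odd_of_cube C.o1) (e ▸ h1.mul_left h)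
  exact ⟨odd_conj hy.odd k, h2.symm, by simpa using (h2.inv_left.mul_left h1).symm.eq, C.inv_k R hy⟩

omit R in
theorem Bx_t (hy : Bx z u (c₁ * c₂) y) : Bx z u (c₁ * c₂) (t * y * t⁻¹) := by
  refine ⟨odd_conj hy.odd t, (comm_of_or (comm_cj hy.h1 t).symm (Or.inr C.tρ)).symm, C.tz ▸ comm_cj hy.h2 t,
    C.tuz ▸ inv_cj ?_ t⟩
  rw [mul_assoc u, hy.h2, ← hy.inv]; group

theorem star (hx : Bx z u (c₁ * c₂) x) (hy : Bx z u (c₁ * c₂) y)
    (h1 : c₁ * c₂ ^ 2 * (k * x * k⁻¹) = k * x * k⁻¹ * (c₁ * c₂ ^ 2))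
    (h2 : c₁ * c₂ ^ 2 * (k * y * k⁻¹) = k * y * k⁻¹ * (c₁ * c₂ ^ 2)) :
    x * (k * (t * y * t⁻¹) * k⁻¹) = k * (t * y * t⁻¹) * k⁻¹ * x := by
  have h3 := comm_cj (comm_of_or (comm_cj (C.comm_Iv (C.Iv_k R hx h1) (C.Iv_t (C.Iv_k R hy h2))) k) (C.tw R hy)) k
  have e : ∀ a, k * (k * (k * a * k⁻¹) * k⁻¹) * k⁻¹ = k * k * k * a * (k * k * k)⁻¹ := fun a => by group
  refine (comm_of_or h3.symm ?_).symm
  rw [e]
  refine C.act_V (comm_of_cj ?_) (comm_of_cj ?_) (comm_of_cj ?_) hx <;> rw [← e]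
  · rw [R.kz, R.ku, C.kuz R]
  · rw [R.ku, C.kuz R, R.kz]
  · simp only [cj_of_comm R.kρ]

omit R in
theorem Bx_ad (i j : ℕ) : Bx z u (c₁ * c₂) ((c₁ * c₂ ^ 2) ^ i * d ^ j) := by
  have c : Commute (c₁ * c₂ ^ 2) d := C.comm_odd C.aa' C.ad (odd_of_cube C.od) (by decide +kernel)
  have c1 : Commute (c₁ * c₂) d := C.comm_odd C.aρ C.ad (odd_of_cube C.od) (by decide +kernel)
  have c2 : Commute (c₁ * c₂) (c₁ * c₂ ^ 2) := C.comm_odd C.aρ C.aa' (odd_of_cube C.oa) (by decide +kernel)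
  have e := C.conj_odd C.au C.aa' (C.inv C.aa') (odd_of_cube C.oa)
    (by rw [orderOf_inv]; exact odd_of_cube C.oa) (by decide +kernel)
  refine ⟨odd_of_cube ?_, (c2.pow_right i).mul_right (c1.pow_right j),
    (C.cen (C.mul (C.pow C.aa' i) (C.pow C.ad j))).symm, ?_⟩
  · rw [(c.pow_pow i j).mul_pow, pow_right_comm, pow_right_comm d, C.oa, C.od]; simp
  · rw [← conj_mul, ← conj_pow, ← conj_pow, e, C.ud, inv_pow, inv_pow, ← mul_inv_rev, (c.pow_pow i j).eq]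

theorem not_da (h : d * (k * (c₁ * c₂ ^ 2) * k⁻¹) = k * (c₁ * c₂ ^ 2) * k⁻¹ * d) : False := by
  obtain ⟨P, hP, hf⟩ := C.core
  have zd := (C.cen C.ad).symm
  have ba : Bx z u (c₁ * c₂) (c₁ * c₂ ^ 2) := by simpa using C.Bx_ad 1 0
  have ta := C.conj_odd C.att C.aa' (C.inv C.aa') (odd_of_cube C.oa)
    (by rw [orderOf_inv]; exact odd_of_cube C.oa) (by decide +kernel)
  have td := C.comm_odd C.att C.ad (odd_of_cube C.od) (by decide +kernel)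
  have h' := C.sym R ba h
  rw [ta, cj_of_comm td] at h'
  have key : ∀ g v, v * d * v⁻¹ = d⁻¹ → g * z * g⁻¹ = v → g * (c₁ * c₂) = c₁ * c₂ * g →
      g * (c₁ * c₂ ^ 2) * g⁻¹ ∈ P → ∀ y ∈ P, v * y = y * v → c₁ * c₂ * y = y * (c₁ * c₂) := by
    rintro g _ k1 rfl k3 k4 y hy k5
    have k6 := comm_cj (hP.comm_of_fix C.zsq zd hf C.od k1 hy k4 k5 (comm_cj ba.h2 g)) g⁻¹
    have k7 := comm_cj k5 g⁻¹
    have e : ∀ a, g⁻¹ * (g * a * g⁻¹) * g⁻¹⁻¹ = a := fun a => by group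
    rw [e] at k6 k7
    obtain ⟨p, hp⟩ := C.ex k7.symm
    have o := odd_conj (hP.odd y hy) g⁻¹
    have := comm_cj (C.comm_odd C.aρ hp o (p8 (C.map_comm hp C.aa' k6) (C.odd hp o)).symm) g
    rw [cj_of_comm k3] at this
    simpa [mul_assoc] using this
  have m1 := hP.mem _ (odd_conj ba.odd k) h.symm (C.inv_k R ba)
  have m2 : k⁻¹ * (c₁ * c₂ ^ 2) * k⁻¹⁻¹ ∈ P := hP.mem _ (odd_conj ba.odd _) (by
    simpa [mul_assoc] using comm_cj (comm_of_or h'.symm (Or.inr rfl)).symm k⁻¹) (by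
    have := inv_cj ba.inv k⁻¹
    rwa [← R.kz, show k⁻¹ * (k * z * k⁻¹) * k⁻¹⁻¹ = z by group] at this)
  have all : ∀ y ∈ P, Commute (c₁ * c₂) y := fun y => hP.comm_all C.zsq zd hf C.od C.u2 C.uz C.ud
    (C.comm_odd C.aρ C.ad (odd_of_cube C.od) (by decide +kernel)) (key k u C.ud R.kz R.kρ m1)
    (key k⁻¹ (u * z) (by rw [← C.ud, mul_assoc u, zd]; group) (by conv_lhs => rw [← C.kuz R]
                                                                  group) (Commute.inv_left R.kρ) m2)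
  obtain ⟨g, hg⟩ := C.surj gg (by simp [gg]) fun _ => rfl
  have gd := C.comm_odd hg C.ad (odd_of_cube C.od) (by decide +kernel)
  have a1 : Commute (g * (c₁ * c₂) * g⁻¹) (k * (c₁ * c₂ ^ 2) * k⁻¹) := by
    have := comm_cj (all _ (hP.norm g⁻¹ (inv_mem (Or.inl (cj_of_comm gd))) _ m1)).eq g
    rwa [show ∀ a, g * (g⁻¹ * a * g⁻¹⁻¹) * g⁻¹ = a from fun a => by group] at this
  have a2 := ((all _ m1).mul_left a1).mul_left ((all _ m1).mul_left a1)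
  rw [C.sq_z (C.mul C.aρ (C.conj hg C.aρ)) (by decide +kernel) (by decide +kernel) (by decide +kernel)] at a2
  exact absurd (C.map_eq C.aa' C.one (conj_eq_one_iff.1
    (eq_one_of_inv (odd_conj ba.odd k) (C.inv_k R ba) a2.symm))) (by decide +kernel)

theorem nine {i j : ℕ} (hy : y = (c₁ * c₂ ^ 2) ^ i * d ^ j) (h0 : y ≠ 1)
    (h1 : c₁ * c₂ ^ 2 * (k * y * k⁻¹) = k * y * k⁻¹ * (c₁ * c₂ ^ 2)) (h2 : d * (k * y * k⁻¹) = k * y * k⁻¹ * d) :
    False := by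
  have c : Commute (c₁ * c₂ ^ 2) d := C.comm_odd C.aa' C.ad (odd_of_cube C.od) (by decide +kernel)
  have ta := C.conj_odd C.att C.aa' (C.inv C.aa') (odd_of_cube C.oa)
    (by rw [orderOf_inv]; exact odd_of_cube C.oa) (by decide +kernel)
  have td := cj_of_comm (C.comm_odd C.att C.ad (odd_of_cube C.od) (by decide +kernel))
  have root : ∀ (a w : G) (n : ℕ), a ^ 3 = 1 → a ^ n ≠ 1 → Commute w (a ^ n) → Commute w a := fun a w n e1 e2 e3 => by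
    rcases mem_zp e1 (npow_mem_zpowers a n) with e | e | e
    exacts [absurd e e2, e ▸ e3, Commute.inv_right_iff.1 (e ▸ e3)]
  have cube : ∀ a : G, a ^ 3 = 1 → (k * a * k⁻¹) ^ 3 = 1 := fun a e => by rw [conj_pow, e]; group
  have hb : Bx z u (c₁ * c₂) y := hy ▸ C.Bx_ad i j
  have ty : t * y * t⁻¹ = ((c₁ * c₂ ^ 2) ^ i)⁻¹ * d ^ j := by
    rw [hy, ← conj_mul, ← conj_pow, ← conj_pow, ta, td, inv_pow]
  by_cases hi : (c₁ * c₂ ^ 2) ^ i = 1
  · rw [hi, one_mul] at hy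
    rw [hy, ← conj_pow] at h1
    have := C.sym R (by simpa using C.Bx_ad 0 1) (root _ _ j (cube d C.od)
      (by rw [conj_pow, ← hy]; exact fun e => h0 (conj_eq_one_iff.1 e)) h1)
    rw [td, ta, ← conj_inv] at this
    exact C.not_da R (Commute.inv_right_iff.1 this)
  have o : Odd (orderOf ((k * (c₁ * c₂ ^ 2) * k⁻¹) ^ i)) := (odd_of_cube (cube _ C.oa)).of_dvd_nat (orderOf_pow_dvd i)
  refine C.not_da R (root _ _ i (cube _ C.oa) (by rw [conj_pow]; exact fun e => hi (conj_eq_one_iff.1 e)) ?_)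
  by_cases hj : d ^ j = 1
  · rw [hj, mul_one] at hy
    rwa [hy, ← conj_pow] at h2
  have r1 : Commute y (k * (t * y * t⁻¹) * k⁻¹) := C.star R hb hb h1 h1
  have r2 : Commute (t * y * t⁻¹) (k * (t * y * t⁻¹) * k⁻¹) := C.sym R hb (by
    conv_lhs => lhs; rw [hy]
    conv_rhs => rhs; rw [hy]
    exact (Commute.pow_left h1 i).mul_left (Commute.pow_left h2 j))
  have r3 := r1.mul_left r2
  have e : y * (t * y * t⁻¹) = d ^ j * d ^ j := by
    rw [ty, hy, (c.pow_pow i j).eq]; group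
  have r4 : Commute d (k * (t * y * t⁻¹) * k⁻¹) := (root d _ j C.od hj (comm_of_sq
    ((odd_of_cube C.od).of_dvd_nat (orderOf_pow_dvd j)) (e ▸ r3)).symm).symm
  have r5 := Commute.mul_right h2 r4.inv_right
  have e' : k * y * k⁻¹ * (k * (t * y * t⁻¹) * k⁻¹)⁻¹ =
      (k * (c₁ * c₂ ^ 2) * k⁻¹) ^ i * (k * (c₁ * c₂ ^ 2) * k⁻¹) ^ i := by
    rw [ty, hy, conj_pow, conj_mul, conj_inv, conj_mul]; group
  exact (comm_of_sq o (e' ▸ r5).symm).symm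

theorem eq_one_Iv (hy : Iv z c₁ c₂ y) (hd : y * d = d * y) : y = 1 := by
  by_contra h0
  have td := cj_of_comm (C.comm_odd C.att C.ad (odd_of_cube C.od) (by decide +kernel))
  obtain ⟨y, hy, hd, h0, hu⟩ : ∃ y, Iv z c₁ c₂ y ∧ y * d = d * y ∧ y ≠ 1 ∧ y * u = u * y := by
    have e1 := C.conj_odd C.au C.a1 C.a2 (odd_of_cube C.o1) (odd_of_cube C.o2) (by decide +kernel)
    have e2 := C.conj_odd C.au C.a2 C.a1 (odd_of_cube C.o2) (odd_of_cube C.o1) (by decide +kernel)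
    have hs : Iv z c₁ c₂ (u * y * u⁻¹) := ⟨odd_conj hy.odd u, e2 ▸ comm_cj hy.h2 u, e1 ▸ comm_cj hy.h1 u,
      cj_of_comm C.uz ▸ inv_cj hy.inv u⟩
    have c := C.comm_Iv hy hs
    by_cases h : y * (u * y * u⁻¹) = 1
    · refine ⟨_, C.Iv_t hy, td ▸ comm_cj hd t, fun e => h0 (conj_eq_one_iff.1 e), C.tuz ▸ comm_cj ?_ t⟩
      refine (comm_of_cj ?_).symm
      calc _ = u * (z * y * z⁻¹) * u⁻¹ := by group
        _ = y := by rw [hy.inv, ← conj_inv, eq_inv_of_mul_eq_one_right h, inv_inv]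
    · refine ⟨_, ⟨odd_mul c hy.odd hs.odd, Commute.mul_left hy.h1 hs.h1, Commute.mul_left hy.h2 hs.h2, ?_⟩,
        Commute.mul_left hd (comm_of_or (comm_cj hd u) (Or.inr C.ud)), h, (comm_of_cj ?_).symm⟩
      · rw [← conj_mul, hy.inv, hs.inv, c, mul_inv_rev (u * y * u⁻¹)]
      · rw [← conj_mul, c, mul_left_cancel_iff]
        calc _ = u * u * y * (u * u)⁻¹ := by group
          _ = y := by rw [C.u2]; group
  have e : ∀ a, k⁻¹ * (k * a * k⁻¹) * k⁻¹⁻¹ = a := fun a => by group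
  have e' : ∀ a, k * (k⁻¹ * a * k⁻¹⁻¹) * k⁻¹ = a := fun a => by group
  have kρ : k⁻¹ * (c₁ * c₂) * k⁻¹⁻¹ = c₁ * c₂ := cj_of_comm (Commute.inv_left R.kρ)
  have ku : k⁻¹ * u * k⁻¹⁻¹ = z := by rw [← R.kz, e]
  have kz : k⁻¹ * z * k⁻¹⁻¹ = u * z := by conv_lhs => rw [← C.kuz R, e]
  have z0 : k⁻¹ * y * k⁻¹⁻¹ * z = z * (k⁻¹ * y * k⁻¹⁻¹) := ku ▸ comm_cj hu k⁻¹
  have ρ0 : k⁻¹ * y * k⁻¹⁻¹ * (c₁ * c₂) = c₁ * c₂ * (k⁻¹ * y * k⁻¹⁻¹) :=
    kρ ▸ comm_cj (Commute.mul_right hy.h1 hy.h2) k⁻¹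
  have u0 : k⁻¹ * y * k⁻¹⁻¹ * u * (k⁻¹ * y * k⁻¹⁻¹) * u = 1 := by
    have := inv_cj hy.inv k⁻¹
    rw [kz, mul_assoc u, ← z0] at this
    calc _ = k⁻¹ * y * k⁻¹⁻¹ * (u * (k⁻¹ * y * k⁻¹⁻¹ * z) * (u * z)⁻¹) * (u * u) := by group
      _ = 1 := by rw [this, C.u2]; group
  have o0 := odd_conj hy.odd k⁻¹
  obtain ⟨p, hp⟩ := C.ex z0
  have p1 := C.map_comm hp C.aρ ρ0
  have p3 := cube_of_odd p1 (C.odd hp o0)
  have pu : p * uu * p * uu = 1 := C.map_eq (C.mul (C.mul (C.mul hp C.au) hp) C.au) C.one u0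
  by_cases hb : b
  · obtain ⟨i, j, n, hn, f⟩ := p5 p1 p3 pu
    have key : ∀ i j : Fin 3, ∀ n : F, 8 ≤ n → (aa ^ (i : ℕ) * tau 6 7 n ^ (j : ℕ)) 9 = 9 →
      aa ^ (i : ℕ) * tau 6 7 n ^ (j : ℕ) = aa ^ (i : ℕ) * d8 ^ (j : ℕ) := by decide +kernel
    refine C.nine R (C.eq_odd ((f.trans (key i j n hn (f ▸ C.fix hb hp))) ▸ hp)
      (C.mul (C.pow C.aa' i) (C.pow C.ad j)) o0 (C.Bx_ad i j).odd) (fun e => h0 (conj_eq_one_iff.1 e)) ?_ ?_ <;> rw [e']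
    exacts [(Commute.mul_right hy.h1 (Commute.pow_right hy.h2 2)).symm, hd.symm]
  obtain ⟨r, hr⟩ := C.surj rr (by simp [rr, tt, ss]) fun h => absurd h hb
  have r2 := C.sq_one hr (by decide +kernel) (by decide +kernel)
  have ru2 := C.sq_one (C.mul hr C.au) (by decide +kernel) (by decide +kernel)
  have ri := inv_eq_of_mul_eq_one_right r2
  have ru : r * u = u * r := by
    rw [← inv_eq_of_mul_eq_one_right ru2, mul_inv_rev, ri, inv_eq_of_mul_eq_one_right C.u2]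
  have e1 := C.conj_odd hr C.a1 (C.inv C.a1) (odd_of_cube C.o1)
    (by rw [orderOf_inv]; exact odd_of_cube C.o1) (by decide +kernel)
  have e2 := C.conj_odd hr C.a2 (C.inv C.a2) (odd_of_cube C.o2)
    (by rw [orderOf_inv]; exact odd_of_cube C.o2) (by decide +kernel)
  have c := C.comm_Iv hy ⟨odd_conj hy.odd r, comm_of_or (comm_cj hy.h1 r) (Or.inr e1),
    comm_of_or (comm_cj hy.h2 r) (Or.inr e2), cj_of_comm (C.cen hr) ▸ inv_cj hy.inv r⟩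
  have z1 : k⁻¹ * r * k⁻¹⁻¹ * z = z * (k⁻¹ * r * k⁻¹⁻¹) := ku ▸ comm_cj ru k⁻¹
  have u1 : Commute (k⁻¹ * r * k⁻¹⁻¹) u := by
    have : Commute (k⁻¹ * r * k⁻¹⁻¹) (u * z) := kz ▸ comm_cj (C.cen hr) k⁻¹
    simpa [mul_assoc, C.zsq] using this.mul_right z1
  obtain ⟨q, hq⟩ := C.ex z1
  have ne : ∀ w p, A w p → p ≠ 1 → p ≠ uu → k⁻¹ * w * k⁻¹⁻¹ ≠ 1 ∧ k⁻¹ * w * k⁻¹⁻¹ ≠ z := fun w p a n1 n2 =>
    ⟨fun e => n1 (C.map_eq a C.one (conj_eq_one_iff.1 e)), fun e => n2 (C.map_eq a C.au (by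
      rw [← ku] at e; simpa using e))⟩
  obtain ⟨n1, n2⟩ := ne r _ hr (by decide +kernel) (by decide +kernel)
  obtain ⟨n3, n4⟩ := ne _ _ (C.mul hr (C.mul C.au C.az)) (by decide +kernel) (by decide +kernel)
  rw [← conj_mul, show k⁻¹ * (u * z) * k⁻¹⁻¹ = u by rw [← R.ku, e]] at n3 n4
  obtain ⟨q1, q2⟩ := C.inv_spec hq (sq_cj r2 _) n1 n2
  have q3 := (C.inv_spec (C.mul hq C.au) (by
    rw [← pow_two, u1.mul_pow, pow_two, pow_two, sq_cj r2, C.u2, one_mul]) n3 n4).2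
  have rρ := C.conj_odd hr C.aρ (C.inv C.aρ) (odd_of_cube C.oρ)
    (by rw [orderOf_inv]; exact odd_of_cube C.oρ) (by decide +kernel)
  have qi := inv_eq_of_mul_eq_one_right q1
  have q4 : q * ro * q * ro = 1 := by
    rw [mul_eq_one_iff_eq_inv, ← C.map_eq (C.conj hq C.aρ) (C.inv C.aρ) (kρ ▸ inv_cj rρ k⁻¹), qi]
  have f : ∀ a, k⁻¹ * r * k⁻¹⁻¹ * (k⁻¹ * a * k⁻¹⁻¹) * (k⁻¹ * r * k⁻¹⁻¹)⁻¹ = k⁻¹ * (r * a * r⁻¹) * k⁻¹⁻¹ :=
    fun a => by group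
  have a := C.conj hq hp
  rw [qi, f] at a
  have c' : r * y * r⁻¹ = y ∨ r * y * r⁻¹ = y⁻¹ := by
    rcases p6 p1 p3 pu (C.map_comm hq C.au u1) q1 q2 q3 q4 (C.map_comm hp a (comm_cj c _)) with h | h
    · exact Or.inl (mul_left_cancel (mul_right_cancel (C.eq_odd (h ▸ a) hp (odd_conj (odd_conj hy.odd r) _) o0)))
    · refine Or.inr ?_
      have := C.eq_odd (eq_inv_of_mul_eq_one_left h ▸ a) (C.inv hp) (odd_conj (odd_conj hy.odd r) _)
        (by rwa [orderOf_inv])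
      rw [conj_inv] at this
      simpa using this
  have c1 : Commute (d * (r * d * r⁻¹)⁻¹) y :=
    Commute.mul_left hd.symm (Commute.inv_left (comm_of_or (comm_cj hd r).symm c'))
  have c2 := c1.mul_left c1
  rw [C.sq_z (C.mul C.ad (C.inv (C.conj hr C.ad))) (by decide +kernel) (by decide +kernel) (by decide +kernel)] at c2
  exact h0 (eq_one_of_inv hy.odd hy.inv c2.symm)

end Fr

end CL.StdA.T
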