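/-
An involution centralizer `2·A₉` or `2·A₁₀` forces the involution to be isolated.
-/
import Cfsg.Agent.INV.STD.AltL
import Cfsg.Agent.TECH.SylIn

set_option autoImplicit false
set_option linter.unusedSectionVars false

namespace CL.StdA.T

open Subgroup Equiv Equiv.Perm CL.TwoInv CL.MSS

variable {G : Type*} [Group G] {z : G} {A : G → Perm F → Prop} {b : Prop} {c₁ c₂ d u t g h k x y w e f v ρ : G}
  {p q : Perm F}

theorem red (h : x ^ 3 = 1) (i : ℕ) : ∃ j : Fin 3, x ^ i = x ^ (j : ℕ) :=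
  ⟨⟨i % 3, Nat.mod_lt _ (by decide)⟩, pow_eq_pow_mod i h⟩

/-- the four-group `{1, z, u, u z}` -/
def Vs (z u v : G) : Prop := v = 1 ∨ v = z ∨ v = u ∨ v = u * z

/-- involutions outside the four-group that centralize it and commute with their conjugate under `ρ` -/
structure Sg (z u ρ e : G) : Prop where
  cen : ∀ v, Vs z u v → e * v = v * e
  sq : e * e = 1
  out : ¬ Vs z u e
  comm : e * (ρ * e * ρ⁻¹) = ρ * e * ρ⁻¹ * e

/-- `e` is a conjugate of `f` under a power of `ρ` modulo the four-group -/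
def Cl (z u ρ f e : G) : Prop := ∃ i : ℕ, ∃ v, Vs z u v ∧ e = ρ ^ i * f * (ρ ^ i)⁻¹ * v

/-- `g` centralizes `ρ` and normalizes the four-group -/
structure Nv (z u ρ g : G) : Prop where
  cen : g * ρ = ρ * g
  norm : ∀ v, Vs z u (g * v * g⁻¹) ↔ Vs z u v

theorem Nv.mul (h1 : Nv z u ρ g) (h2 : Nv z u ρ h) : Nv z u ρ (g * h) :=
  ⟨Commute.mul_left h1.cen h2.cen, fun v => by rw [← h2.norm v, ← h1.norm (h * v * h⁻¹)]; simp only [mul_assoc, mul_inv_rev]⟩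

theorem Nv.pow (h1 : Nv z u ρ g) (n : ℕ) : Nv z u ρ (g ^ n) := by
  induction n with
  | zero => exact ⟨by simp, by simp⟩
  | succ n ih => exact pow_succ g n ▸ ih.mul h1

theorem Sg.conj (h : Sg z u ρ e) (hg : Nv z u ρ g) : Sg z u ρ (g * e * g⁻¹) := by
  refine ⟨fun v hv => ?_, sq_cj h.sq g, fun hv => h.out ((hg.norm e).1 hv), ?_⟩
  · have e : v = g * (g⁻¹ * v * g) * g⁻¹ := by group
    rw [e] at hv ⊢
    exact comm_cj (h.cen _ ((hg.norm _).1 hv)) g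
  · have := comm_cj h.comm g
    rwa [← conj_mul (a := ρ * e), ← conj_mul (a := ρ), ← conj_inv, cj_of_comm hg.cen] at this

/-- the group generated by the three commuting lifts of `3`-cycles -/
def Fr.TT (C : Fr z A b c₁ c₂ d u t) : Subgroup G where
  carrier := {x | x ^ 3 = 1 ∧ ∃ i j l : ℕ, A x (c1 ^ i * c2 ^ j * d8 ^ l)}
  one_mem' := ⟨one_pow _, 0, 0, 0, by simpa using C.one⟩
  mul_mem' := by
    rintro x y ⟨x3, i, j, l, hx⟩ ⟨y3, i', j', l', hy⟩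
    have a : Commute c1 c2 := by unfold Commute SemiconjBy; decide +kernel
    have b : Commute c1 d8 := by unfold Commute SemiconjBy; decide +kernel
    have c : Commute c2 d8 := by unfold Commute SemiconjBy; decide +kernel
    have e : ∀ i j l i' j' l' : ℕ, c1 ^ i * c2 ^ j * d8 ^ l * (c1 ^ i' * c2 ^ j' * d8 ^ l') =
        c1 ^ (i + i') * c2 ^ (j + j') * d8 ^ (l + l') := fun i j l i' j' l' => by
      rw [Commute.mul_mul_mul_comm ((b.pow_pow _ _).mul_left (c.pow_pow _ _)).symm,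
        Commute.mul_mul_mul_comm (a.pow_pow _ _).symm, pow_add, pow_add, pow_add]
    refine ⟨?_, _, _, _, e .. ▸ C.mul hx hy⟩
    rw [Commute.mul_pow (C.comm_odd hx hy (odd_of_cube y3) (by rw [e, e, add_comm i, add_comm j, add_comm l])),
      x3, y3, one_mul]
  inv_mem' := by
    rintro x ⟨x3, i, j, l, hx⟩
    refine ⟨by rw [inv_pow, x3, inv_one], 2 * i, 2 * j, 2 * l, ?_⟩
    obtain ⟨i, hi⟩ := red (x := c1) (by decide +kernel) i
    obtain ⟨j, hj⟩ := red (x := c2) (by decide +kernel) j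
    obtain ⟨l, hl⟩ := red (x := d8) (by decide +kernel) l
    convert C.inv hx using 1
    rw [pow_mul', pow_mul', pow_mul', hi, hj, hl]
    clear hi hj hl; revert i j l; decide +kernel

namespace Fr

variable (C : Fr z A b c₁ c₂ d u t)
include C

theorem m1 : c₁ ∈ C.TT := ⟨C.o1, 1, 0, 0, by simpa using C.a1⟩
theorem m2 : c₂ ∈ C.TT := ⟨C.o2, 0, 1, 0, by simpa using C.a2⟩
theorem md : d ∈ C.TT := ⟨C.od, 0, 0, 1, by simpa using C.ad⟩

theorem T_fin (hx : x ∈ C.TT) : ∃ i j l : Fin 3, A x (c1 ^ (i : ℕ) * c2 ^ (j : ℕ) * d8 ^ (l : ℕ)) := by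
  obtain ⟨-, i, j, l, hx⟩ := hx
  obtain ⟨i, hi⟩ := red (x := c1) (by decide +kernel) i
  obtain ⟨j, hj⟩ := red (x := c2) (by decide +kernel) j
  obtain ⟨l, hl⟩ := red (x := d8) (by decide +kernel) l
  exact ⟨i, j, l, by rwa [hi, hj, hl] at hx⟩

theorem T_comm (hx : x ∈ C.TT) (hy : y ∈ C.TT) : x * y = y * x := by
  have h1 := (mul_mem hx hy).1
  have : x * y * x⁻¹ ∈ C.TT := mul_mem (mul_mem hx hy) (inv_mem hx)
  obtain ⟨i, j, l, a⟩ := C.T_fin hx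
  obtain ⟨y3, i', j', l', b⟩ := hy
  refine C.comm_odd a b (odd_of_cube y3) (Commute.mul_right (Commute.mul_right (Commute.pow_right ?_ _)
    (Commute.pow_right ?_ _)) (Commute.pow_right ?_ _)) <;>
  · unfold Commute SemiconjBy; clear a; revert i j l; decide +kernel

theorem Vs_mul (h1 : Vs z u v) (h2 : Vs z u w) : Vs z u (v * w) := by
  have a := C.uz
  have b := C.u2
  have c := C.zsq
  have e1 : z * (u * z) = u := by rw [a, ← mul_assoc, c, one_mul]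
  have e2 : u * (u * z) = z := by rw [← mul_assoc, b, one_mul]
  have e3 : u * z * z = u := by rw [mul_assoc, c, mul_one]
  have e4 : u * z * u = z := by rw [a, mul_assoc, b, mul_one]
  have e5 : u * z * (u * z) = 1 := by rw [← mul_assoc, e4, c]
  rcases h1 with h | h | h | h <;> rcases h2 with h' | h' | h' | h' <;> rw [h, h'] <;>
    simp [Vs, b, c, e1, e2, e3, e4, e5, ← a]

theorem Vs_sq (h1 : Vs z u v) : v * v = 1 := by
  rcases h1 with h | h | h | h <;> rw [h]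
  exacts [one_mul 1, C.zsq, C.u2, by rw [← pow_two, Commute.mul_pow C.uz, pow_two, pow_two, C.u2, C.zsq, one_mul]]

theorem Vs_comm (h1 : Vs z u v) (h2 : Vs z u w) : v * w = w * v := by
  rw [← inv_eq_of_mul_eq_one_right (C.Vs_sq (C.Vs_mul h1 h2)), mul_inv_rev, inv_eq_of_mul_eq_one_right (C.Vs_sq h1),
    inv_eq_of_mul_eq_one_right (C.Vs_sq h2)]

theorem Vs_ρ (h1 : Vs z u v) : Commute (c₁ * c₂) v := by
  rcases h1 with h | h | h | h <;> rw [h]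
  exacts [Commute.one_right _, C.cen C.aρ, C.uρ.symm, Commute.mul_right C.uρ.symm (C.cen C.aρ)]

theorem Sg_mul (h : Sg z u (c₁ * c₂) e) (hv : Vs z u v) : Sg z u (c₁ * c₂) (e * v) := by
  have c : Commute e v := h.cen v hv
  have c' : Commute (c₁ * c₂ * e * (c₁ * c₂)⁻¹) v := ((C.Vs_ρ hv).mul_left c).mul_left (C.Vs_ρ hv).inv_left
  refine ⟨fun w hw => Commute.mul_left (h.cen w hw) (C.Vs_comm hv hw), ?_, fun hw => h.out ?_, ?_⟩
  · rw [← pow_two, c.mul_pow, pow_two, pow_two, h.sq, C.Vs_sq hv, one_mul]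
  · simpa [mul_assoc, C.Vs_sq hv] using C.Vs_mul hw hv
  · rw [← conj_mul, cj_of_comm (C.Vs_ρ hv)]
    exact Commute.mul_left (Commute.mul_right h.comm c) (c'.symm.mul_right (Commute.refl v))

theorem cl_or (h1 : A e e1) (h2 : A f e2) (h : Sg z u (c₁ * c₂) x) :
    Cl z u (c₁ * c₂) e x ∨ Cl z u (c₁ * c₂) f x := by
  obtain ⟨p, hp⟩ := C.ex (h.cen z (by simp [Vs]))
  have h' := C.Sg_mul h (v := u) (by simp [Vs])
  obtain ⟨k1, k2⟩ := C.inv_spec hp h.sq (fun e => h.out (by simp [Vs, e])) fun e => h.out (by simp [Vs, e])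
  obtain ⟨-, k3⟩ := C.inv_spec (C.mul hp C.au) h'.sq (fun e => h'.out (by simp [Vs, e]))
    fun e => h'.out (by simp [Vs, e])
  obtain ⟨i, r, hr, q, hq, e'⟩ := psig (C.map_comm hp C.au (h.cen u (by simp [Vs]))) k1 k2 k3
    (C.map_comm hp (C.conj C.aρ hp) h.comm)
  have key : ∀ g, A g r → Cl z u (c₁ * c₂) g x := fun g hg => by
    obtain ⟨v, a, b, c⟩ : ∃ v, A v q ∧ Vs z u v ∧ Vs z u (v * z) := by
      rcases List.mem_pair.1 hq with rfl | rfl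
      exacts [⟨1, C.one, by simp [Vs], by simp [Vs]⟩, ⟨u, C.au, by simp [Vs], by simp [Vs]⟩]
    rcases C.eq_or (e' ▸ hp) (C.mul (C.conj (C.pow C.aρ i) hg) a) with e | e
    exacts [⟨i, v, b, e⟩, ⟨i, _, c, e.trans (mul_assoc _ _ _)⟩]
  rcases List.mem_pair.1 hr with rfl | rfl
  exacts [Or.inl (key e h1), Or.inr (key f h2)]

theorem cl_trans (hg : Nv z u (c₁ * c₂) g) (h1 : Cl z u (c₁ * c₂) e x) (h2 : Cl z u (c₁ * c₂) f (g * e * g⁻¹)) :
    Cl z u (c₁ * c₂) f (g * x * g⁻¹) := by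
  obtain ⟨i, v, hv, rfl⟩ := h1
  obtain ⟨j, w, hw, h2⟩ := h2
  refine ⟨i + j, _, C.Vs_mul hw ((hg.norm v).2 hv), ?_⟩
  rw [← conj_mul, ← conj_mul, ← conj_mul, ← conj_inv, cj_of_comm (Commute.pow_right hg.cen i), h2, mul_assoc _ _ ((c₁ * c₂) ^ i)⁻¹,
    mul_assoc _ w, ← ((C.Vs_ρ hw).pow_left i).inv_left]
  group

theorem Sg_of (h1 : A e p) (k1 : p * p = 1) (k2 : p.support.card = 8) (k3 : p * uu * (p * uu) = 1)
    (k4 : (p * uu).support.card = 8) (k5 : ∀ i j : Fin 3, i = j ∨ ∀ r, r = ro ^ (i : ℕ) * p * (ro ^ (i : ℕ))⁻¹ *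
      (ro ^ (j : ℕ) * p * (ro ^ (j : ℕ))⁻¹) → r * r = 1 ∧ r.support.card = 8) : Sg z u (c₁ * c₂) e ∧
      ∀ x y, Cl z u (c₁ * c₂) e x → Cl z u (c₁ * c₂) e y → x * y = y * x := by
  have s := C.sq_one h1 k1 k2
  have comm : ∀ a b : G, a * a = 1 → b * b = 1 → a * b * (a * b) = 1 → a * b = b * a := fun a b x y w => by
    rw [← inv_eq_of_mul_eq_one_right w, mul_inv_rev, inv_eq_of_mul_eq_one_right x, inv_eq_of_mul_eq_one_right y]
  have cu := comm _ _ s C.u2 (C.sq_one (C.mul h1 C.au) k3 k4)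
  have cv : ∀ v, Vs z u v → Commute e v := fun v hv => by
    rcases hv with h | h | h | h <;> rw [h]
    exacts [Commute.one_right _, C.cen h1, cu, Commute.mul_right cu (C.cen h1)]
  have cc : ∀ i j : ℕ, Commute ((c₁ * c₂) ^ i * e * ((c₁ * c₂) ^ i)⁻¹) ((c₁ * c₂) ^ j * e * ((c₁ * c₂) ^ j)⁻¹) := by
    intro i j
    obtain ⟨i, hi⟩ := red C.oρ i
    obtain ⟨j, hj⟩ := red C.oρ j
    rw [hi, hj]
    rcases k5 i j with rfl | h
    · exact Commute.refl _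
    · exact comm _ _ (sq_cj s _) (sq_cj s _) (C.sq_one (C.mul (C.conj (C.pow C.aρ i) h1) (C.conj (C.pow C.aρ j) h1))
        (h _ rfl).1 (h _ rfl).2)
  have cw : ∀ (i : ℕ) v, Vs z u v → Commute ((c₁ * c₂) ^ i * e * ((c₁ * c₂) ^ i)⁻¹) v := fun i v hv =>
    (((C.Vs_ρ hv).pow_left i).mul_left (cv v hv)).mul_left ((C.Vs_ρ hv).pow_left i).inv_left
  refine ⟨⟨cv, s, fun h => ?_, by simpa using (cc 0 1).eq⟩, ?_⟩
  · rcases h with h | h | h | h
    · simp [C.map_eq h1 C.one h] at k2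
    · simp [C.map_eq h1 C.az h] at k2
    · simp [C.map_eq h1 C.au h, uu_sq] at k4
    · simp [C.map_eq h1 (C.mul C.au C.az) h, uu_sq] at k4
  · rintro _ _ ⟨i, v, hv, rfl⟩ ⟨j, w, hw, rfl⟩
    exact ((cc i j).mul_right (cw i w hw)).mul_left ((cw j v hv).symm.mul_right (C.Vs_comm hv hw))

variable (R : Rt z u (c₁ * c₂) k) [Finite G]
include R

theorem nv : Nv z u (c₁ * c₂) k := by
  have a : ∀ v, Vs z u v → Vs z u (k * v * k⁻¹) := fun v h => by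
    rcases h with h | h | h | h <;> rw [h]
    exacts [by simp [Vs], by simp [Vs, R.kz], by simp [Vs, R.ku], by rw [C.kuz R]; simp [Vs]]
  refine ⟨R.kρ, fun v => ⟨fun h => ?_, a v⟩⟩
  have e : ∀ a, k * v * k⁻¹ = k * a * k⁻¹ → v = a := fun a h => by simpa using h
  rcases h with h | h | h | h
  exacts [Or.inl (e 1 (by simpa using h)), Or.inr (Or.inr (Or.inr (e _ (h.trans (C.kuz R).symm)))),
    Or.inr (Or.inl (e _ (h.trans R.kz.symm))), Or.inr (Or.inr (Or.inl (e _ (h.trans R.ku.symm))))]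

theorem big (h1 : Cl z u (c₁ * c₂) e (k * e * k⁻¹)) : ∃ m : Fin 3, ∃ v, Vs z u v ∧
    (c₁ * c₂) ^ (m : ℕ) * k * (e * v) = e * v * ((c₁ * c₂) ^ (m : ℕ) * k) := by
  obtain ⟨i, v, hv, h1⟩ := h1
  obtain ⟨m, hm⟩ := red C.oρ (2 * i)
  have e1 : (c₁ * c₂) ^ (m : ℕ) = ((c₁ * c₂) ^ i)⁻¹ := by
    rw [← hm, eq_inv_iff_mul_eq_one, ← pow_add, show 2 * i + i = 3 * i by ring, pow_mul, C.oρ, one_pow]
  obtain ⟨w, hw, e2⟩ : ∃ w, Vs z u w ∧ v * (k * w * k⁻¹) = w := by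
    rcases hv with h | h | h | h <;> rw [h]
    · exact ⟨1, by simp [Vs], by simp⟩
    · exact ⟨u, by simp [Vs], by rw [R.ku, C.uz, ← mul_assoc, C.zsq, one_mul]⟩
    · exact ⟨u * z, by simp [Vs], by rw [C.kuz R]⟩
    · exact ⟨z, by simp [Vs], by rw [R.kz, C.uz, mul_assoc, C.u2, mul_one]⟩
  refine ⟨m, w, hw, comm_of_cj ?_⟩
  calc _ = ((c₁ * c₂) ^ i)⁻¹ * (k * e * k⁻¹ * (k * w * k⁻¹) * (c₁ * c₂) ^ i) := by rw [e1]; group
    _ = _ := by rw [h1, mul_assoc _ v, e2, mul_assoc _ w, ← ((C.Vs_ρ hw).pow_left i).eq]; group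

theorem norm_T (hn : ∀ x ∈ C.TT, g * x * g⁻¹ ∈ C.TT) : g * z = z * g := by
  have hz : ∀ x ∈ C.TT, x * z = z * x := fun x ⟨_, _, _, _, h⟩ => C.cen h
  have := eq_of_no_inv (D := centralizer (C.TT : Set G)) C.zsq hz
    (fun y hy o h => C.eq_one_Iv R ⟨o, (hy _ C.m1).symm, (hy _ C.m2).symm, h⟩ (hy _ C.md).symm)
    (fun w hw w2 w1 h => by
      obtain ⟨p, hp⟩ := C.ex h
      exact (C.ker (p9 (C.map_comm hp C.a1 (hw _ C.m1).symm) (C.map_comm hp C.a2 (hw _ C.m2).symm)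
        (C.map_comm hp C.ad (hw _ C.md).symm) (C.map_eq (C.mul hp hp) C.one w2) ▸ hp)).resolve_left w1)
    (w := g⁻¹ * z * g⁻¹⁻¹) (fun x hx => by simpa [mul_assoc] using comm_cj (hz _ (hn x hx)) g⁻¹) (sq_cj C.zsq _)
    fun e => C.zne (conj_eq_one_iff.1 e)
  exact Commute.inv_left_iff.1 (comm_of_cj this)

theorem syl : SylIn 3 C.TT (centralizer {c₁ * c₂}) := by
  have : Fact (Nat.Prime 3) := ⟨by decide⟩
  have hρ := mul_mem C.m1 C.m2
  refine SylIn.of_normalizer ⟨le_inf (fun x hx => mem_centralizer_singleton_iff.2 (C.T_comm hx hρ)) le_normalizer,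
    fun x => ⟨1, Subtype.ext x.2.1⟩, fun Q hQ h1 h2 => le_antisymm (fun g hg => ?_) h1⟩
  have hn : ∀ x ∈ C.TT, g * x * g⁻¹ ∈ C.TT := fun x hx => (mem_normalizer_iff.1 (h2 hg).2 x).1 hx
  obtain ⟨p, hp⟩ := C.ex (C.norm_T R hn)
  obtain ⟨n, e⟩ := hQ ⟨g, hg⟩
  have o : Odd (orderOf g) := Odd.of_dvd_nat (Odd.pow (by decide)) (orderOf_dvd_of_pow_eq_one (congrArg Subtype.val e))
  have p1 := C.map_comm hp C.aρ (mem_centralizer_singleton_iff.1 (h2 hg).1)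
  have p3 := cube_of_odd p1 (C.odd hp o)
  obtain ⟨i, j, l, a⟩ := C.T_fin (hn d C.md)
  obtain ⟨i, j, l, rfl⟩ := p10 p1 p3 (by
    rw [C.uniq (C.conj hp C.ad) a]; clear a; revert i j l; decide +kernel)
  exact ⟨C.eq_odd (p3 ▸ C.pow hp 3) C.one (o.of_dvd_nat (orderOf_pow_dvd 3)) (by simp), i, j, l, hp⟩

theorem supp_six {c : G} {m : ℕ} (hc : c * (c₁ * c₂) = c₁ * c₂ * c) (hk : c * k * c⁻¹ ∈ C.TT) (hp : A (c * k * c⁻¹) p)
    (h : Sg z u (c₁ * c₂) e) (h1 : (c₁ * c₂) ^ m * k * e = e * ((c₁ * c₂) ^ m * k)) :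
    (ro ^ m * p).support.card = 6 := by
  have a := C.mul (C.pow C.aρ m) hp
  have hm := mul_mem (pow_mem (mul_mem C.m1 C.m2) m) hk
  have e1 : (c₁ * c₂) ^ m * (c * k * c⁻¹) = c * ((c₁ * c₂) ^ m * k) * c⁻¹ := by
    rw [← conj_mul, cj_of_comm (Commute.pow_right hc m)]
  have e2 : Commute ((c₁ * c₂) ^ m * k) (c₁ * c₂) := (Commute.pow_self _ m).mul_left R.kρ
  have n1 : e ≠ 1 := fun e => h.out (Or.inl e)
  have n2 : e ≠ c₁ * c₂ * e * (c₁ * c₂)⁻¹ := fun e' => by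
    obtain ⟨i, v, hv, e''⟩ := C.cent_V C.au C.aρ (h.cen z (by simp [Vs])) (h.cen u (by simp [Vs]))
      (comm_of_cj e'.symm).symm
    have := h.sq
    rw [e'', ← pow_two, ((C.Vs_ρ hv).pow_left i).mul_pow, pow_two v, C.Vs_sq hv, mul_one, pow_two] at this
    rw [eq_one_of_sq ((odd_of_cube C.oρ).of_dvd_nat (orderOf_pow_dvd i)) this, one_mul] at e''
    exact h.out (e'' ▸ hv)
  obtain ⟨w, w2, w1, wz, hw, hx⟩ := exists_inv_ne C.zsq (C.cen a) (sq_cj h.sq c) (sq_cj (sq_cj h.sq (c₁ * c₂)) c)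
    (fun e => n1 (conj_eq_one_iff.1 e)) (fun e => n1 (conj_eq_one_iff.1 (conj_eq_one_iff.1 e)))
    (fun e => n2 (mul_left_cancel (mul_right_cancel e))) (comm_cj h.comm c) (e1 ▸ comm_cj h1 c)
    (e1 ▸ comm_cj ((e2.mul_right h1).mul_right e2.inv_right) c)
  obtain ⟨g, g1, g2, -⟩ := C.pair C.au C.aρ C.oρ (C.cen a) hw hm.1 (fun e => by
    rw [e1, conj_eq_one_iff, mul_eq_one_iff_inv_eq] at e
    refine C.un (R.kz.symm.trans (cj_of_comm ?_))
    exact e ▸ (Commute.pow_left (C.cen C.aρ) m).inv_left) w2 w1 wz hx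
  obtain ⟨π, hπ⟩ := C.ex g1
  rw [← C.map_eq (C.conj hπ C.aρ) a g2, card_support_conj]
  decide +kernel

theorem no_rt3 (k9 : k ^ 9 = 1) (hk : ∃ g, Nv z u (c₁ * c₂) g ∧ k = g * g) : False := by
  have : Fact (Nat.Prime 3) := ⟨by decide⟩
  obtain ⟨g, hg, rfl⟩ := hk
  obtain ⟨e, a1⟩ := C.surj e1 (by simp [e1]) fun _ => rfl
  obtain ⟨f, a2⟩ := C.surj e2 (by simp [e2]) fun _ => rfl
  obtain ⟨s1, c1'⟩ := C.Sg_of a1 (by decide +kernel) (by decide +kernel) (by decide +kernel) (by decide +kernel)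
    (by simp only [forall_eq]; decide +kernel)
  obtain ⟨s2, c2'⟩ := C.Sg_of a2 (by decide +kernel) (by decide +kernel) (by decide +kernel) (by decide +kernel)
    (by simp only [forall_eq]; decide +kernel)
  have ef : e * f * (e * f) = z := C.sq_z (C.mul a1 a2) (by decide +kernel) (by decide +kernel) (by decide +kernel)
  have nc : g * e * g⁻¹ * (g * f * g⁻¹) ≠ g * f * g⁻¹ * (g * e * g⁻¹) := fun h => C.zne (by
    rw [conj_mul, conj_mul] at h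
    rw [← ef, ← pow_two, Commute.mul_pow (mul_left_cancel (mul_right_cancel h)), pow_two, pow_two, s1.sq, s2.sq, one_mul])
  have e' : ∀ a, g * g * a * (g * g)⁻¹ = g * (g * a * g⁻¹) * g⁻¹ := fun a => by group
  obtain ⟨l1, l2⟩ : Cl z u (c₁ * c₂) e (g * g * e * (g * g)⁻¹) ∧ Cl z u (c₁ * c₂) f (g * g * f * (g * g)⁻¹) := by
    rw [e', e']
    rcases C.cl_or a1 a2 (s1.conj hg) with h | h <;> rcases C.cl_or a1 a2 (s2.conj hg) with h' | h'
    exacts [absurd (c1' _ _ h h') nc, ⟨C.cl_trans hg h h, C.cl_trans hg h' h'⟩,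
      ⟨C.cl_trans hg h h', C.cl_trans hg h' h⟩, absurd (c2' _ _ h h') nc]
  generalize g * g = k at R k9 l1 l2
  obtain ⟨m, v, hv, b1⟩ := C.big R l1
  obtain ⟨n, w, hw, b2⟩ := C.big R l2
  have hρ := mul_mem C.m1 C.m2
  have mn : m ≠ n := by
    rintro rfl
    have h1 : Commute ((c₁ * c₂) ^ (m : ℕ) * k) (e * v * (f * w)) := Commute.mul_right b1 b2
    have h2 := h1.mul_right h1
    have cc : Commute (e * f) (v * w) :=
      Commute.mul_left (s1.cen _ (C.Vs_mul hv hw)) (s2.cen _ (C.Vs_mul hv hw))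
    rw [Commute.mul_mul_mul_comm (s2.cen v hv).symm, ← pow_two, cc.mul_pow, pow_two, pow_two, ef,
      C.Vs_sq (C.Vs_mul hv hw), mul_one] at h2
    refine C.un (R.kz.symm.trans (cj_of_comm ?_))
    simpa using ((Commute.pow_left (C.cen C.aρ) m).inv_left.mul_left h2).eq
  have hW : IsPGroup 3 (zpowers k) := fun x => ⟨2, by
    obtain ⟨_, i, rfl⟩ := x
    refine Subtype.ext ?_
    change (k ^ i) ^ (9 : ℕ) = 1
    rw [← zpow_natCast, ← zpow_mul, mul_comm, zpow_mul, zpow_natCast, k9, one_zpow]⟩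
  obtain ⟨c, hc, hle⟩ := (C.syl R).exists_conj_le hW (zpowers_le.2 (mem_centralizer_singleton_iff.2 R.kρ))
  have hc := mem_centralizer_singleton_iff.1 hc
  have hk : c * k * c⁻¹ ∈ C.TT := hle (conj_mem_cj (mem_zpowers k))
  obtain ⟨i, j, l, hp⟩ := C.T_fin hk
  obtain ⟨s, h | ⟨i', j', hi, hj, h⟩⟩ := p11a rfl mn (C.supp_six R hc hk hp (C.Sg_mul s1 hv) b1)
    (C.supp_six R hc hk hp (C.Sg_mul s2 hw) b2)
  · have := C.eq_odd (h ▸ hp) (C.pow C.aρ s) (odd_of_cube hk.1) (odd_of_cube (pow_mem hρ s).1)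
    rw [← cj_of_comm (Commute.pow_right hc s)] at this
    refine C.un (R.kz.symm.trans (cj_of_comm ?_))
    exact mul_left_cancel (mul_right_cancel this) ▸ Commute.pow_left (C.cen C.aρ) s
  obtain ⟨t₁, r, t1, t2⟩ : ∃ t₁, ∃ r : ℕ, t₁ * (c₁ * c₂) * t₁⁻¹ = (c₁ * c₂)⁻¹ ∧ k * t₁ * k = (c₁ * c₂) ^ r * t₁ := by
    obtain ⟨x1, x2, x3⟩ := C.tk R
    obtain ⟨r, v, hv, e⟩ := C.cent_V C.au C.aρ x1 x2 x3
    obtain ⟨w, hw, e2⟩ : ∃ w, Vs z u w ∧ v * w = k * w * k⁻¹ := by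
      rcases hv with h | h | h | h <;> rw [h]
      · exact ⟨1, by simp [Vs], by simp⟩
      · exact ⟨u, by simp [Vs], by rw [R.ku, C.uz]⟩
      · exact ⟨u * z, by simp [Vs], by rw [C.kuz R, ← mul_assoc, C.u2, one_mul]⟩
      · exact ⟨z, by simp [Vs], by rw [R.kz, mul_assoc, C.zsq, mul_one]⟩
    refine ⟨t * (k * w * k⁻¹), 2 * r, ?_, ?_⟩
    · rw [mul_assoc t, ← (C.Vs_ρ (((C.nv R).norm w).2 hw)).eq, ← C.tρ]; group
    · have e3 : (c₁ * c₂) ^ (2 * r) = t * (c₁ * c₂) ^ r * t⁻¹ := by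
        rw [← conj_pow, C.tρ, inv_pow, eq_inv_iff_mul_eq_one, ← pow_add, show 2 * r + r = 3 * r by ring, pow_mul,
          C.oρ, one_pow]
      calc _ = t * (t⁻¹ * k * t * k * w) := by group
        _ = _ := by rw [e, mul_assoc _ v, e2, e3]; group
  have hκ := mul_mem (pow_mem hρ s) hk
  have aκ := h ▸ C.mul (C.pow C.aρ s) hp
  have t3 : c * t₁ * c⁻¹ * (c₁ * c₂) * (c * t₁ * c⁻¹)⁻¹ = (c₁ * c₂)⁻¹ := cj_of_comm hc ▸ inv_cj t1 c
  have t4 : (c₁ * c₂) ^ s * (c * k * c⁻¹) * (c * t₁ * c⁻¹) * ((c₁ * c₂) ^ s * (c * k * c⁻¹)) =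
      (c₁ * c₂) ^ r * (c * t₁ * c⁻¹) := by
    have x1 : c * t₁ * c⁻¹ * (c₁ * c₂) ^ s = ((c₁ * c₂) ^ s)⁻¹ * (c * t₁ * c⁻¹) := by
      rw [← inv_pow, ← t3, conj_pow]; group
    have x2 := C.T_comm (inv_mem (pow_mem hρ s)) hk
    rw [mul_assoc, ← mul_assoc (c * t₁ * c⁻¹), x1, mul_assoc, mul_assoc _ (c * t₁ * c⁻¹), ← mul_assoc (c * k * c⁻¹), ← x2,
      ← cj_of_comm (Commute.pow_right hc r), conj_mul, conj_mul (a := (c₁ * c₂) ^ r), ← t2]
    group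
  generalize (c₁ * c₂) ^ s * (c * k * c⁻¹) = κ at hκ aκ t4
  generalize c * t₁ * c⁻¹ = τ at t3 t4
  have hD : SylIn 3 C.TT (centralizer {c₁ * c₂} ⊓ centralizer {κ}) := (C.syl R).of_le
    (le_inf (C.syl R).le fun x hx => mem_centralizer_singleton_iff.2 (C.T_comm hx hκ)) inf_le_left
  obtain ⟨δ, ⟨d1, d2⟩, hle⟩ := hD.exists_conj_le (isPGroup_cj τ hD.pgroup) (cj_le_iff_forall.2 fun x hx => ⟨
    mem_centralizer_singleton_iff.2 (comm_of_or (comm_cj (C.T_comm hx hρ) τ) (Or.inr t3)),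
    mem_centralizer_singleton_iff.2 (by
      have := comm_cj (C.T_comm hx (mul_mem (inv_mem (pow_mem hρ r)) (inv_mem hκ))) τ
      have e : τ * (((c₁ * c₂) ^ r)⁻¹ * κ⁻¹) * τ⁻¹ = κ := by
        rw [← conj_mul, ← conj_inv, ← conj_pow, t3, inv_pow, inv_inv, ← mul_assoc, ← mul_assoc, ← t4]; group
      rwa [e] at this)⟩)
  have d1 := mem_centralizer_singleton_iff.1 d1
  have d2 := mem_centralizer_singleton_iff.1 d2
  obtain ⟨q, hq⟩ := C.ex (C.norm_T R (g := δ * τ) fun x hx => hle (cj_mul δ τ _ ▸ conj_mem_cj hx))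
  obtain ⟨r', hr⟩ := red C.oρ r
  refine p11 (s := r') hi hj rfl (C.map_eq (C.conj hq C.aρ) (C.inv C.aρ) ?_)
    (C.map_eq (C.mul (C.mul aκ hq) aκ) (C.mul (C.pow C.aρ r') hq) ?_) (C.even hq)
  · calc _ = δ * (τ * (c₁ * c₂) * τ⁻¹) * δ⁻¹ := by group
      _ = _ := by rw [t3, ← conj_inv, cj_of_comm d1]
  · rw [← hr, ← mul_assoc, ← d2, ← mul_assoc, ← (Commute.pow_right d1 r).eq, mul_assoc δ, mul_assoc δ, mul_assoc δ, t4]

theorem no_rt : False := by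
  have e : ∀ a, k ^ 3 * a * (k ^ 3)⁻¹ = k * (k * (k * a * k⁻¹) * k⁻¹) * k⁻¹ := fun a => by
    rw [pow_succ, pow_two]; group
  have c1 : Commute (k ^ 3) z := comm_of_cj (by rw [e, R.kz, R.ku, C.kuz R])
  have c2 : Commute (k ^ 3) u := comm_of_cj (by rw [e, R.ku, C.kuz R, R.kz])
  obtain ⟨i, v, hv, h⟩ := C.cent_V C.au C.aρ c1 c2 (Commute.pow_left R.kρ 3)
  have e' : ∀ a, Commute (k ^ 3) a → k ^ 5 * k ^ 5 * a * (k ^ 5 * k ^ 5)⁻¹ = k * a * k⁻¹ := fun a h => by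
    conv_rhs => rw [← cj_of_comm (h.pow_left 3)]
    group
  refine C.no_rt3 (k := k ^ 5 * k ^ 5) ⟨Commute.mul_left (Commute.pow_left R.kρ 5) (Commute.pow_left R.kρ 5),
    by rw [e' z c1, R.kz], by rw [e' u c2, R.ku]⟩ ?_ ⟨_, (C.nv R).pow 5, rfl⟩
  calc _ = ((k ^ 3) ^ 2) ^ 15 := by group
    _ = 1 := by
      rw [h, ((C.Vs_ρ hv).pow_left i).mul_pow, pow_two v, C.Vs_sq hv, mul_one, ← pow_mul, ← pow_mul,
        show i * (2 * 15) = 3 * (10 * i) by ring, pow_mul, C.oρ, one_pow]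

end Fr

/-- the involution is isolated -/
theorem Ctx.isolated [Finite G] (C : Ctx z A b) (h : g * z * g⁻¹ * z = z * (g * z * g⁻¹)) : g * z * g⁻¹ = z := by
  by_contra h1
  obtain ⟨c₁, c₂, d, u, t, C⟩ := C.exists_fr
  obtain ⟨k, R⟩ := C.exists_rt h1 h
  exact C.no_rt R

end CL.StdA.T
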