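/-
A non-isolated involution with centralizer `2·Aₙ`: `n = 8` or `n = 11`.
-/
import Cfsg.Agent.INV.STD.AltG
import Cfsg.Agent.INV.STD.AltM

set_option autoImplicit false
set_option linter.unusedSectionVars false

namespace CL.StdA

open Equiv Equiv.Perm CL.StdE

variable {α : Type*} [Fintype α] [DecidableEq α] {X G : Type*} [Group X] [Group G] [Finite X]
  {σ : X →* Perm α} {ζ : X} {f : X →* G} {g : G}

theorem DC.ctx (D : DC σ ζ) (h : Fintype.card α ≤ 11) (hf : Function.Injective f) (hF : Full ζ f) {b : Prop}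
    (τ : Perm α →* Perm T.F) (h1 : Function.Injective τ) (h2 : ∀ p, sign (τ p) = sign p)
    (h3 : ∀ p, (τ p).support.card = p.support.card) (h4 : b → ∀ p, τ p 9 = 9)
    (h5 : ∀ q, (b → q 9 = 9) → ∃ p, τ p = q) : T.Ctx (f ζ) (fun h p => ∃ x, f x = h ∧ τ (σ x) = p) b where
  zsq := by rw [← map_mul, D.zsq, map_one]
  zne e := D.ne (hf (e.trans (map_one f).symm))
  ex hh := by
    obtain ⟨x, rfl⟩ := hF _ hh
    exact ⟨_, x, rfl, rfl⟩
  cen := by
    rintro _ _ ⟨x, rfl, rfl⟩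
    rw [← map_mul, D.comm, map_mul]
  mul := by
    rintro _ _ _ _ ⟨x, rfl, rfl⟩ ⟨y, rfl, rfl⟩
    exact ⟨x * y, map_mul _ _ _, by rw [map_mul, map_mul]⟩
  uniq := by
    rintro _ _ _ ⟨x, rfl, rfl⟩ ⟨y, e, rfl⟩
    rw [hf e]
  ker := by
    rintro _ ⟨x, rfl, e⟩
    rcases (D.ker x).1 (h1 (e.trans (map_one τ).symm)) with e | e <;> simp [e]
  az := ⟨ζ, rfl, by rw [D.map, map_one]⟩
  even := by
    rintro _ _ ⟨x, rfl, rfl⟩
    rw [h2, D.even]
  fix hb := by
    rintro _ _ ⟨x, rfl, rfl⟩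
    exact h4 hb _
  surj q s hb := by
    obtain ⟨p, rfl⟩ := h5 q hb
    obtain ⟨x, rfl⟩ := D.surj p (h2 p ▸ s)
    exact ⟨_, x, rfl, rfl⟩
  inv8 := by
    rintro _ _ ⟨x, rfl, rfl⟩ e1 e2
    rw [h3, ← map_mul, map_eq_one_iff f hf]
    refine ⟨fun e => D.supp_eq (by omega) e fun e' => e2 (by rw [e', map_one]), fun e => ?_⟩
    obtain ⟨m, k1, k2⟩ := D.sq_eq (x := x) (h1 (by rw [map_mul, e1, map_one]))
    obtain rfl : m = 2 := by omega
    rw [k2, pow_two, D.zsq]

theorem eight_or_eleven [Finite G] {n : ℕ} {σ : X →* Perm (Fin n)} (D : DC σ ζ) (hM : M ζ f) (hF : Full ζ f)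
    (h1 : g * f ζ * g⁻¹ ≠ f ζ) (h2 : g * f ζ * g⁻¹ * f ζ = f ζ * (g * f ζ * g⁻¹)) : n = 8 ∨ n = 11 := by
  have h8 : 8 ≤ n := by
    obtain ⟨x, hx⟩ := hF _ h2
    by_contra hn
    have := D.supp_eq (x := x) (by simp; omega) (hM.inj (by rw [map_mul, ← hx, map_one]; exact T.sq_cj hM.zsq g))
      fun e => ((D.ker x).1 e).elim (fun e => hM.zne (conj_eq_one_iff.1 (by rw [hx, e, map_one])))
        fun e => h1 (e ▸ hx)
    exact hn (by simpa [this] using card_le (σ x))
  have h12 : n < 12 := by simpa using (Pr.of_conj D (by simpa using h8) hM h1 h2).lt_twelve hF (hF.conj g)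
  by_contra hn
  obtain rfl | rfl : n = 9 ∨ n = 10 := by omega
  · refine h1 ((D.ctx (b := True) (by simp) hM.inj hF (extendDomainHom (finSuccAboveEquiv 9))
      (extendDomainHom_injective _) (fun p => sign_extendDomain p _) (fun p => card_support_extend_domain _)
      (fun _ p => extendDomain_apply_not_subtype p _ (by simp)) fun q hq => ?_).isolated h2)
    have k : ∀ x, q x ≠ 9 ↔ x ≠ 9 := fun x => by rw [← hq trivial, q.injective.ne_iff, hq trivial]
    refine ⟨(finSuccAboveEquiv 9).symm.permCongr (q.subtypePerm k), Equiv.ext fun x => ?_⟩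
    by_cases hx : x = 9
    · rw [hx, hq trivial]; exact extendDomain_apply_not_subtype _ _ (by simp)
    · exact (extendDomain_apply_subtype _ (finSuccAboveEquiv 9) hx).trans (by simp)
  · exact h1 ((D.ctx (b := False) (by simp) hM.inj hF (MonoidHom.id _) (fun _ _ h => h) (fun _ => rfl) (fun _ => rfl)
      False.elim fun q _ => ⟨q, rfl⟩).isolated h2)

end CL.StdA
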