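/-
A standard double cover `2·Aₙ` with `n ≥ 12`: the central involution is isolated.
-/
import Cfsg.Agent.INV.STD.AltG

set_option autoImplicit false
set_option linter.unusedSectionVars false

namespace CL.StdA

open Equiv Equiv.Perm CL.AltInvol CL.StdE

variable {α : Type*} [Fintype α] [DecidableEq α] {X G : Type*} [Group X] [Group G] [Finite X]
  {σ : X →* Perm α} {ζ : X} {f f' : X →* G} {h k t : G} {p q : Perm α}

theorem Pr.exists_triv' (P : Pr σ ζ f f') (hp : A f σ (f' ζ) p) (hq : A f' σ (f ζ) q) {y : X} (hy : y * y = ζ)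
    (hc : f y * f' ζ = f' ζ * f y) : ∃ γ w ξ, p * γ = γ * p ∧ σ w = γ⁻¹ * σ y * γ * (σ y)⁻¹ ∧ w * w = 1 ∧
      A f' σ (f w) ξ ∧ (∀ d, q d ≠ d → ξ d = d ∨ ξ d = q d) ∧ (σ w = 1 → q.support.card = 8) := by
  obtain ⟨η, hη⟩ := P.symm.ex hc
  have q2 := P.symm.sq hq P.l.zsq
  have e0 := apply_apply_of_mul_self q2
  have e1 : η * η = q := P.symm.uniq (hη.mul hη) (by rwa [← map_mul, hy])
  have k1 : ∀ d, η (q d) = q (η d) := fun d => by rw [← e1]; rfl
  obtain ⟨q3, q4⟩ := quad_spec e1 q2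
  have h8 := (P.symm.supp hq).1
  obtain ⟨a, ha, -⟩ := exists_not_mem q.support [] (by simp only [List.length_nil]; omega)
  obtain ⟨b, hb, hb'⟩ := exists_not_mem q.support (quad η q a) (by
    simp only [quad, List.length_cons, List.length_nil]; omega)
  rw [mem_support] at ha hb
  have hn : [a, q a, η a, q (η a), b, q b, η b, q (η b)].Nodup :=
    List.nodup_append.2 (⟨(q3 a ha).1, (q3 b hb).1, q4 a b hb'⟩ : (quad η q a).Nodup ∧ (quad η q b).Nodup ∧ _)
  have s1 : [a, q a, b, q b].Nodup := hn.sublist (by simp)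
  have s2 : [η a, q (η a), η b, q (η b)].Nodup :=
    hn.sublist (.cons _ (.cons _ (.cons_cons _ (.cons_cons _ (.cons _ (.cons _ (List.Sublist.refl _)))))))
  obtain ⟨e, he, e2⟩ := P.D.lift2 s1
  obtain ⟨γ, hγ⟩ := P.ex (hq.comm_swaps P.D P.r.inj P.comm.symm q2 s1 he).symm
  obtain ⟨y', hy1, hy2⟩ := hγ.inv P.l.inj y
  obtain ⟨e', h1, h2⟩ := hη e
  rw [he, ← conj_mul, ← swap_apply_apply, ← swap_apply_apply, k1, k1] at h2
  have hd : Perm.Disjoint (σ e⁻¹) (σ e') := fun d => by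
    rw [map_inv, he, h2, inv_eq_of_mul_eq_one_right (swap_swap_sq s1)]
    simp only [mul_apply, swap_apply_def]
    clear q3 q4 k1 e0
    grind
  have h3 : f (y' * y⁻¹) = f' (e⁻¹ * e') := by
    rw [map_mul f', ← h1, map_inv f', map_mul f, ← hy1]
    simp only [map_inv, mul_assoc, inv_inv]
  have h4 : (σ (e⁻¹ * e')).support.card = 8 := by
    rw [map_mul, hd.card_support_mul, map_inv, support_inv, he, h2, card_support_swap_swap s1,
      card_support_swap_swap s2]
  refine ⟨γ, y' * y⁻¹, σ (e⁻¹ * e'), P.map_comm hp hγ (P.r.fcomm e).symm, by rw [map_mul, hy2, map_inv, inv_inv],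
    P.l.inj ?_, h3 ▸ A.of_f _, fun d _ => ?_, fun h5 => ?_⟩
  · rw [map_mul, h3, ← map_mul, mul_assoc, ← mul_assoc e', ← P.D.comm_disj hd, mul_assoc,
      P.D.sq e' _ _ _ _ s2 h2, ← mul_assoc, ← mul_inv_rev, e2, inv_mul_cancel, map_one, map_one]
  · rw [map_mul, map_inv, he, h2, inv_eq_of_mul_eq_one_right (swap_swap_sq s1)]
    simp only [mul_apply, swap_apply_def]
    have := e0 a
    have := e0 b
    have := e0 (η a)
    have := e0 (η b)
    clear q3 q4 k1 e0 hd
    grind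
  · rcases (P.D.ker _).1 h5 with e3 | e3 <;> rw [e3] at h3
    · rw [← P.r.inj ((map_one f').trans ((map_one f).symm.trans h3))] at h4
      simp at h4
    · rwa [P.symm.uniq hq (by rw [h3]; exact A.of_f _)]

theorem Pr.caseA' (P : Pr σ ζ f f') (hp : A f σ (f' ζ) p)
    (h4 : p.support.card + 4 ≤ Fintype.card α) : False := by
  obtain ⟨q, hq⟩ := P.symm.ex P.comm.symm
  obtain ⟨a, b, c, d, hn, e1, e2, e3, e4⟩ := exists_fixed4 h4
  obtain ⟨y, hy, y2⟩ := P.D.lift2 hn
  have hd : Perm.Disjoint p (σ y) :=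
    hy ▸ ((disjoint_swap_of_fix e1 e2).mul_left (disjoint_swap_of_fix e3 e4)).symm
  have hc := (hp.comm_disj P.D P.l.inj P.comm hd).symm
  obtain ⟨γ, w, ξ, g1, g2, g3, g4, g5, g6⟩ := P.exists_triv' hp hq y2 hc
  have p2 := P.sq hp P.r.zsq
  by_cases hw : σ w = 1
  · obtain ⟨a', b', c', hn'⟩ := exists_blocks3 p2 (by have := (P.supp hp).1; omega)
    refine P.no_root (fun q' hq' => ?_) (r := f y) (by rw [← map_mul, y2]) hc hp hn' fun x hx => ?_
    · rw [P.symm.uniq hq' hq, g6 hw]; norm_num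
    · rw [← map_mul, ← map_mul, P.D.comm_disj fun s => ?_]
      refine (hd s).symm.imp_right fun e => hx s ?_
      have := apply_apply_of_mul_self p2
      grind
  have h5 : ∀ s, p s ≠ s → σ w s = s := fun s hs => by
    have k1 : p (γ s) = γ (p s) := DFunLike.congr_fun g1 s
    rw [g2, mul_apply, mul_apply, mul_apply,
      (inv_eq_iff_eq).2 ((hd s).resolve_left hs).symm,
      (hd _).resolve_left fun e => hs (γ.injective (by rw [← k1, e]))]
    simp
  have w2 : σ w * σ w = 1 := by rw [← map_mul, g3, map_one]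
  obtain ⟨x1, x2, x3, x4, hx, f1, f2, f3, f4⟩ := twoSwaps_of_involution w2 hw (P.D.even w)
  obtain ⟨e, he, e5⟩ := P.D.lift3 (tau_cube (show [x1, x2, x3].Nodup from hx.sublist (by simp)))
  refine P.not_triv hq g4 g5 (hp.comm3 P.D P.l.inj e5 ?_).symm (P.D.sq _ x1 x3 x2 x4 (by grind) ?_)
  · rw [he, ← mul_inv_eq_iff_eq_mul, tau_conj, show p x1 = x1 by grind, show p x2 = x2 by grind,
      show p x3 = x3 by grind]
  · rw [map_mul, map_mul, map_mul, map_inv, he, ← mul_assoc, ← mul_assoc, mul_inv_eq_iff_eq_mul]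
    nth_rewrite 2 [← inv_eq_of_mul_eq_one_right w2]
    rw [tau_conj, f1, f2, f3]
    ext s
    simp only [tau, mul_apply, swap_apply_def]
    clear h5
    grind

theorem Pr.twelve (P : Pr σ ζ f f') (hp : A f σ (f' ζ) p) (h9 : 9 ≤ p.support.card) :
    12 ≤ p.support.card := by
  obtain ⟨v, rfl⟩ := P.D.surj p (P.supp hp).2
  obtain ⟨m, h1, -⟩ := P.D.sq_eq (P.sq hp P.r.zsq)
  omega

theorem Pr.caseB' (P : Pr σ ζ f f') (hp : A f σ (f' ζ) p) (hq : A f' σ (f ζ) q)
    (h1 : 12 ≤ p.support.card) (h2 : q.support.card ≠ 8) : False := by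
  have p2 := P.sq hp P.r.zsq
  have e0 := apply_apply_of_mul_self p2
  obtain ⟨a, b, hn⟩ := exists_blocks2 p2 (by omega)
  obtain ⟨y, hy, y2⟩ := P.D.lift2 hn
  obtain ⟨γ, w, ξ, g1, g2, g3, g4, g5, g6⟩ := P.exists_triv' hp hq y2
    (hp.comm_swaps P.D P.l.inj P.comm p2 hn hy).symm
  have k1 : ∀ s, γ⁻¹ (p s) = p (γ⁻¹ s) := fun s => DFunLike.congr_fun
    (Commute.inv_left (show Commute γ p from g1.symm)) s
  have hw : σ w = swap (γ⁻¹ a) (p (γ⁻¹ a)) * swap (γ⁻¹ b) (p (γ⁻¹ b)) *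
      (swap a (p a) * swap b (p b)) := by
    rw [g2, hy, inv_eq_of_mul_eq_one_right (swap_swap_sq hn),
      ← k1, ← k1, swap_apply_apply, swap_apply_apply]
    group
  have hn' : [γ⁻¹ a, p (γ⁻¹ a), γ⁻¹ b, p (γ⁻¹ b)].Nodup := by
    rw [← k1, ← k1]
    exact hn.map γ⁻¹.injective
  generalize γ⁻¹ a = a' at hw hn'
  generalize γ⁻¹ b = b' at hw hn'
  have k3 : ∀ s, σ w s = s ∨ σ w s = p s := fun s =>
    (hw ▸ ((BT.swap p2 a').mul (BT.swap p2 b')).mul ((BT.swap p2 a).mul (BT.swap p2 b)) s).imp And.left And.left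
  have k4 : ∀ s ∉ [a', p a', b', p b', a, p a, b, p b], σ w s = s := fun s hs => by
    rw [hw]
    simp only [mul_apply, swap_apply_def]
    clear e0 k1 hw g5 k3
    grind
  obtain ⟨l, hl⟩ : ∃ l, σ w l ≠ l := by
    by_contra! h
    exact h2 (g6 (Equiv.ext h))
  obtain ⟨m, hm, hm'⟩ := exists_not_mem p.support [a', p a', b', p b', a, p a, b, p b]
    (by simp only [List.length_cons, List.length_nil]; omega)
  obtain ⟨c, hc, hc'⟩ := exists_not_mem p.support [m, p m, a', p a', b', p b', a, p a, b, p b]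
    (by simp only [List.length_cons, List.length_nil]; omega)
  rw [mem_support] at hm hc
  have l1 := (k3 l).resolve_left hl
  have m1 := k4 m hm'
  have k5 : ∀ s ∉ [a', p a', b', p b', a, p a, b, p b], σ w (p s) = p s := fun s hs => k4 _ fun h => hs (by
    rw [← e0 s]
    simp only [List.mem_cons, List.not_mem_nil, or_false] at h ⊢
    rcases h with h | h | h | h | h | h | h | h <;> simp only [h, e0, true_or, or_true])
  have m2 := k5 m hm'
  have c0 : c ∉ [a', p a', b', p b', a, p a, b, p b] := fun h =>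
    hc' (List.mem_cons_of_mem _ (List.mem_cons_of_mem _ h))
  have c1 := k4 c c0
  have c2 := k5 c c0
  have hN : [l, p l, m, p m, c, p c].Nodup := by
    have t1 : c ≠ m ∧ c ≠ p m := ⟨fun e => hc' (by simp [e]), fun e => hc' (by simp [e])⟩
    have := e0 l
    have := e0 m
    have := e0 c
    clear k1 hw g5 k3 k4 k5 e0 hm' hc' hn hn' c0
    simp only [List.nodup_cons, List.mem_cons, List.not_mem_nil, or_false, not_or, List.nodup_nil,
      and_true, not_false_eq_true]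
    refine ⟨⟨?_, ?_, ?_, ?_, ?_⟩, ⟨?_, ?_, ?_, ?_⟩, ⟨?_, ?_, ?_⟩, ⟨?_, ?_⟩, ?_⟩ <;> grind
  obtain ⟨r1, r2, -⟩ := rho_conj p2 hN
  obtain ⟨e, he, e3⟩ := P.D.lift3 r1
  refine P.not_triv hq g4 g5 (hp.comm3 P.D P.l.inj e3 (he ▸ r2)).symm (P.D.sq _ l (p l) m (p m)
    (hN.sublist (by simp)) ?_)
  rw [map_mul, map_mul, map_mul, map_inv, he]
  exact conj_rho (by rw [← map_mul, g3, map_one]) hN l1 m1 m2 c1 c2

theorem Pr.lt_twelve' (P : Pr σ ζ f f') : Fintype.card α < 12 := by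
  by_contra h
  obtain ⟨p, hp⟩ := P.ex P.comm
  obtain ⟨q, hq⟩ := P.symm.ex P.comm.symm
  have h1 := mt (P.caseA' hp) not_false
  have h2 := mt (P.symm.caseA' hq) not_false
  have h3 := P.twelve hp (by omega)
  exact P.caseB' hp hq h3 (by omega)

end CL.StdA
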