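/-
Every involution of the automorphism group of the Leech lattice is conjugate to a sign change.
-/
import Mathlib
import Cfsg.Agent.SPOR.LeechCls
import Cfsg.Agent.SPOR.LeechMax
import Cfsg.Agent.SPOR.GolayClasses

set_option autoImplicit false

namespace CL.StdCo

open Cfsg CL.Leech CL.K CL.Pack CL.MT
open CL.Golay (E Code R I pm cw img24 app24 isCw c2A c2B ConjTo)
open scoped Pointwise

/-- sum of two code words -/
def cx (c d : Code) : Code := ⟨symmDiff c.1 d.1, Golay.symmDiff_mem_code c.2 d.2⟩

/-- image of a code word -/
def cs (σ : M24) (d : Code) : Code := ⟨σ.1 • d.1, (Golay.smul_mem_code σ.2).2 d.2⟩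

theorem mem_smul_iff (σ : Equiv.Perm GolayPt) (d : Finset GolayPt) (i : GolayPt) :
    i ∈ σ • d ↔ σ.symm i ∈ d := by
  rw [← Finset.inv_smul_mem_iff]; rfl

theorem mono_mul (σ τ : M24) (c d : Code) :
    mono σ c * mono τ d = mono (σ * τ) (cx c (cs σ d)) := by
  apply co_ext
  intro v
  apply Subtype.ext
  rw [mul_smul, coe_mono_smul, coe_mono_smul, coe_mono_smul]
  funext i
  have e : (σ * τ).1.symm i = τ.1.symm (σ.1.symm i) := rfl
  simp only [signedPerm, cx, cs, Finset.mem_symmDiff, mem_smul_iff, e]
  by_cases h1 : i ∈ c.1 <;> by_cases h2 : σ.1.symm i ∈ d.1 <;> simp [h1, h2]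

theorem mono_inj {σ τ : M24} {c d : Code} (h : mono σ c = mono τ d) : σ = τ ∧ c = d :=
  Prod.ext_iff.1 (mono_injective (a₁ := (σ, c)) (a₂ := (τ, d)) h)

/-- the empty word -/
def c0 : Code := ⟨∅, Golay.empty_mem_code⟩

/-- the full word -/
def c1 : Code := ⟨Finset.univ, Golay.univ_mem_code⟩

theorem mono_one : mono 1 c0 = 1 := permHom.map_one

theorem cs_one (d : Code) : cs 1 d = d := Subtype.ext (one_smul _ _)

theorem sgn_mul (c d : Code) : sgn c * sgn d = sgn (cx c d) := by
  rw [sgn, sgn, mono_mul, cs_one, one_mul]; rfl

theorem sgn_inj {c d : Code} (h : sgn c = sgn d) : c = d := (mono_inj h).2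

theorem sgn_c0 : sgn c0 = 1 := mono_one

theorem sgn_c1 : sgn c1 = neg1 := rfl

theorem mono_sgn (σ : M24) (c d : Code) : mono σ c * sgn d = sgn (cs σ d) * mono σ c := by
  rw [sgn, sgn, mono_mul, mono_mul, cs_one, mul_one, one_mul]
  congr 1
  exact Subtype.ext (symmDiff_comm _ _)

theorem conj_sgn (σ : M24) (c d : Code) : mono σ c * sgn d * (mono σ c)⁻¹ = sgn (cs σ d) := by
  rw [mono_sgn]; group

theorem sgn_inv (c : Code) : (sgn c)⁻¹ = sgn c := inv_eq_of_mul_eq_one_right (Sgn_sq (sgn_mem c))

theorem sgn_conj_mono (σ : M24) (c d : Code) :
    sgn d * mono σ c * (sgn d)⁻¹ = mono σ (cx (cx c d) (cs σ d)) := by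
  rw [sgn_inv, mul_assoc, mono_sgn, ← mul_assoc, sgn_mul, sgn, mono_mul, one_mul, cs_one]
  congr 1
  apply Subtype.ext
  simp only [cx]
  rw [symmDiff_comm, symmDiff_assoc]

theorem perm_conj_mono (k σ : M24) (c : Code) :
    permHom k * mono σ c * (permHom k)⁻¹ = mono (k * σ * k⁻¹) (cs k c) := by
  rw [← map_inv]
  show mono k c0 * mono σ c * mono k⁻¹ c0 = _
  rw [mono_mul, mono_mul]
  congr 1
  apply Subtype.ext
  simp only [cx, cs, c0, Finset.smul_finset_empty]
  rw [← Finset.bot_eq_empty, symmDiff_bot, bot_symmDiff]

/-- a `2`-subgroup is conjugate into a subgroup of odd index -/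
theorem exists_conj_le {G : Type*} [Group G] [Finite G] {H P : Subgroup G} (hH : Odd H.index)
    (hP : IsPGroup 2 P) : ∃ k : G, ∀ x ∈ P, k * x * k⁻¹ ∈ H := by
  obtain ⟨q, hq⟩ := hP.nonempty_fixed_point_of_prime_not_dvd_card (G ⧸ H) (fun h =>
    (Nat.not_even_iff_odd.2 hH) (even_iff_two_dvd.2 h))
  obtain ⟨g, rfl⟩ := QuotientGroup.mk_surjective q
  refine ⟨g⁻¹, fun x hx => ?_⟩
  have h1 : ((x * g : G) : G ⧸ H) = (g : G) := hq ⟨x, hx⟩
  have h2 := QuotientGroup.eq.1 h1.symm
  simpa [mul_assoc] using h2

instance finite_Co0 : Finite Co0 := Nat.finite_of_card_ne_zero (by rw [card_Co0]; norm_num)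

theorem odd_index_NN : Odd NN.index := by
  have := NN.card_mul_index
  rw [card_NN, card_Co0] at this
  have h : NN.index = 8292375 := by omega
  rw [h]; decide

theorem exists_conj_mono {x : Co0} {n : ℕ} (hx : x ^ 2 ^ n = 1) :
    ∃ k σ c, k * x * k⁻¹ = mono σ c := by
  have hp : IsPGroup 2 (Subgroup.zpowers x) := by
    rintro ⟨_, i, rfl⟩
    exact ⟨n, Subtype.ext (by
      show (x ^ i) ^ 2 ^ n = 1
      rw [← zpow_natCast, ← zpow_mul, mul_comm, zpow_mul, zpow_natCast, hx, one_zpow])⟩
  obtain ⟨k, hk⟩ := exists_conj_le odd_index_NN hp
  obtain ⟨σ, c, e⟩ := exists_mono_of_mem_NN (hk x (Subgroup.mem_zpowers x))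
  exact ⟨k, σ, c, e⟩

/-- the signed permutation `(P, w)` is diagonal on the frame given by the columns of `x` -/
noncomputable def okD (P w x : ℕ) : Bool :=
  okA x && allLt (fun i => force (ap x (c8 i)) fun Y =>
    allLt (fun p => Nat.beq (dg Y p)
      (cond (Nat.beq (bit w p) 1) (Nat.sub 16 (dg Y (app24 P p))) (dg Y (app24 P p)))) 24 ||
    allLt (fun p => Nat.beq (dg Y p)
      (cond (Nat.beq (bit w p) 1) (dg Y (app24 P p)) (Nat.sub 16 (dg Y (app24 P p))))) 24) 24

theorem okD_spec {σ : M24} {P w x : ℕ} (hP : R σ.1 P) (h2 : σ * σ = 1) (hw : E.setOf w ∈ Code)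
    (h : okD P w x = true) : ∃ k : Co0, k * mono σ ⟨_, hw⟩ * k⁻¹ ∈ Sgn := by
  simp only [okD, Bool.and_eq_true, allLt_iff, force_eq, Bool.or_eq_true, Nat.beq_eq] at h
  have h1 := rep_aut h.1
  have h8 : ∀ i, sqNorm (e8 i : GolayPt → ℤ) ≤ 80 := fun i => by rw [sqNorm_e8]; norm_num
  have hs : ∀ p, σ.1.symm p = σ.1 p := fun p => by
    rw [Equiv.symm_apply_eq]
    exact (congrArg (fun t : M24 => t.1 p) h2).symm
  refine ⟨(aut x)⁻¹, fun i => ?_⟩
  rw [inv_inv, mul_smul, mul_smul, inv_smul_eq_iff, inv_smul_eq_iff, smul_neg]
  have h3 := h1 _ (h8 i)
  rw [enc_e8] at h3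
  have hb : Bd (aut x • e8 i : leechLattice) := bd_of_sqNorm (by rw [sqNorm_smul]; exact h8 i)
  have h4 := vec_enc hb
  have h5 := h.2 _ (E.enc_lt i)
  rw [h3] at h5
  generalize aut x • e8 i = y at hb h4 h5
  generalize enc (y : GolayPt → ℤ) = Y at h4 h5
  have h6 : ∀ p, (y : GolayPt → ℤ) p = (dg Y (E.enc p) : ℤ) - 8 := fun p => by rw [← h4]; rfl
  have h7 : ∀ p, app24 P (E.enc p) = E.enc (σ.1 p) := fun p => (hP p).symm
  have h9 : ∀ p, bit w (E.enc p) = 1 ↔ p ∈ E.setOf w := fun p => by
    rw [bit_eq, E.mem_setOf]
    by_cases t : w.testBit (E.enc p) = true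
    · rw [if_pos t]; exact ⟨fun _ => t, fun _ => rfl⟩
    · rw [if_neg t]; exact ⟨fun e => absurd e (by decide), fun e => absurd e t⟩
  have h12 : ∀ p, (mono σ ⟨_, hw⟩ • y : leechLattice).1 p =
      if p ∈ E.setOf w then -(y : GolayPt → ℤ) (σ.1 p) else (y : GolayPt → ℤ) (σ.1 p) := fun p => by
    rw [coe_mono_smul, signedPerm, hs]
  have h13 : ∀ (p : GolayPt) (a b : ℕ), cond (Nat.beq (bit w (E.enc p)) 1) a b =
      if p ∈ E.setOf w then a else b := fun p a b => by
    by_cases hp : p ∈ E.setOf w
    · rw [if_pos hp, (h9 p).2 hp]; rfl
    · rw [if_neg hp, Bool.eq_false_iff.2 (fun t => hp ((h9 p).1 (Nat.eq_of_beq_eq_true t)))]; rfl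
  clear h h1 h3 h4 h8
  refine h5.imp (fun e => ?_) fun e => ?_
  · refine Subtype.ext (funext fun p => ?_)
    have h10 := e _ (E.enc_lt p)
    have h11 := hb (σ.1 p)
    rw [h7, h13, Nat.sub_eq] at h10
    rw [h12, h6 p]
    rw [h6 (σ.1 p)] at h11 ⊢
    generalize dg Y (E.enc p) = a at *
    generalize dg Y (E.enc (σ.1 p)) = b at *
    split_ifs at h10 ⊢ <;> omega
  · refine Subtype.ext (funext fun p => ?_)
    have h10 := e _ (E.enc_lt p)
    have h11 := hb (σ.1 p)
    rw [h7, h13, Nat.sub_eq] at h10
    rw [h12, AddSubgroup.coe_neg, Pi.neg_apply, h6 p]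
    rw [h6 (σ.1 p)] at h11 ⊢
    generalize dg Y (E.enc p) = a at *
    generalize dg Y (E.enc (σ.1 p)) = b at *
    split_ifs at h10 ⊢ <;> omega

/-- a frame for the involution of class 2A -/
def fA0 : ℕ := 0x22108421084210842108421084318c411084210c42188421084210c421084218822108421084210821108421084210c4210822108410884210842108421882210842108421086310842108421084310842104221044210842108421084218841108421084208822108431084210442188421084210c421084210c4210822108431884210842108421084218841108421084218862108431084210c42088421084210c421084210843108421046210c42108421084210841108421046210442108421084210442108221084308842108421084210442108221084118842108421084210841108421042210c4210842108420882210842108421086110842108420882210842108421082310842108421084208841108421084218822108411084210442088421084210c4210842108420884110842108420886210862108421084210842108421084118c221084210842108421084210841184621084210842108421084210843184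
/-- a frame for the involution of class 2A -/
def fA1 : ℕ := 0x621084210842108421084208822104411084210c421086210c421084210842184421084210841108221084210842184421084210843108621084210842108621082210842088411084210842108411084218c421084210c42108421084218841108421084210841088411084210c4210822104421084210842108621082210842188431084210842108420884310842108421084108842108431084208c421084210c42108421084310842184421084210c421084110842104421086210442108421084208442108421084310822108421084210822108221084218841108421084110842104421082210c421084210842084421084210841108621084210842108221082210842088431084210862108421084210842108420886210c421084110842084421084210c4210862108421084210842108421882210c421084218843108421084210841188421084208841108421084210841188621084210842108421084218862104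
/-- a frame for the involution of class 2A -/
def fA2 : ℕ := 0x22108621084210842108431084210c41108421084218c6210842108421084218842108421084210822108410884210c42088411084110842108421082210862108421084210841108421044210843104421084210442104421084210442188411084110842108421084210843104421084210c4210c421084210842108221084218842188621084210c421884110843108421084210843108421084208c6210842108421084310842108421846210842108421084110842108420846210842108421084210442088411084310842108421084210842108221084218842088221084210841104421084210c421044210842088421084210842108621084108862108621084210842108411084210c421084210822108420884218822108421084110442108421044210c42108421084210822108420884208862108420884210842108421082210843088421884210842108421086210843088621086210842108421084310842104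
/-- a frame for the involution of class 2A -/
def fA3 : ℕ := 0x6208842108421084210822108421044110843108421884210c421084210862088421084210842108621084210c4210442108421084310842188621084210862108421084210841108410884310841108421884210c4210842108421084218821108420884210842108421084210c421042210842104421084210842188231084218842108421084210842088231084208842108421084310843108420884210c4210842108421084210c42104621084210c421084210842104421046210842104421084210442108421084310842088221084210842088211084218842108421084110841108420884210c421084210862188421084210842108221084210c421082210842108421084310841088421044210842108411084218822108421084210442104221084210c42108421044210842108411084208862108421086210842108421084310841188421082210842108421084110841188621884210842108421086210842104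
/-- a frame for the involution of class 2A -/
def fA4 : ℕ := 0x22108421086210842188421084210c411084310842108621084210c421084218842088411084210822108421084210c421084210841108421084108842108221084210842108431886210841108431084210822108421044210842088421884110842108221084210842108421044218c4210c4210842108221084210862108420884210842104421884218841108421086210842108421084210c4208c4210c4210842108421084210c421844210c421084210841108411084210862108421044210842104421084210843108421084108862108421086210842088421084210c4210842104420844210c4210842108420884208841108421086210842108421082210842108421084308822108421082210842108421084118822108411084110842108221084210c421084210822108421084210841088621084210442108421084110842108430884210c4210842108431084210843088621084210862108421884210842104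
/-- a frame for the involution of class 2A -/
def fA5 : ℕ := 0x62104421084210841108421084210441108421084210c4210c4210c4210842088421084210842108621886210862104421084210843108421084210c421082218843108421084310842108421084110c42188621084210842108421082218841108421084110842108421084110c4208822108421084210842108421082210842188421084318842108621884110842108431084210842108411044218822108421084210841108421084210c4210442104421084210841104420886210842108421086210c421084210841108421084210c4210842108221084218842108410884110842108421044210c4210442108420884210842108421086208822108421086218843108421084110842108420884210842108421082218822108411084210842104421044210c421084208842108421084210822088621084210842108221084208842108430884210842108221084208842108411886210c4210842108431084210842104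
/-- a frame for the involution of class 2A -/
def fA6 : ℕ := 0x22108421884310842108421084210c411084310c4210c4210842108421084218842108221084208822108421084210c22108421084110841108421084210c221084210843108431084210841108431044210442108421084210862108420884310842108421084210c43108431044210c4210842108421084218842108221084218862108421082210842088431084210842108421044210842108420886210c4210c42108431084310c421044210842108421084210842108420886210442104421084210422108421084310841108421084208842108221084218822108421084210842108420882210c4210442108420884210822108420886210842108421042210842108411084310842108421084210842108421084218821088421084210842088221044210c42108421084210842108421084208861088421084210842108421084208823088421084210842108421084218863088621084218843108421084210842104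
/-- a frame for the involution of class 2B -/
def fB : ℕ := 0x621084210842108421082110842104411084210843108421084210c621084218822108421084210842108410884210442108421086218c421084210842088621084210842108421084108842108411086210c431084210842108421084218442088421084208842108421084208c4208842108420884210842108431082210c431084210842108411084210843108421084210422108421084218c420884210842188421084210843108621044310842108421084210442108421086208442108421084210841108221044310842108421084210442108421082218442108421084210442108421082208c421084210862108421084210842108231084210c62108421084210842108611084210c421084208442088421084218842108411084210841108421084210c22108411084210841108421084210462108421886210842108421084210841188420882210842108421084210841188621084210842108421086310842104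

/-- representatives of the fixed words with their frames -/
def repA : List (ℕ × ℕ) := [(0, fA0), (13062145, fA6), (421910, fA1), (12656663, fA0), (4989254, fA3), (8499969, fA4), (4870480, fA5), (9240913, fA2), (1009728, fA5), (13121601, fA2), (596054, fA3), (12880401, fA4), (4409606, fA1), (8657159, fA0), (4536592, fA0), (8546577, fA6)]
/-- words producing the commutator space -/
def dA : List ℕ := [0, 4845570, 13938692, 10305542, 7221256, 2605066, 12222476, 15953934, 15515712, 10825794, 3698756, 7438406, 8581192, 13303882, 5652556, 2076750]
/-- words producing the commutator space -/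
def dB : List ℕ := [0, 13062145, 4845570, 9347075, 13938692, 1302533, 10305542, 5902343, 7221256, 11100169, 2605066, 14716939, 12222476, 8245261, 15953934, 3416079, 15515712, 2854977, 10825794, 6447171, 3698756, 16719941, 7438406, 11980871, 8581192, 4563017, 13303882, 806987, 5652556, 9506893, 2076750, 14213199, 8077824, 12325377, 3322370, 16114179, 11530756, 6857221, 15073798, 2183687, 1405448, 13771273, 6062602, 10211851, 12698124, 430605, 8925710, 5202447, 9929280, 5296705, 14578242, 1647171, 4403780, 8675909, 705094, 13472327, 16364104, 4121161, 11551306, 7803467, 2949708, 15356493, 6615630, 10723919]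

/-- every fixed word is congruent to a representative with a diagonalizing frame -/
noncomputable def okInv (P : ℕ) (L : List (ℕ × ℕ)) (D : List ℕ) : Bool :=
  L.all (fun r => isCw r.1 && okD P r.1 r.2) && D.all isCw &&
    allLt2 (fun k => force (cw k) fun w => !Nat.beq (img24 P w) w ||
      D.any fun d => force (Nat.xor w (Nat.xor d (img24 P d))) fun u => L.any fun r => Nat.beq r.1 u) 64 64

theorem okInv_spec {σ : M24} {P : ℕ} {L : List (ℕ × ℕ)} {D : List ℕ} (hP : R σ.1 P) (h2 : σ * σ = 1)
    (h : okInv P L D = true) {c : Code} (hc : cs σ c = c) : ∃ k : Co0, k * mono σ c * k⁻¹ ∈ Sgn := by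
  simp only [okInv, Bool.and_eq_true, List.all_eq_true, allLt2_iff, force_eq, Bool.or_eq_true,
    List.any_eq_true, Nat.beq_eq, Bool.not_eq_true'] at h
  obtain ⟨⟨hL, hD⟩, hk⟩ := h
  obtain ⟨c, hc'⟩ := c
  obtain ⟨k, hk', rfl⟩ := Golay.mem_code_iff.1 hc'
  have e1 : img24 P (cw k) = cw k := by
    rw [← E.setOf_inj (hP.img_lt _) (Golay.cw_lt hk'), hP.setOf_img]
    exact congrArg Subtype.val hc
  rcases hk k hk' with e | ⟨d, hd, r, hr, e⟩
  · rw [e1, Nat.beq_refl] at e; exact absurd e (by decide)
  · obtain ⟨k1, hk1⟩ := okD_spec hP h2 (Golay.setOf_mem_of_isCw (hL r hr).1) (hL r hr).2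
    refine ⟨k1 * sgn ⟨_, Golay.setOf_mem_of_isCw (hD d hd)⟩, ?_⟩
    rw [mul_inv_rev, show ∀ a b c d e : Co0, a * b * c * (d * e) = a * (b * c * d) * e from
      fun _ _ _ _ _ => by group, sgn_conj_mono]
    convert hk1 using 4
    apply Subtype.ext
    simp only [cx, cs]
    rw [e, Nat.xor_eq, Nat.xor_eq, E.setOf_xor, E.setOf_xor, hP.setOf_img, symmDiff_assoc]

theorem okInv_A : okInv c2A repA dA = true := by decide +kernel

theorem okInv_B : okInv c2B [(0, fB)] dB = true := by decide +kernel

theorem sq_of_conjTo {t g : Equiv.Perm GolayPt} (h : ConjTo t g) :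
    ∃ k ∈ M24, k * g * k⁻¹ = t := by
  obtain ⟨k, hk, e⟩ := h.symm
  exact ⟨k, hk, e⟩

/-- every involution is conjugate to a sign change -/
theorem exists_conj_Sgn {x : Co0} (hx : x * x = 1) : ∃ k : Co0, k * x * k⁻¹ ∈ Sgn := by
  obtain ⟨k, σ, c, e⟩ := exists_conj_mono (x := x) (n := 1) (by rw [pow_one, pow_two, hx])
  have h1 : mono σ c * mono σ c = 1 := by
    rw [← e]
    calc k * x * k⁻¹ * (k * x * k⁻¹) = k * (x * x) * k⁻¹ := by group
      _ = 1 := by rw [hx]; group
  rw [mono_mul, ← mono_one] at h1
  obtain ⟨h2, h3⟩ := mono_inj h1
  have h4 : cs σ c = c := Subtype.ext (symmDiff_eq_bot.1 (congrArg Subtype.val h3)).symm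
  suffices h : ∃ l : Co0, l * mono σ c * l⁻¹ ∈ Sgn by
    obtain ⟨l, hl⟩ := h
    exact ⟨l * k, by rw [← e] at hl; convert hl using 1; group⟩
  by_cases h5 : σ = 1
  · exact ⟨1, by rw [h5, one_mul, inv_one, mul_one]; exact sgn_mem c⟩
  have h6 : orderOf σ.1 = 2 := by
    rw [Subgroup.orderOf_coe]
    exact orderOf_eq_prime (by rwa [pow_two]) h5
  have key : ∀ (t : M24) (P : ℕ) (L : List (ℕ × ℕ)) (D : List ℕ), R t.1 P → okInv P L D = true →
      ConjTo t.1 σ.1 → ∃ l : Co0, l * mono σ c * l⁻¹ ∈ Sgn := fun t P L D hP h hc => by
    obtain ⟨l, hl, e1⟩ := sq_of_conjTo hc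
    have e2 : (⟨l, hl⟩ : M24) * σ * ⟨l, hl⟩⁻¹ = t := Subtype.ext e1
    obtain ⟨m, hm⟩ := okInv_spec hP (by
      rw [← e2]
      calc _ = (⟨l, hl⟩ : M24) * (σ * σ) * ⟨l, hl⟩⁻¹ := by group
        _ = 1 := by rw [h2]; group) h (c := cs ⟨l, hl⟩ c) (by
      apply Subtype.ext
      have : σ.1 • c.1 = c.1 := congrArg Subtype.val h4
      simp only [cs]
      rw [← e1, mul_smul, mul_smul, inv_smul_smul, this])
    refine ⟨m * permHom ⟨l, hl⟩, ?_⟩
    rw [← e2, ← perm_conj_mono] at hm
    convert hm using 1; group
  rcases Golay.invol_class σ.2 h6 with h | h
  · exact key ⟨_, Golay.mem_2A⟩ _ _ _ Golay.R_2A okInv_A h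
  · exact key ⟨_, Golay.mem_2B⟩ _ _ _ Golay.R_2B okInv_B h

end CL.StdCo
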