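/-
The Weyl group of type `E8` in the coordinates of a frame of orthogonal roots, and its reduction
modulo two.
-/
import Mathlib
import Cfsg.Agent.KSG.OrthOmega
import Cfsg.Agent.KSG.OrthStd

set_option autoImplicit false
set_option maxRecDepth 100000

namespace CL.StdO8

open Matrix Subgroup Cfsg

/-- subsets of the frame -/
abbrev V : Type := Fin 8 → ZMod 2
/-- rational matrices -/
abbrev Mt : Type := Matrix (Fin 8) (Fin 8) ℚ
/-- the index type of the hyperbolic basis -/
abbrev ι : Type := Fin 4 ⊕ Fin 4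

/-- the fourth point of a plane -/
def x3 (i j k : Fin 8) : Fin 8 := Fin.ofNat 8 (i.1 ^^^ j.1 ^^^ k.1)

/-- the Hamming code: affine functions -/
def Code (c : V) : Prop := ∀ i j k, c (x3 i j k) = c i + c j + c k

/-- affine permutations -/
def Ag (s : Fin 8 → Fin 8) : Prop :=
  (∀ i j, s i = s j → i = j) ∧ ∀ i j k, s (x3 i j k) = x3 (s i) (s j) (s k)

instance : DecidablePred Code := fun _ => by unfold Code; infer_instance
instance : DecidablePred Ag := fun _ => by unfold Ag; infer_instance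

/-- the lattice -/
def Lam (x : Fin 8 → ℚ) : Prop := ∃ y : Fin 8 → ℤ, (∀ i, x i = y i) ∧ Code fun i => y i

theorem Code.eq {c : V} (h : Code c) :
    c = ![c 0, c 1, c 2, c 0 + c 1 + c 2, c 4, c 0 + c 1 + c 4, c 0 + c 2 + c 4, c 1 + c 2 + c 4] := by
  funext i
  fin_cases i
  exacts [rfl, rfl, rfl, h 0 1 2, rfl, h 0 1 4, h 0 2 4, h 1 2 4]

theorem Code.dot {c d : V} (h : Code c) (h' : Code d) : ∑ i, c i * d i = 0 := by
  rw [h.eq, h'.eq]
  generalize c 0 = a, c 1 = b, c 2 = e, c 4 = f, d 0 = a', d 1 = b', d 2 = e', d 4 = f'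
  revert a b e f a' b' e' f'
  decide +kernel

theorem Lam.dot {x y : Fin 8 → ℚ} (h : Lam x) (h' : Lam y) : ∃ n : ℤ, x ⬝ᵥ y = 2 * n := by
  obtain ⟨a, ha, h⟩ := h
  obtain ⟨b, hb, h'⟩ := h'
  obtain ⟨n, hn⟩ := (ZMod.intCast_zmod_eq_zero_iff_dvd (∑ i, a i * b i) 2).1 (by
    push_cast; exact h.dot h')
  exact ⟨n, by simp only [dotProduct, ha, hb]; exact_mod_cast hn⟩

/-- generators of the code -/
def Tg : Fin 4 → Fin 8 → ℤ :=
  ![![1, 1, 1, 1, 0, 0, 0, 0], ![1, 1, 0, 0, 1, 1, 0, 0], ![1, 0, 1, 0, 1, 0, 1, 0], ![0, 1, 1, 0, 1, 0, 0, 1]]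

theorem lam_int {y : Fin 8 → ℤ} (h : Code fun i => y i) : Lam fun i => y i := ⟨y, fun _ => rfl, h⟩

theorem lam_two (i : Fin 8) : Lam (Pi.single i 2) :=
  ⟨Pi.single i 2, fun j => by rw [Pi.single_apply, Pi.single_apply]; split_ifs <;> simp,
    by revert i; decide +kernel⟩

theorem lam_of_dual {x : Fin 8 → ℚ} (h : ∀ y, Lam y → ∃ n : ℤ, x ⬝ᵥ y = 2 * n) : Lam x := by
  choose a ha using fun i => h _ (lam_two i)
  have h1 : ∀ i, x i = a i := fun i => by
    have := ha i
    rw [dotProduct_single] at this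
    linarith
  refine ⟨a, h1, ?_⟩
  have h2 : ∀ c : V, (∀ k, ∑ i, c i * (Tg k i : ZMod 2) = 0) → Code c := by decide +kernel
  refine h2 _ fun k => ?_
  obtain ⟨n, hn⟩ := h _ (lam_int (y := Tg k) (by revert k; decide +kernel))
  simp only [dotProduct, h1] at hn
  have h3 : ∑ i, a i * Tg k i = 2 * n := by exact_mod_cast hn
  have := congrArg (Int.cast : ℤ → ZMod 2) h3
  push_cast at this
  rw [this, show (2 : ZMod 2) = 0 from rfl, zero_mul]

theorem Lam.sub_smul {x y : Fin 8 → ℚ} (h : Lam x) (h' : Lam y) (n : ℤ) : Lam (x - (n : ℚ) • y) := by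
  obtain ⟨a, ha, h⟩ := h
  obtain ⟨b, hb, h'⟩ := h'
  refine ⟨a - n • b, fun i => by simp [ha, hb], fun i j k => ?_⟩
  have := h i j k
  have := h' i j k
  simp only [Pi.sub_apply, Pi.smul_apply, smul_eq_mul, Int.cast_sub, Int.cast_mul] at *
  grind

/-- orthogonal matrices preserving the lattice -/
def Ok (M : Mt) : Prop := M * Mᵀ = 1 ∧ ∀ x, Lam x → Lam (M *ᵥ x)

theorem dot_mulVec {M : Mt} (h : M * Mᵀ = 1) (x y : Fin 8 → ℚ) : (M *ᵥ x) ⬝ᵥ (M *ᵥ y) = x ⬝ᵥ y := by
  rw [dotProduct_mulVec, vecMul_mulVec, mul_eq_one_comm.1 h, vecMul_one]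

theorem inv_eq_tr {g : GL (Fin 8) ℚ} (h : g.1 * g.1ᵀ = 1) : (g⁻¹).1 = g.1ᵀ := by
  rw [← mul_one (g⁻¹).1, ← h, ← mul_assoc, g.inv_mul, one_mul]

/-- the Weyl group -/
def W : Subgroup (GL (Fin 8) ℚ) where
  carrier := {g | Ok g.1}
  one_mem' := ⟨by simp, fun x hx => by simpa using hx⟩
  mul_mem' {a b} ha hb := ⟨by
    rw [Units.val_mul, transpose_mul, mul_assoc, ← mul_assoc b.1, hb.1, one_mul, ha.1], fun x hx => by
    rw [Units.val_mul, ← mulVec_mulVec]; exact ha.2 _ (hb.2 _ hx)⟩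
  inv_mem' {a} ha := by
    change Ok _
    rw [inv_eq_tr ha.1]
    refine ⟨by rw [transpose_transpose, mul_eq_one_comm.1 ha.1], fun x hx => lam_of_dual fun y hy => ?_⟩
    rw [mulVec_transpose, ← dotProduct_mulVec]
    exact hx.dot (ha.2 _ hy)

/-- the matrix of an element -/
def mat : W →* Mt := (Units.coeHom Mt).comp W.subtype

theorem mat_inj : Function.Injective mat := fun _ _ h => Subtype.ext (Units.ext h)

theorem mat_ok (w : W) : Ok (mat w) := w.2

theorem mat_inv (w : W) : mat w⁻¹ = (mat w)ᵀ := inv_eq_tr w.2.1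

open Classical in
/-- the element with a given matrix -/
noncomputable def wk (M : Mt) : W :=
  if h : Ok M then ⟨⟨M, Mᵀ, h.1, mul_eq_one_comm.1 h.1⟩, h⟩ else 1

theorem mat_wk {M : Mt} (h : Ok M) : mat (wk M) = M := by rw [wk, dif_pos h]; rfl

/-- signs -/
def sg (a : ZMod 2) : ℤ := if a = 0 then 1 else -1

theorem sg_add (a b : ZMod 2) : sg (a + b) = sg a * sg b := by revert a b; decide
theorem sg_sq (a : ZMod 2) : sg a * sg a = 1 := by revert a; decide
theorem sg_cast (a : ZMod 2) : (sg a : ZMod 2) = 1 := by revert a; decide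
theorem sg_inj {a b : ZMod 2} (h : sg a = sg b) : a = b := by revert a b; decide

/-- sign changes -/
def em (c : V) : Mt := diagonal fun i => (sg (c i) : ℚ)

theorem ok_em (c : V) : Ok (em c) := ⟨by
    rw [em, diagonal_transpose, diagonal_mul_diagonal]
    simp only [← Int.cast_mul, sg_sq, Int.cast_one, diagonal_one], fun x ⟨y, hy, h⟩ =>
  ⟨fun i => sg (c i) * y i, fun i => by simp [em, mulVec_diagonal, hy], by simpa [sg_cast] using h⟩⟩

/-- sign changes -/
noncomputable def e (c : V) : W := wk (em c)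

theorem mat_e (c : V) : mat (e c) = em c := mat_wk (ok_em c)

theorem e_add (c d : V) : e (c + d) = e c * e d := mat_inj (by
  simp [mat_e, em, sg_add])

theorem e_zero : e 0 = 1 := mat_inj (by simp [mat_e, em, sg])

theorem V.add_self (c : V) : c + c = 0 := funext fun _ => CharTwo.add_self_eq_zero _

theorem e_sq (c : V) : e c * e c = 1 := by rw [← e_add, V.add_self, e_zero]

theorem e_inv (c : V) : (e c)⁻¹ = e c := inv_eq_of_mul_eq_one_right (e_sq c)

theorem e_comm (c d : V) : e c * e d = e d * e c := by rw [← e_add, ← e_add, add_comm]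

theorem e_inj {c d : V} (h : e c = e d) : c = d := funext fun i => by
  have := congrFun (congrFun (congrArg mat h) i) i
  simp only [mat_e, em, diagonal_apply_eq] at this
  exact sg_inj (by exact_mod_cast this)

theorem mat_e_one : mat (e 1) = -1 := by
  rw [mat_e, em]; ext i j; by_cases h : i = j <;> simp [sg, h]

theorem e_one_comm (w : W) : w * e 1 = e 1 * w := mat_inj (by simp [mat_e_one])

/-- permutation matrices -/
def qm (s : Fin 8 → Fin 8) : Mt := of fun i j => if j = s i then 1 else 0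

theorem qm_mulVec (s : Fin 8 → Fin 8) (x : Fin 8 → ℚ) : qm s *ᵥ x = x ∘ s := funext fun i => by
  simp [qm, mulVec, dotProduct]

theorem ok_qm {s : Fin 8 → Fin 8} (h : Ag s) : Ok (qm s) := ⟨by
    ext i j
    simp only [qm, mul_apply, of_apply, transpose_apply, ite_mul, one_mul, zero_mul,
      Finset.sum_ite_eq', Finset.mem_univ, if_true, one_apply]
    exact if_congr ⟨h.1 _ _, congrArg s⟩ rfl rfl, fun x ⟨y, hy, h'⟩ =>
  ⟨y ∘ s, fun i => by simp [qm_mulVec, hy], fun i j k => by simpa [h.2] using h' _ _ _⟩⟩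

/-- permutations of the frame -/
noncomputable def Q (s : Fin 8 → Fin 8) : W := wk (qm s)

theorem mat_Q {s : Fin 8 → Fin 8} (h : Ag s) : mat (Q s) = qm s := mat_wk (ok_qm h)

theorem Ag.comp {s t : Fin 8 → Fin 8} (h : Ag s) (h' : Ag t) : Ag (s ∘ t) :=
  ⟨fun _ _ e => h'.1 _ _ (h.1 _ _ e), fun i j k => by simp [h'.2, h.2]⟩

theorem Q_mul {s t : Fin 8 → Fin 8} (h : Ag s) (h' : Ag t) : Q s * Q t = Q (t ∘ s) := mat_inj (by
  rw [map_mul, mat_Q h, mat_Q h', mat_Q (h'.comp h)]
  refine ext_of_mulVec_single fun i => ?_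
  rw [← mulVec_mulVec, qm_mulVec, qm_mulVec, qm_mulVec]
  rfl)

theorem ag_id : Ag id := ⟨fun _ _ h => h, fun _ _ _ => rfl⟩

theorem Q_id : Q id = 1 := mat_inj (by
  rw [mat_Q ag_id, map_one]; ext i j; simp [qm, one_apply, eq_comm])

theorem Q_mul_e {s : Fin 8 → Fin 8} (h : Ag s) (c : V) : Q s * e c = e (c ∘ s) * Q s := mat_inj (by
  simp only [map_mul, mat_Q h, mat_e]
  ext i j
  simp only [em, mul_diagonal, diagonal_mul, qm, of_apply]
  split_ifs with hj <;> simp [hj])

theorem Q_conj {s : Fin 8 → Fin 8} (h : Ag s) (c : V) : Q s * e c * (Q s)⁻¹ = e (c ∘ s) := by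
  rw [Q_mul_e h, mul_inv_cancel_right]

/-- the matrix of a reflection -/
def rm (a : Fin 8 → ℚ) : Mt := 1 - (1 / 2 : ℚ) • vecMulVec a a

theorem rm_mulVec (a x : Fin 8 → ℚ) : rm a *ᵥ x = x - (a ⬝ᵥ x / 2) • a := by
  rw [rm, sub_mulVec, one_mulVec, smul_mulVec, vecMulVec_mulVec]
  ext i; simp; ring

theorem ok_rm {a : Fin 8 → ℚ} (h : Lam a) (h4 : a ⬝ᵥ a = 4) : Ok (rm a) := ⟨by
    have : (rm a)ᵀ = rm a := by simp [rm, transpose_vecMulVec]
    rw [this]
    refine ext_of_mulVec_single fun i => ?_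
    rw [← mulVec_mulVec, rm_mulVec, rm_mulVec, one_mulVec, dotProduct_sub, dotProduct_smul, h4]
    ext j; simp; ring, fun x hx => by
  obtain ⟨n, hn⟩ := h.dot hx
  rw [rm_mulVec, hn, show (2 * n / 2 : ℚ) = n by ring]
  exact hx.sub_smul h n⟩

/-! ### integral coordinates -/

/-- a basis of the lattice -/
def bA : Matrix (Fin 8) ι ℤ := of fun i j => (!![-1, 1, 0, -1, 2, 0, 0, 1; 0, -1, -1, 1, 0, 0, 2, -1;
  0, 0, 0, 1, 0, 0, 0, -1; 1, 2, 1, -1, 0, 2, 0, -1; -1, 0, -2, 0, 1, -1, 1, 2; -2, 0, 1, 2, 1, -1, 1, 0;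
  0, -1, 0, 0, -1, -1, -1, 0; -1, 1, 1, 0, 1, 1, 1, 0] : Matrix (Fin 8) (Fin 8) ℤ) i (finSumFinEquiv j)

/-- the dual basis -/
def bD : Matrix (Fin 8) ι ℤ := of fun i j => (!![0, 0, 0, -1, 1, -1, 0, -1; 0, 0, 0, -1, 0, -1, 1, -1;
  -2, 0, -2, 1, 0, 2, -2, -1; 0, 2, 0, -1, -1, -2, 1, -1; -1, 1, -1, 0, -1, 0, 0, 0; 1, 1, 1, 0, 0, -2, 1, 0;
  -3, 1, -1, -2, -2, -1, 0, -2; -3, -1, -1, 0, -1, 3, -1, 0] : Matrix (Fin 8) (Fin 8) ℤ) i (finSumFinEquiv j)

/-- the quadratic form in the basis -/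
def bH : Matrix ι ι ℤ := of fun i j => (!![2, 0, 0, -2, -3, 2, -2, -2; 0, 2, 2, -2, 2, 3, 0, 0;
  0, 0, 2, 0, 0, 2, -1, -2; 0, 0, 0, 2, 0, -2, 2, -1; 0, 0, 0, 0, 2, 0, 2, 2; 0, 0, 0, 0, 0, 2, 0, -2;
  0, 0, 0, 0, 0, 0, 2, 0; 0, 0, 0, 0, 0, 0, 0, 2] : Matrix (Fin 8) (Fin 8) ℤ)
    (finSumFinEquiv i) (finSumFinEquiv j)

/-- the basis over the rationals -/
def qA : Matrix (Fin 8) ι ℚ := bA.map (↑)

/-- an integral matrix as a rational one -/
def cq (X : Matrix ι ι ℤ) : Matrix ι ι ℚ := X.map (↑)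

/-- the vector with given coordinates -/
def vec (v : ι → ℤ) : Fin 8 → ℚ := qA *ᵥ fun j => v j

theorem vec_eq (v : ι → ℤ) (i : Fin 8) : vec v i = (bA *ᵥ v) i := by
  simp [vec, qA, mulVec, dotProduct]

theorem lam_vec (v : ι → ℤ) : Lam (vec v) := ⟨_, vec_eq v, fun i j k => by
  have h : ∀ l, Code fun i => (bA i l : ZMod 2) := by decide +kernel
  simp only [mulVec, dotProduct, Int.cast_sum, Int.cast_mul, h _ i j k, add_mul, Finset.sum_add_distrib]⟩

theorem DA : (bD.map (↑) : Matrix _ _ ℚ)ᵀ * qA = (2 : ℚ) • 1 := by decide +kernel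

theorem AD : qA * (bD.map (↑) : Matrix _ _ ℚ)ᵀ = (2 : ℚ) • 1 := by decide +kernel

theorem Lam.exists_vec {x : Fin 8 → ℚ} (h : Lam x) : ∃ v, x = vec v := by
  have h1 : ∀ l, Code fun i => (bD i l : ZMod 2) := by decide +kernel
  choose v hv using fun l => (lam_int (h1 l)).dot h
  refine ⟨v, smul_right_injective _ (two_ne_zero (α := ℚ)) ?_⟩
  have : (bD.map (↑) : Matrix _ _ ℚ)ᵀ *ᵥ x = (2 : ℚ) • fun j => (v j : ℚ) := funext hv
  simp only [vec, ← mulVec_smul, ← this, mulVec_mulVec, AD, smul_mulVec, one_mulVec]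

theorem qA_cancel {κ : Type} {X Y : Matrix ι κ ℚ} (h : qA * X = qA * Y) : X = Y := by
  have := congrArg ((bD.map (↑) : Matrix _ _ ℚ)ᵀ * ·) h
  simp only [← Matrix.mul_assoc, DA, Matrix.smul_mul, Matrix.one_mul] at this
  exact smul_right_injective _ (two_ne_zero (α := ℚ)) this

theorem vec_inj {v w : ι → ℤ} (h : vec v = vec w) : v = w := by
  have := congrArg ((bD.map (↑) : Matrix _ _ ℚ)ᵀ *ᵥ ·) h
  simp only [vec, mulVec_mulVec, DA, smul_mulVec, one_mulVec] at this
  exact funext fun i => by exact_mod_cast congrFun (smul_right_injective _ (two_ne_zero (α := ℚ)) this) i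

theorem mulVec_vec {M : Mt} {X : Matrix ι ι ℤ} (h : qA * cq X = M * qA) (v : ι → ℤ) :
    M *ᵥ vec v = vec (X *ᵥ v) := by
  rw [vec, vec, mulVec_mulVec, ← h, ← mulVec_mulVec]
  congr 1
  ext i
  simp [cq, mulVec, dotProduct]

theorem ok_of_int {M : Mt} (X : Matrix ι ι ℤ) (h1 : M * Mᵀ = 1) (h : qA * cq X = M * qA) : Ok M :=
  ⟨h1, fun x hx => by
    obtain ⟨v, rfl⟩ := hx.exists_vec
    rw [mulVec_vec h]; exact lam_vec _⟩

theorem exists_int (w : W) : ∃ X : Matrix ι ι ℤ, qA * cq X = mat w * qA := by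
  choose v hv using fun j => ((mat_ok w).2 _ (lam_vec (Pi.single j 1))).exists_vec
  refine ⟨of fun i j => v j i, ext_of_mulVec_single fun j => ?_⟩
  have h : ∀ j : ι, (fun k => ((Pi.single j 1 : ι → ℤ) k : ℚ)) = Pi.single j 1 := fun j => funext fun k => by
    rw [Pi.single_apply, Pi.single_apply]; split_ifs <;> simp
  rw [← mulVec_mulVec, ← mulVec_mulVec, ← h, ← vec, hv, vec]
  congr 1
  ext i
  simp [h, cq]

/-- the integral matrix of an element -/
noncomputable def Rz (w : W) : Matrix ι ι ℤ := (exists_int w).choose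

theorem Rz_spec (w : W) : qA * cq (Rz w) = mat w * qA := (exists_int w).choose_spec

theorem Rz_eq {w : W} {X : Matrix ι ι ℤ} (h : qA * cq X = mat w * qA) : Rz w = X :=
  map_injective Int.cast_injective (qA_cancel ((Rz_spec w).trans h.symm))

theorem mat_vec (w : W) (v : ι → ℤ) : mat w *ᵥ vec v = vec (Rz w *ᵥ v) := mulVec_vec (Rz_spec w) v

/-- the quadratic form -/
def qz (v : ι → ℤ) : ℤ := ∑ i, ∑ j, v i * bH i j * v j

theorem vec_dot (v : ι → ℤ) : vec v ⬝ᵥ vec v = 4 * qz v := by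
  have h : qAᵀ * qA = of fun i j => (2 * (bH i j + bH j i) : ℚ) := by decide +kernel
  rw [vec, dotProduct_mulVec, vecMul_mulVec, h]
  simp only [qz, dotProduct, vecMul, of_apply, mul_add, add_mul, Finset.sum_add_distrib, Finset.sum_mul]
  nth_rw 1 [Finset.sum_comm]
  push_cast
  rw [← Finset.sum_add_distrib, Finset.mul_sum]
  refine Finset.sum_congr rfl fun i _ => ?_
  rw [← Finset.sum_add_distrib, Finset.mul_sum]
  exact Finset.sum_congr rfl fun j _ => by ring

/-- reduction modulo two -/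
def red (v : ι → ℤ) : ι → ZMod 2 := fun i => v i

theorem q_red (v : ι → ℤ) : quadFormPlus 4 (ZMod 2) (red v) = qz v := by
  have h : ∀ i j, (bH i j : ZMod 2) = Sum.elim (fun k => if j = .inr k then 1 else 0) 0 i := by
    decide +kernel
  simp [h, quadFormPlus, red, qz]

theorem red_surj (u : ι → ZMod 2) : ∃ v, red v = u := ⟨fun i => (u i).val, funext fun i => by simp [red]⟩

theorem red_mulVec (X : Matrix ι ι ℤ) (v : ι → ℤ) : X.map (↑) *ᵥ red v = red (X *ᵥ v) := funext fun i => by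
  simp [red, mulVec, dotProduct]

theorem qz_Rz (w : W) (v : ι → ℤ) : qz (Rz w *ᵥ v) = qz v := by
  have := dot_mulVec (mat_ok w).1 (vec v) (vec v)
  rw [mat_vec, vec_dot, vec_dot] at this
  exact_mod_cast mul_left_cancel₀ (by norm_num : (4 : ℚ) ≠ 0) this

/-- the orthogonal group over the field with two elements -/
abbrev O8 : Type := isometryGroup (ZMod 2) (quadFormPlus 4 (ZMod 2))

/-- reduction modulo two -/
noncomputable def ρ : W →* O8 :=
  (MonoidHom.toHomUnits (G := W) ((Int.castRingHom (ZMod 2)).mapMatrix.toMonoidHom.comp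
    ⟨⟨Rz, Rz_eq (by simp [cq])⟩, fun a b => Rz_eq (by
      rw [show cq (Rz a * Rz b) = cq (Rz a) * cq (Rz b) from
        Matrix.map_mul (f := Int.castRingHom ℚ), ← Matrix.mul_assoc, Rz_spec, Matrix.mul_assoc, Rz_spec,
        map_mul, Matrix.mul_assoc])⟩)).codRestrict _ fun g u _ => by
    obtain ⟨v, rfl⟩ := red_surj u
    change quadFormPlus 4 (ZMod 2) ((Rz g).map (↑) *ᵥ red v) = quadFormPlus 4 (ZMod 2) (red v)
    rw [red_mulVec, q_red, q_red, qz_Rz]

theorem ρ_val (w : W) : ((ρ w).1 : Matrix ι ι (ZMod 2)) = (Rz w).map (↑) := rfl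

theorem ρ_e_one : ρ (e 1) = 1 := Subtype.ext (Units.ext (by
  rw [ρ_val, Rz_eq (X := -1) (by rw [mat_e_one]; decide +kernel)]
  decide +kernel))

theorem pm_of_ρ {w : W} (h : ρ w = 1) {x : Fin 8 → ℚ} (hx : Lam x) (h4 : x ⬝ᵥ x = 4) :
    mat w *ᵥ x = x ∨ mat w *ᵥ x = -x := by
  obtain ⟨v, rfl⟩ := hx.exists_vec
  have h1 := red_mulVec (Rz w) v
  rw [← ρ_val, h, show ((1 : O8).1 : Matrix ι ι (ZMod 2)) = 1 from rfl, one_mulVec] at h1
  choose t ht using fun i => (ZMod.intCast_eq_intCast_iff_dvd_sub _ _ 2).1 (congrFun h1 i)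
  have h2 : mat w *ᵥ vec v - vec v = (2 : ℚ) • vec t := by
    rw [mat_vec, vec, vec, vec, ← mulVec_sub, ← mulVec_smul]
    congr 1
    ext i
    simpa using (by exact_mod_cast ht i : (((Rz w *ᵥ v) i : ℤ) : ℚ) - v i = 2 * t i)
  have h3 := dot_mulVec (mat_ok w).1 (vec v) (vec v)
  generalize mat w *ᵥ vec v = y at *
  have h5 : (y - vec v) ⬝ᵥ (y - vec v) = 16 * qz t := by
    rw [h2, smul_dotProduct, dotProduct_smul, vec_dot]; simp; ring
  have h6 : (y + vec v) ⬝ᵥ (y + vec v) = 16 - 16 * qz t := by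
    rw [← h5]
    simp only [add_dotProduct, dotProduct_add, sub_dotProduct, dotProduct_sub, h3, h4]
    ring
  have n1 : 0 ≤ (y - vec v) ⬝ᵥ (y - vec v) := Finset.sum_nonneg fun _ _ => mul_self_nonneg _
  have n2 : 0 ≤ (y + vec v) ⬝ᵥ (y + vec v) := Finset.sum_nonneg fun _ _ => mul_self_nonneg _
  have n3 : (0 : ℤ) ≤ 16 * qz t := by rw [h5] at n1; exact_mod_cast n1
  have n4 : (0 : ℤ) ≤ 16 - 16 * qz t := by rw [h6] at n2; exact_mod_cast n2
  rcases (by omega : qz t = 0 ∨ qz t = 1) with e | e <;> rw [e] at h5 h6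
  · exact .inl (sub_eq_zero.1 (dotProduct_self_eq_zero.1 (by simpa using h5)))
  · exact .inr (eq_neg_of_add_eq_zero_left (dotProduct_self_eq_zero.1 (by simpa using h6)))

theorem exists_e_of_pm {w : W} (h : ∀ i, mat w *ᵥ Pi.single i 2 = Pi.single i 2 ∨
    mat w *ᵥ Pi.single i 2 = -Pi.single i 2) : ∃ c, w = e c := by
  have h1 : ∀ j, ∃ a : ZMod 2, ∀ i, mat w i j = if i = j then (sg a : ℚ) else 0 := fun j => by
    rcases h j with t | t
    · refine ⟨0, fun i => ?_⟩
      have := congrFun t i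
      rw [mulVec_single, Pi.single_apply] at this
      split_ifs at this ⊢ <;> simp [sg] at this ⊢ <;> linarith
    · refine ⟨1, fun i => ?_⟩
      have := congrFun t i
      rw [mulVec_single, Pi.neg_apply, Pi.single_apply] at this
      split_ifs at this ⊢ <;> simp [sg] at this ⊢ <;> linarith
  choose c hc using h1
  refine ⟨c, mat_inj (Matrix.ext fun i j => ?_)⟩
  rw [hc, mat_e, em, diagonal_apply]
  split_ifs with t <;> simp [t]

theorem ker_ρ {w : W} (h : ρ w = 1) : w = 1 ∨ w = e 1 := by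
  obtain ⟨c, rfl⟩ := exists_e_of_pm fun i => pm_of_ρ h (lam_two i) (by simp; norm_num)
  have h1 : ∀ k, (∀ i, Tg k i ≠ 0 → c i = 0) ∨ ∀ i, Tg k i ≠ 0 → c i = 1 := fun k => by
    refine (pm_of_ρ h (lam_int (y := Tg k) (by revert k; decide +kernel))
      (by revert k; decide +kernel)).imp (fun t i hi => ?_) fun t i hi => ?_
    all_goals
      have := congrFun t i
      rw [mat_e, em, mulVec_diagonal] at this
      have hi' : (Tg k i : ℚ) ≠ 0 := by exact_mod_cast hi
      refine sg_inj (Int.cast_injective (α := ℚ) (mul_right_cancel₀ hi' (this.trans ?_)))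
      simp [sg]
  have h2 : ∀ c : V, (∀ k, (∀ i, Tg k i ≠ 0 → c i = 0) ∨ ∀ i, Tg k i ≠ 0 → c i = 1) → c = 0 ∨ c = 1 := by
    decide +kernel
  rcases h2 c h1 with rfl | rfl
  exacts [.inl e_zero, .inr rfl]

/-- the root lifting a non-singular vector -/
def rt (u : ι → ZMod 2) (i : ι) : ℤ :=
  ((0x7959799a7797778500000000797778970000000000000000795778a87799877700000000000000009979898a0000000077978696797768870000000097b897777798777600000000000000000000000000000000795878a97978788800000000000000007798878777988786997a8a7b979aa87a00000000000000009969999b0000000079697989000000000000000097a9987800000000796778a8000000009989897a0000000077898788796768970000000077a786850000000000000000000000000000000000000000796878997968789897aa986977a676847788879777a887767788878779686988000000000000000000000000000000007877779700000000000000007897778698999879000000000000000078797888000000007a576998787787a7000000000000000076b7867478798889000000000000000000000000987a998b989a996a0000000000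00000078787887989898887a58699978788798000000000000000076b88675787888980000000000000000000000007887779600000000788777860000000078897878000000009889988a988989790000000096c9a7670000000078698899000000009a698a8b0000000078867795988a997a788877877a4879aa78887877786878987888788776a896860000000000000000000000000000000000000000000000000000000000000000897979790000000000000000879997880000000087999878679776850000000087b7877500000000000000008979898a0000000087998878695768a70000000000000000000000008798978789787988879a987967967694000000000000000000000000000000008798878787b88766897888996958689800000000000000000000000087a99778000000008969798a67877695000000008987788700000000000000008969899a000000008969898a696768970000000087a9886700000000896879998988797887a8978767887786000000000000000000000000000000008968899987a88776896a898b696667a600000000000000000000000000000000000000006877779686b9976700000000000000008879989a8a597a8b000000000000000068776796887989890000000000000000889988788879888900000000687877978a58799a00000000000000008898787786b89676000000000000000068766795887a897a00000000000000008898887788788898000000000000000086a9977700000000686777a7000000008a497a9b000000008889988900000000888787970000000068876785000000008889887900000000888988890000000000000000000000000000000000000000000000000000000000000000000000000000000000000000000000000000000000000000000000000000000000000000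 >>> (32 * ∑ j, (u j).val * 2 ^ (finSumFinEquiv j).1 + 4 * (finSumFinEquiv i).1)) % 16 : ℕ) - 8

theorem rt_spec : ∀ u, quadFormPlus 4 (ZMod 2) u ≠ 0 → red (rt u) = u ∧ qz (rt u) = 1 := by
  unfold quadFormPlus
  decide +kernel

theorem ρ_rm {a : ι → ℤ} (h2 : qz a = 1) (x : ι → ZMod 2) :
    ((ρ (wk (rm (vec a)))).1 : Matrix ι ι (ZMod 2)) *ᵥ x = (Orth.refl (Orth.QPlus 4 (ZMod 2)) (red a)).1 x := by
  have h4 : vec a ⬝ᵥ vec a = 4 := by rw [vec_dot, h2]; norm_num
  obtain ⟨v, rfl⟩ := red_surj x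
  have h5 : vec (a + v) = vec a + vec v := by
    simp only [vec, ← mulVec_add]; congr 1; ext; simp
  have h6 : vec a ⬝ᵥ vec v / 2 = (qz (a + v) - qz a - qz v : ℤ) := by
    have := vec_dot (a + v)
    rw [h5, add_dotProduct, dotProduct_add, dotProduct_add, vec_dot, vec_dot, dotProduct_comm (vec v)] at this
    push_cast
    linarith
  have h7 : Rz (wk (rm (vec a))) *ᵥ v = v - (qz (a + v) - qz a - qz v) • a := vec_inj (by
    rw [← mat_vec, mat_wk (ok_rm (lam_vec a) h4), rm_mulVec, h6]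
    simp only [vec, ← mulVec_smul, ← mulVec_sub]; congr 1; ext; simp)
  rw [ρ_val, red_mulVec, h7, Orth.refl_apply, QuadraticMap.polar, Orth.coe_QPlus,
    show red a + red v = red (a + v) from funext fun i => by simp [red], q_red, q_red, q_red, h2]
  ext i
  simp [red]

theorem ρ_surj : Function.Surjective ρ := by
  have hF := Orth.good_of_card (ι := ι) (K := ZMod 2) (.inr (by decide))
  have h := Orth.reflGroup_eq_top (Orth.QPlus_nondeg 4 (ZMod 2)) hF
  let T : O8 ≃* Orth.O (Orth.QPlus 4 (ZMod 2)) := Orth.toO (Orth.QPlus 4 (ZMod 2))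
  have h1 : Orth.reflGroup (Orth.QPlus 4 (ZMod 2)) ≤ (T.toMonoidHom.comp ρ).range := by
    rw [Orth.reflGroup, closure_le]
    rintro _ ⟨u, hu, rfl⟩
    obtain ⟨h1, h2⟩ := rt_spec u hu
    exact ⟨wk (rm (vec (rt u))), Orth.O_ext fun x => (ρ_rm h2 x).trans (by rw [h1])⟩
  intro g
  obtain ⟨w, hw⟩ := h1 (h.ge (mem_top (T g)))
  exact ⟨w, T.injective hw⟩

end CL.StdO8
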