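/-
The Weyl group of type `E8`: the rotation subgroup, a Sylow subgroup, and the classes of involutions.
-/
import Cfsg.Agent.INV.STD.O8A
import Cfsg.Agent.KSG.SchurOrth
import Cfsg.Agent.S0293

set_option autoImplicit false
set_option maxRecDepth 100000

namespace CL.StdO8

open Matrix Subgroup Cfsg

/-- the simple group -/
abbrev Om : Subgroup O8 := Omega (ZMod 2) (quadFormPlus 4 (ZMod 2))

theorem card_center_Om : Nat.card (center Om) = 1 := SchurC.card_center_omegaPlus (by decide) rfl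

theorem card_Om : Nat.card Om = 174182400 := by
  have := Cfsg.Agent.S0293.result (q := 2) (ZMod.card 2) 4 le_rfl
  rw [show Nat.gcd 4 (2 ^ 4 - 1) = 1 from rfl, one_mul] at this
  exact (SchurC.card_of_center_one card_center_Om).trans (this.trans (by decide +kernel))

theorem index_Om : Om.index = 2 :=
  (Orth.index_Omega (R := Orth.QPlus 4 (ZMod 2))).trans (Orth.index_commutator_of_two_eq_zero
    (Orth.QPlus_nondeg 4 (ZMod 2)) rfl (Orth.good_of_card (ι := ι) (.inr (by decide))) (by simp))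

/-- the rotation subgroup -/
noncomputable def P : Subgroup W := Om.comap ρ

instance : P.Normal := Normal.comap inferInstance ρ

theorem index_P : P.index = 2 := (index_comap_of_surjective _ ρ_surj).trans index_Om

theorem e_one_ne : e 1 ≠ 1 := fun h => absurd (e_inj (h.trans e_zero.symm)) (by decide)

theorem card_W : Nat.card W = 696729600 := by
  have h1 : Nat.card ρ.ker = 2 := by
    have : ρ.ker = zpowers (e 1) := by
      refine le_antisymm (fun w hw => ?_) (zpowers_le.2 ρ_e_one)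
      rcases ker_ρ hw with rfl | rfl
      exacts [one_mem _, mem_zpowers _]
    rw [this, Nat.card_zpowers]
    exact orderOf_eq_prime (by rw [pow_two, e_sq]) e_one_ne
  rw [card_eq_card_quotient_mul_card_subgroup ρ.ker, h1,
    Nat.card_congr (QuotientGroup.quotientKerEquivOfSurjective ρ ρ_surj).toEquiv,
    ← Om.index_mul_card, index_Om, card_Om]

instance : Finite W := Nat.finite_of_card_ne_zero (by rw [card_W]; norm_num)

theorem det_of_mem {w : W} (h : w ∈ P) : (mat w).det = 1 := by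
  let δ : W →* ℚˣ := (detMonoidHom.comp mat).toHomUnits
  have h1 : ρ w ∈ (commutator W).map ρ := by
    rw [map_commutator_eq, MonoidHom.range_eq_top.2 ρ_surj]; exact h
  obtain ⟨a, ha, t⟩ := h1
  have h2 : (mat a).det = 1 := by
    have := congrArg Units.val (MonoidHom.mem_ker.1 (Abelianization.commutator_subset_ker δ ha))
    simpa [δ] using this
  have h3 : ρ (a⁻¹ * w) = 1 := by rw [map_mul, map_inv, t, inv_mul_cancel]
  rcases ker_ρ h3 with t | t <;> rw [inv_mul_eq_iff_eq_mul] at t <;> rw [t, map_mul, det_mul, h2]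
  · simp
  · rw [mat_e_one, det_neg]; norm_num

theorem det_e (c : V) : (mat (e c)).det = sg (∑ i, c i) := by
  rw [mat_e, em, det_diagonal]
  simp only [Fin.sum_univ_eight, Fin.prod_univ_eight, sg_add, Int.cast_mul]

/-- a point of the frame -/
abbrev pt (i : Fin 8) : V := Pi.single i 1

theorem e_pt_notMem (i : Fin 8) : e (pt i) ∉ P := fun h => by
  have := det_of_mem h
  rw [det_e] at this
  norm_num [sg] at this

theorem mem_P {w : W} : w ∈ P ↔ (mat w).det = 1 := ⟨det_of_mem, fun h => by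
  by_contra hn
  have := det_of_mem ((mul_mem_iff_of_index_two index_P).2 (iff_of_false hn (e_pt_notMem 0)))
  rw [map_mul, det_mul, h, det_e] at this
  norm_num [sg] at this⟩

theorem e_mem_P {c : V} : e c ∈ P ↔ ∑ i, c i = 0 := by
  rw [mem_P, det_e]
  generalize ∑ i, c i = a
  unfold sg
  split_ifs with h <;> norm_num [h]

theorem sq_mem_P (w : W) : w * w ∈ P := mul_self_mem_of_index_two index_P w

theorem comm_mem_P (a b : W) : a * b * a⁻¹ * b⁻¹ ∈ P := by
  simp only [mul_mem_iff_of_index_two index_P, inv_mem_iff]; tauto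

theorem Q_mem_P {s : Fin 8 → Fin 8} (t : Fin 8 → Fin 8) (h : Ag t ∧ t ∘ t = s) : Q s ∈ P := by
  rw [← h.2, ← Q_mul h.1 h.1]; exact sq_mem_P _

/-- the central involution -/
noncomputable def ζ : P := ⟨e 1, e_mem_P.2 (by decide)⟩

theorem coe_ζ : (ζ : W) = e 1 := rfl

theorem exists_P (w : W) : ∃ k ∈ P, ∀ c, k * e c * k⁻¹ = w * e c * w⁻¹ := by
  by_cases h : w ∈ P
  · exact ⟨w, h, fun _ => rfl⟩
  · exact ⟨w * e (pt 0), (mul_mem_iff_of_index_two index_P).2 (iff_of_false h (e_pt_notMem 0)), fun c => by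
      rw [mul_assoc w, e_comm]; group⟩

theorem mo_mul {s t : Fin 8 → Fin 8} (h : Ag s) (h' : Ag t) (c d : V) :
    e c * Q s * (e d * Q t) = e (c + d ∘ s) * Q (t ∘ s) := by
  rw [e_add, ← Q_mul h h', mul_assoc, ← mul_assoc (Q s), Q_mul_e h]; group

theorem mo_inj {s t : Fin 8 → Fin 8} (h : Ag s) (h' : Ag t) {c d : V} (H : e c * Q s = e d * Q t) :
    c = d ∧ s = t := by
  obtain rfl : s = t := funext fun i => by
    have := congrFun (congrFun (congrArg mat H) i) (s i)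
    simp only [map_mul, mat_e, mat_Q h, mat_Q h', em, diagonal_mul, qm, of_apply, if_true, mul_one] at this
    by_contra hn
    rw [if_neg hn, mul_zero] at this
    have h2 := sg_sq (c i)
    rw [show sg (c i) = 0 by exact_mod_cast this] at h2
    omega
  exact ⟨e_inj (mul_right_cancel H), rfl⟩

/-- the translation of the frame -/
def s2 : Fin 8 → Fin 8 := ![1, 0, 3, 2, 5, 4, 7, 6]

theorem ag_s2 : Ag s2 := by decide +kernel

theorem Q_s2 : Q s2 ∈ P := Q_mem_P ![2, 3, 1, 0, 6, 7, 5, 4] (by decide +kernel)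

theorem cent_P {w : W} (h : ∀ x ∈ P, w * x = x * w) : w = 1 ∨ w = e 1 := by
  have h1 : ∀ i j, i ≠ j → mat w i j = 0 := fun i j hij => by
    obtain ⟨c, hc, h0, h1⟩ : ∃ c : V, ∑ i, c i = 0 ∧ c i = 0 ∧ c j = 1 := by
      revert i j; decide +kernel
    have := congrFun (congrFun (congrArg mat (h _ (e_mem_P.2 hc))) i) j
    simp only [map_mul, mat_e, em, diagonal_mul, mul_diagonal, h0, h1] at this
    norm_num [sg] at this
    linarith
  obtain ⟨c, rfl⟩ := exists_e_of_pm (w := w) fun i => by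
    have h2 := congrFun (congrFun (mat_ok w).1 i) i
    rw [mul_apply, Finset.sum_eq_single i (fun j _ hj => by rw [h1 i j hj.symm, zero_mul]) (by simp),
      transpose_apply, one_apply_eq] at h2
    refine (mul_self_eq_one_iff.1 h2).imp (fun t => funext fun j => ?_) fun t => funext fun j => ?_
    all_goals
      rw [mulVec_single]
      by_cases hj : j = i
      · simp [hj, t]
      · simp [hj, h1 j i hj]
  have h3 : ∀ t s : Fin 8 → Fin 8, Ag t ∧ t ∘ t = s → c ∘ s = c := fun t s ht => by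
    have hs : Ag s := ht.2 ▸ ht.1.comp ht.1
    have := h _ (Q_mem_P t ht)
    rw [Q_mul_e hs] at this
    exact (mo_inj hs hs this).1.symm
  have h4 : ∀ c : V, c ∘ s2 = c → c ∘ ![0, 2, 4, 6, 3, 1, 7, 5] = c → c = 0 ∨ c = 1 := by decide +kernel
  rcases h4 c (h3 ![2, 3, 1, 0, 6, 7, 5, 4] _ (by decide +kernel))
    (h3 ![0, 6, 7, 1, 5, 3, 2, 4] _ (by decide +kernel)) with rfl | rfl
  exacts [.inl e_zero, .inr rfl]

theorem center_P (x : P) : x ∈ center P ↔ x = 1 ∨ x = ζ := by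
  refine ⟨fun h => (cent_P fun y hy => ?_).imp Subtype.ext Subtype.ext, ?_⟩
  · exact congrArg Subtype.val (mem_center_iff.1 h ⟨y, hy⟩).symm
  · rintro (rfl | rfl)
    exacts [one_mem _, mem_center_iff.2 fun y => Subtype.ext (e_one_comm _)]

theorem order_ζ : orderOf ζ = 2 :=
  orderOf_eq_prime (Subtype.ext (by rw [pow_two]; exact e_sq 1)) fun h => e_one_ne (congrArg Subtype.val h)

/-! ### A Sylow subgroup -/

/-- an entry of a table of permutations -/
def tb (T n : ℕ) (i : Fin 8) : Fin 8 := Fin.ofNat 8 (T >>> (24 * n + 3 * i.1))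

/-- the affine permutations preserving a flag -/
def us (n : Fin 64) : Fin 8 → Fin 8 := tb 0x4c8b3768197e05afa5213decdec213fa505a97e681b374c86889774c1b3e21ade5053facfac053de521ab3e4c1977688681b374c897e213fa505adecfa5213dec05ab3768197e4c84c1977688b3e053de521afacde5053fac21a9774c1b3e68805ab3721397e4c8fa5681dec97e213b3705adec681fa54c821a977053b3e688de54c1facb3e05397721afac4c1de5688213b3705a97e681fa54c8decb3721397e05afa5681dec4c805397721ab3e4c1de5688fac977053b3e21ade54c1fac688 n.1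

theorem ag_us : ∀ n, Ag (us n) := by decide +kernel

/-- the number of a permutation -/
def ix (s : Fin 8 → Fin 8) : Fin 64 :=
  Fin.ofNat 64 ((s 0).1 + 8 * (((s 2).1 ^^^ (s 0).1) - 2) + 16 * (((s 4).1 ^^^ (s 0).1) - 4))

/-- a Sylow subgroup -/
def D2 : Subgroup W where
  carrier := {w | ∃ c n, w = e c * Q (us n)}
  one_mem' := ⟨0, 0, by rw [e_zero, show us 0 = id by decide +kernel, Q_id, mul_one]⟩
  mul_mem' := by
    rintro _ _ ⟨c, n, rfl⟩ ⟨d, m, rfl⟩
    have h : ∀ n m, us m ∘ us n = us (ix (us m ∘ us n)) := by decide +kernel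
    exact ⟨_, _, by rw [mo_mul (ag_us n) (ag_us m), h]⟩
  inv_mem' := by
    rintro _ ⟨c, n, rfl⟩
    obtain ⟨m, h⟩ : ∃ m, us n ∘ us m = id := by revert n; decide +kernel
    refine ⟨c ∘ us m, m, inv_eq_of_mul_eq_one_left ?_⟩
    rw [mo_mul (ag_us m) (ag_us n), h, V.add_self, e_zero, Q_id, mul_one]

theorem card_D2 : Nat.card D2 = 16384 := by
  have h : ∀ n, ix (us n) = n := by decide +kernel
  rw [← Nat.card_congr (Equiv.ofBijective (fun x : V × Fin 64 => (⟨_, x.1, x.2, rfl⟩ : D2)) ⟨fun x y t => by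
    have := mo_inj (ag_us _) (ag_us _) (congrArg Subtype.val t)
    exact Prod.ext this.1 (by rw [← h x.2, this.2, h]), fun ⟨_, c, n, t⟩ => ⟨(c, n), Subtype.ext t.symm⟩⟩)]
  simp

theorem exists_mono {A : Subgroup W} (hA : IsPGroup 2 A) :
    ∃ k : W, ∀ x ∈ A, ∃ c n, k * x * k⁻¹ = e c * Q (us n) := by
  have h := D2.index_mul_card
  rw [card_D2, card_W] at h
  obtain ⟨q, hq⟩ := hA.nonempty_fixed_point_of_prime_not_dvd_card (W ⧸ D2) (by
    rw [show Nat.card (W ⧸ D2) = D2.index from rfl]; omega)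
  obtain ⟨g, rfl⟩ := QuotientGroup.mk_surjective q
  refine ⟨g⁻¹, fun x hx => ?_⟩
  have h1 : ((x * g : W) : W ⧸ D2) = (g : W) := hq ⟨x, hx⟩
  have h2 := QuotientGroup.eq.1 h1.symm
  rw [inv_inv, mul_assoc]
  exact h2

/-- representatives of the affine involutions -/
def sr : Fin 4 → Fin 8 → Fin 8 := ![id, ![1, 0, 3, 2, 4, 5, 6, 7], s2, ![1, 0, 3, 2, 6, 7, 4, 5]]

theorem ag_sr : ∀ r, Ag (sr r) := by decide +kernel

theorem exists_sr {w : W} {a : V} (h : w * w = e a) (ha : a = 0 ∨ a = 1) :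
    ∃ k : W, ∃ r c, k * w * k⁻¹ = e c * Q (sr r) ∧ c + c ∘ sr r = a ∧ ∀ i, i < sr r i → c i = 0 := by
  have h4 : w ^ 4 = 1 := by rw [show 4 = 2 + 2 from rfl, pow_add, pow_two, h, e_sq]
  obtain ⟨k, hk⟩ := exists_mono (A := zpowers w) (IsPGroup.of_card_dvd_pow (n := 2) (by
    rw [Nat.card_zpowers]; exact orderOf_dvd_of_pow_eq_one h4))
  obtain ⟨c, n, hk⟩ := hk w (mem_zpowers w)
  have h1 : ∀ {k : W} {c s}, Ag s → k * w * k⁻¹ = e c * Q s → c + c ∘ s = a ∧ s ∘ s = id := fun {k c s} hs t => by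
    refine mo_inj (hs.comp hs) ag_id ?_
    rw [← mo_mul hs hs, ← t, Q_id, mul_one, show k * w * k⁻¹ * (k * w * k⁻¹) = k * (w * w) * k⁻¹ by group, h]
    rcases ha with rfl | rfl
    · rw [e_zero]; group
    · rw [e_one_comm, mul_inv_cancel_right]
  have h2 : ∀ n, us n ∘ us n = id → Ag (tb 0xd7c458f74650fac688458d7c000000000000000000000000000000000000000000000000000000000000000000000000d7c458f74650dec4c8650f7472a3b87623f0000000000000000000000000b1af88f88b1a000000000000000000000000bbc298bf42d0fac688688fac0000000000007ba3287f2360000000000000f9ab08b08f9a8eac78ae2e70cfa868ef2a60d7c458f74650fac688fac688 n.1) ∧ ∃ r, us n ∘ tb 0xd7c458f74650fac688458d7c000000000000000000000000000000000000000000000000000000000000000000000000d7c458f74650dec4c8650f7472a3b87623f0000000000000000000000000b1af88f88b1a000000000000000000000000bbc298bf42d0fac688688fac0000000000007ba3287f2360000000000000f9ab08b08f9a8eac78ae2e70cfa868ef2a60d7c458f74650fac688fac688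 n.1 = tb 0xd7c458f74650fac688458d7c000000000000000000000000000000000000000000000000000000000000000000000000d7c458f74650dec4c8650f7472a3b87623f0000000000000000000000000b1af88f88b1a000000000000000000000000bbc298bf42d0fac688688fac0000000000007ba3287f2360000000000000f9ab08b08f9a8eac78ae2e70cfa868ef2a60d7c458f74650fac688fac688 n.1 ∘ sr r := by
    decide +kernel
  obtain ⟨ht, r, hr⟩ := h2 n (h1 (ag_us n) hk).2
  generalize tb _ _ = t at ht hr
  have h3 : Q t * k * w * (Q t * k)⁻¹ = e (c ∘ t) * Q (sr r) := by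
    rw [show Q t * k * w * (Q t * k)⁻¹ = Q t * (k * w * k⁻¹) * (Q t)⁻¹ by group, hk, ← mul_assoc,
      Q_mul_e ht, mul_assoc (e _), Q_mul ht (ag_us n), hr, ← Q_mul (ag_sr r) ht]
    group
  generalize c ∘ t = c, Q t * k = k at h3
  let d : V := fun i => if i < sr r i then c i else 0
  have h5 : e d * k * w * (e d * k)⁻¹ = e (d + c + d ∘ sr r) * Q (sr r) := by
    rw [show e d * k * w * (e d * k)⁻¹ = e d * (k * w * k⁻¹) * (e d)⁻¹ by group, h3, e_inv, e_add, e_add,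
      mul_assoc _ (e (d ∘ _)), ← Q_mul_e (ag_sr r)]
    group
  refine ⟨_, r, _, h5, (h1 (ag_sr r) h5).1, fun i hi => ?_⟩
  have h6 : ∀ r i, i < sr r i → ¬ sr r i < sr r (sr r i) := by decide +kernel
  simp only [d, Pi.add_apply, Function.comp, if_pos hi, if_neg (h6 r i hi), add_zero]
  exact CharTwo.add_self_eq_zero _

theorem ok_rm_int {a : Fin 8 → ℤ} (h : (Code fun i => a i) ∧ a ⬝ᵥ a = 4) : Ok (rm fun i => a i) :=
  ok_rm (lam_int h.1) (by simp only [dotProduct]; exact_mod_cast h.2)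

set_option synthInstance.maxSize 2048 in
theorem inv_conj {w : W} (h : w * w = 1) : ∃ k c, k * w * k⁻¹ = e c := by
  obtain ⟨k, r, c, hk, h1, h2⟩ := exists_sr (h.trans e_zero.symm) (.inl rfl)
  have o1 := ok_rm_int (a := ![-1, -1, 1, -1, 0, 0, 0, 0]) (by decide +kernel)
  have o2 := ok_rm_int (a := ![0, 0, 0, 0, -1, -1, 1, -1]) (by decide +kernel)
  have o3 := ok_rm_int (a := ![0, 0, 0, 0, -1, 1, -1, -1]) (by decide +kernel)
  have key : ∀ (M : Mt) (d : V), Ok M → M * (em c * qm (sr r)) = em d * M → ∃ k c, k * w * k⁻¹ = e c :=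
    fun M d o t => ⟨wk M * k, d, by
      rw [show ∀ l, l * k * w * (l * k)⁻¹ = l * (k * w * k⁻¹) * l⁻¹ from fun l => by group, hk,
        mul_inv_eq_iff_eq_mul]
      exact mat_inj (by rwa [map_mul, map_mul, map_mul, mat_e, mat_e, mat_Q (ag_sr r), mat_wk o])⟩
  have om : ∀ {M N : Mt}, Ok M → Ok N → Ok (M * N) := fun {M N} a b => by
    rw [← mat_wk a, ← mat_wk b, ← map_mul]; exact mat_ok _
  have h3 : ∀ r c, c + c ∘ sr r = (0 : V) → (∀ i, i < sr r i → c i = 0) → r = 0 ∨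
      (r = 1 ∧ ∃ a : Fin 4 → ZMod 2, c = ![0, 0, 0, 0, a 0, a 1, a 2, a 3]) ∨ (r = 2 ∧ c = 0) ∨ (r = 3 ∧ c = 0) := by
    decide +kernel
  rcases h3 r c h1 h2 with rfl | ⟨rfl, a, rfl⟩ | ⟨rfl, rfl⟩ | ⟨rfl, rfl⟩
  · exact ⟨k, c, by rw [hk]; exact (congrArg _ Q_id).trans (mul_one _)⟩
  · exact key _ ![1, 1, 0, 0, a 0, a 1, a 2, a 3] o1 (by clear * -; revert a; decide +kernel)
  · exact key _ ![1, 1, 0, 0, 1, 1, 0, 0] (om o1 o2) (by decide +kernel)
  · exact key _ ![1, 1, 0, 0, 1, 0, 1, 0] (om o1 o3) (by decide +kernel)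

/-- representatives of the affine classes of subsets -/
def rp : Fin 10 → V := ![0, ![1, 1, 0, 0, 0, 0, 0, 0], ![1, 1, 1, 1, 0, 0, 0, 0], ![1, 1, 1, 0, 1, 0, 0, 0],
  ![0, 0, 1, 1, 1, 1, 1, 1], 1, ![1, 0, 0, 0, 0, 0, 0, 0], ![1, 1, 1, 0, 0, 0, 0, 0], ![0, 0, 0, 1, 1, 1, 1, 1],
  ![0, 1, 1, 1, 1, 1, 1, 1]]

/-- the affine permutation moving a subset to a representative -/
def ot (c : V) : Fin 8 → Fin 8 := tb 0xfac688fac688dec681fac688bf4642f74650d7c611fac688bbc443d7c458f74419dec4c8fac21abf42d0bbc0d1688fac7f2a44ef2a60cfaa21f9ab08af9c22f59d10d58f1188f1abab1e23d51f18f50d198c73aaf88b1a81f5a98577a82989f57ba845cfa868ef2829dda9488f1e2ad19f50f18d51a873a38b9c2bf11d58d10f59acf1a2dc895aa177a1a5f5a02d0bf4f9a22c7f23607ba161b08f9a3f076242f999467b983285f33b8563627b9166f9903607f2b1af8872a1f17623f0b1a23e762e46ae2e708eae31b1af88ee9832bd99909d8b91c47563ea1a339d1b98bd0999c0f762b08f9acd7161c9f3604c8decf594347e95a05e87a123795a7791a2d10f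592a7d585303eb5783a30e7d51d19f507311ea6b79485a07e97a15e8d1943df116355e17a87e05a9077b1a7383aa0afd19d51f185711e35391abd58f112efd107703e24f7b087a85e15a97e0d5163c688facd670d1d2f2d0948ddab374c8990bd9b919d8ca983b977688b989d1999bd0ce1a3a95adc8ae2c398eac7872ac4772ac478eac78ae2c3995adc8ce1a3a999bd0b989d1e0e563ca983bb919d8990bd9e46762948ddae9e161ed6360688facd5163c5a97e07a85e107e95a7703e20a6f59f11d585391ab5711e3f18d512e6f507383aa4fe9487e05a95e17a8f11635d1943d7a15e85a07e923eb1a7311eaf50d192aef185783a35303eb0eef11f59d107791a26beb085e87a17e95a0f594344c8decf2e0d1f662d0b08f9a97e4c8bd09999d1b98ea1a33b3e6889d8b91bd9990ee9832b1af888eae31ae2e70762e46b1a23e7623f072a1f1f88b1a3607f243dd19475f183b85633285f3635f1167dd103f0762f9ab087ba1617f2360f9a22c2d0bf49f50d19bd2d0dc895afa54c8d10f59f11d588b9c2bde5688f18d51d19f508f1e2adda948ef2829cfa8687ba8452989f5bbc0d1bf42d0f88b1adec4c8f50d19d51f18ab1e23fac688d58f11f59d10af9c22f9ab08cfaa21ef2a607f2a44fac688bbc0d1bf42d0fac21adec4c8f74419d7c458bbc443fac688d7c611f74650bf4642fac688dec681fac688fac688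 (∑ i, (c i).val * 2 ^ i.1)

theorem ot_spec : ∀ c, Ag (ot c) ∧ ∃ r, c ∘ ot c = rp r := by decide +kernel

theorem inv_rp {w : W} (h : w * w = 1) : ∃ k ∈ P, ∃ r, k * w * k⁻¹ = e (rp r) := by
  obtain ⟨k, c, hk⟩ := inv_conj h
  obtain ⟨hs, r, hr⟩ := ot_spec c
  obtain ⟨l, hl, t⟩ := exists_P (Q (ot c) * k)⁻¹
  refine ⟨l⁻¹, inv_mem hl, r, ?_⟩
  have : w = l * e (rp r) * l⁻¹ := by rw [t, ← hr, ← Q_conj hs, ← hk]; group
  rw [this]; group

/-- the complex structure -/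
noncomputable def J2 : W := e ![0, 1, 0, 1, 0, 1, 0, 1] * Q s2

set_option synthInstance.maxSize 2048 in
theorem conj_J2 {w : W} (h : w * w = e 1) : ∃ k, k * w * k⁻¹ = J2 := by
  obtain ⟨k, r, c, hk, h1, h2⟩ := exists_sr h (.inr rfl)
  have h3 : ∀ r (c : V), c + c ∘ sr r = 1 → (∀ i, i < sr r i → c i = 0) →
      (r = 2 ∧ c = ![0, 1, 0, 1, 0, 1, 0, 1]) ∨ (r = 3 ∧ c = ![0, 1, 0, 1, 0, 0, 1, 1]) := by decide +kernel
  rcases h3 r c h1 h2 with ⟨rfl, rfl⟩ | ⟨rfl, rfl⟩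
  · exact ⟨k, hk⟩
  · have o := ok_rm_int (a := ![0, 0, 0, 0, 1, 1, -1, 1]) (by decide +kernel)
    refine ⟨wk (rm fun i => (![0, 0, 0, 0, 1, 1, -1, 1] : Fin 8 → ℤ) i) * k, ?_⟩
    rw [_root_.mul_inv_rev, ← mul_assoc, mul_assoc _ k, mul_assoc _ _ k⁻¹, hk, mul_inv_eq_iff_eq_mul]
    refine mat_inj ?_
    simp only [J2, map_mul, mat_wk o, mat_e, mat_Q (ag_sr 3), mat_Q ag_s2]
    decide +kernel

theorem J_data {w : W} (h : w * w = e 1) : w ∈ P ∧ ∃ x ∈ P, ∃ y ∈ P, ∃ x' ∈ P, ∃ y' ∈ P, ∃ c d : W,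
    x * w = w * x ∧ y * w = w * y ∧ x' * w = w * x' ∧ y' * w = w * y' ∧ x * y = c * (y * x) ∧
      x' * y' = d * (y' * x') ∧ c * c = e 1 ∧ d * c = c * (e 1 * d) := by
  obtain ⟨k, hk⟩ := conj_J2 h
  obtain rfl : w = k⁻¹ * J2 * k⁻¹⁻¹ := by rw [← hk]; group
  have n := fun x hx => (inferInstance : P.Normal).conj_mem x hx k⁻¹
  have m : ∀ (c : V) s t, ∑ i, c i = 0 ∧ Ag t ∧ t ∘ t = s → e c * Q s ∈ P := fun c s t h =>
    mul_mem (e_mem_P.2 h.1) (Q_mem_P t h.2)
  have a1 : Ag ![1, 0, 3, 2, 4, 5, 6, 7] := by decide +kernel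
  have a2 : Ag ![7, 6, 5, 4, 3, 2, 1, 0] := by decide +kernel
  have a3 : Ag ![7, 6, 1, 0, 4, 5, 2, 3] := by decide +kernel
  have a4 : Ag ![0, 1, 7, 6, 3, 2, 4, 5] := by decide +kernel
  have a5 : Ag ![7, 6, 5, 4, 2, 3, 0, 1] := by decide +kernel
  have c1 : ∀ {a b c d : W}, a * b = c * d →
      k⁻¹ * a * k⁻¹⁻¹ * (k⁻¹ * b * k⁻¹⁻¹) = k⁻¹ * c * k⁻¹⁻¹ * (k⁻¹ * d * k⁻¹⁻¹) := fun {a b c d} t => by
    calc _ = k⁻¹ * (a * b) * k := by group
      _ = _ := by rw [t]; group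
  have c2 : ∀ {a b c d f : W}, a * b = c * (d * f) → k⁻¹ * a * k⁻¹⁻¹ * (k⁻¹ * b * k⁻¹⁻¹) =
      k⁻¹ * c * k⁻¹⁻¹ * (k⁻¹ * d * k⁻¹⁻¹ * (k⁻¹ * f * k⁻¹⁻¹)) := fun {a b c d f} t => by
    calc _ = k⁻¹ * (a * b) * k := by group
      _ = _ := by rw [t]; group
  have c3 : k⁻¹ * e 1 * k⁻¹⁻¹ = e 1 := by rw [e_one_comm, mul_inv_cancel_right]
  have c4 : e 1 = e 1 * Q id := by rw [Q_id, mul_one]
  refine ⟨n _ (mul_mem (e_mem_P.2 (by decide)) Q_s2),
    _, n _ (m ![0, 1, 1, 0, 1, 1, 0, 0] ![1, 0, 3, 2, 4, 5, 6, 7] ![2, 3, 1, 0, 4, 5, 7, 6] (by decide +kernel)),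
    _, n _ (m ![1, 0, 0, 1, 1, 0, 0, 1] ![7, 6, 5, 4, 3, 2, 1, 0] ![1, 7, 3, 5, 2, 4, 0, 6] (by decide +kernel)),
    _, n _ (m ![1, 0, 0, 1, 1, 1, 0, 0] ![7, 6, 1, 0, 4, 5, 2, 3] ![2, 3, 7, 6, 5, 4, 0, 1] (by decide +kernel)),
    _, n _ (m ![1, 1, 0, 1, 1, 0, 1, 1] ![0, 1, 7, 6, 3, 2, 4, 5] ![0, 1, 5, 4, 6, 7, 3, 2] (by decide +kernel)),
    k⁻¹ * (e ![0, 1, 0, 1, 1, 0, 1, 0] * Q s2) * k⁻¹⁻¹,
    k⁻¹ * (e ![0, 1, 1, 0, 0, 0, 0, 0] * Q ![7, 6, 5, 4, 2, 3, 0, 1]) * k⁻¹⁻¹,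
    c1 ?_, c1 ?_, c1 ?_, c1 ?_, c2 ?_, c2 ?_, ?_, c3 ▸ c2 ?_⟩
  · rw [J2, mo_mul a1 ag_s2, mo_mul ag_s2 a1]; congr 2 <;> decide +kernel
  · rw [J2, mo_mul a2 ag_s2, mo_mul ag_s2 a2]; congr 2 <;> decide +kernel
  · rw [J2, mo_mul a3 ag_s2, mo_mul ag_s2 a3]; congr 2 <;> decide +kernel
  · rw [J2, mo_mul a4 ag_s2, mo_mul ag_s2 a4]; congr 2 <;> decide +kernel
  · rw [mo_mul a1 a2, mo_mul a2 a1, mo_mul ag_s2 (a1.comp a2)]; congr 2 <;> decide +kernel
  · rw [mo_mul a3 a4, mo_mul a4 a3, mo_mul a5 (a3.comp a4)]; congr 2 <;> decide +kernel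
  · rw [← c3, show ∀ a : W, k⁻¹ * a * k⁻¹⁻¹ * (k⁻¹ * a * k⁻¹⁻¹) = k⁻¹ * (a * a) * k⁻¹⁻¹ from
      fun a => by group, mo_mul ag_s2 ag_s2, c4]
    congr 4 <;> decide +kernel
  · rw [c4, mo_mul a5 ag_s2, mo_mul ag_id a5, mo_mul ag_s2 (a5.comp ag_id)]; congr 2 <;> decide +kernel

theorem trace_conj (k w : W) : (mat (k * w * k⁻¹)).trace = (mat w).trace := by
  rw [map_mul, trace_mul_comm, ← map_mul, inv_mul_cancel_left]

theorem trace_mo {s : Fin 8 → Fin 8} (h : Ag s) (c : V) :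
    (mat (e c * Q s)).trace = (∑ i, if s i = i then sg (c i) else 0 : ℤ) := by
  simp [mat_e, mat_Q h, em, qm, trace, eq_comm]

theorem trace_e (c : V) : (mat (e c)).trace = (∑ i, sg (c i) : ℤ) := by simp [mat_e, em]

/-- reflections in a subgroup of order a power of two belong to a frame -/
theorem refl_frame {A : Subgroup W} (hA : IsPGroup 2 A) :
    ∃ k : W, ∀ x ∈ A, (mat x).trace = 6 → ∃ i, k * x * k⁻¹ = e (pt i) := by
  obtain ⟨k, hk⟩ := exists_mono hA
  refine ⟨k, fun x hx h => ?_⟩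
  obtain ⟨c, n, t⟩ := hk x hx
  rw [← trace_conj k, t, trace_mo (ag_us n)] at h
  have h1 : ∀ n, n = 0 ∨ (Finset.univ.filter fun i => us n i = i).card ≤ 4 := by decide +kernel
  have h2 : (∑ i, if us n i = i then sg (c i) else 0 : ℤ) = 6 := by exact_mod_cast h
  rcases h1 n with rfl | h1
  · rw [show us 0 = id by decide +kernel] at t h2
    obtain ⟨i, rfl⟩ : ∃ i, c = pt i := by clear * - h2; revert c; decide +kernel
    exact ⟨i, by rw [t, Q_id, mul_one]⟩
  · rw [← Finset.sum_filter] at h2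
    have := Finset.sum_le_card_nsmul (Finset.univ.filter fun i => us n i = i) (fun i => sg (c i)) 1
      fun i _ => by unfold sg; split_ifs <;> omega
    rw [nsmul_eq_mul] at this
    omega

/-- the normalizer of the frame preserves the planes -/
theorem plane_of_conj {w : W} {s : Fin 8 → Fin 8} (h : ∀ i, w * e (pt i) * w⁻¹ = e (pt (s i))) (i j k : Fin 8) :
    s (x3 i j k) = x3 (s i) (s j) (s k) := by
  have h1 : ∀ i j, j ≠ s i → mat w j i = 0 := fun i j hj => by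
    have := congrFun (congrFun (congrArg mat (mul_inv_eq_iff_eq_mul.1 (h i))) j) i
    simp only [map_mul, mat_e, em, diagonal_mul, mul_diagonal, Pi.single_eq_same, Pi.single_eq_of_ne hj] at this
    norm_num [sg] at this
    linarith
  have h2 : ∀ i, mat w (s i) i = 1 ∨ mat w (s i) i = -1 := fun i => by
    have h0 : (mat w)ᵀ * mat w = 1 := mul_eq_one_comm.1 (mat_ok w).1
    have h2 := congrFun (congrFun h0 i) i
    rw [mul_apply, Finset.sum_eq_single (s i) (fun j _ hj => by rw [h1 i j hj, mul_zero]) (by simp),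
      transpose_apply, one_apply_eq] at h2
    exact mul_self_eq_one_iff.1 h2
  have h3 : ∀ t, Code fun i => (Tg t i : ZMod 2) := by decide +kernel
  have h4 : ∀ a b, (∀ t, (Tg t a : ZMod 2) = Tg t b) → a = b := by decide +kernel
  refine h4 _ _ fun t => ?_
  obtain ⟨y, hy, h5⟩ := (mat_ok w⁻¹).2 _ (lam_int (h3 t))
  have h6 : ∀ i, (y i : ZMod 2) = Tg t (s i) := fun i => by
    have := hy i
    rw [mat_inv, mulVec, dotProduct, Finset.sum_eq_single (s i) (fun j _ hj => by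
      rw [transpose_apply, h1 i j hj, zero_mul]) (by simp), transpose_apply] at this
    rcases h2 i with t | t <;> rw [t] at this
    · rw [show y i = Tg _ (s i) by exact_mod_cast (by linarith : (y i : ℚ) = Tg _ (s i))]
    · rw [show y i = -Tg _ (s i) by exact_mod_cast (by linarith : (y i : ℚ) = -Tg _ (s i)), Int.cast_neg,
        CharTwo.neg_eq]
  have := h5 i j k
  simp only [h6] at this
  exact this.trans (h3 t _ _ _).symm

end CL.StdO8
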