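/-
A standard subgroup isomorphic to the automorphism group of the Leech lattice: fusion of the
central involution.
-/
import Mathlib
import Cfsg.Agent.INV.STD.Co0Loc
import Cfsg.Agent.INV.STD.Even

set_option autoImplicit false

namespace CL.StdCo

open Cfsg CL.Leech CL.K CL.Pack CL.MT Subgroup CL.StdE
open CL.Golay (E Code R I pm cw img24 app24 isCw c2A c2B ConjTo fixS)
open scoped Pointwise

variable {G : Type*} [Group G] [Finite G] {f : Co0 →* G}

/-- the normalizer of the group of sign changes controls the fusion of the central involution -/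
theorem exists_norm (h : M neg1 f) (hc : Cy neg1 f) (hin : ∀ α : Co0 ≃* Co0, ∃ a, ∀ x, α x = a * x * a⁻¹)
    {g : G} {v : Co0} (hv : v ∈ Sgn) (hg : g * f neg1 * g⁻¹ = f v) :
    ∃ n ∈ normalizer (Sgn.map f : Set G), n * f neg1 * n⁻¹ = f v := by
  have h1 : ∀ a ∈ Sgn, ∃ x, ∃ k ∈ Kf f, g⁻¹ * f a * g = f x * k := fun a ha => h.decomp hin (by
    calc g⁻¹ * f a * g * f neg1 = g⁻¹ * (f a * (g * f neg1 * g⁻¹)) * g := by group
      _ = g⁻¹ * (g * f neg1 * g⁻¹ * f a) * g := by rw [hg, ← map_mul, ← map_mul, Sgn_comm ha hv]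
      _ = _ := by group)
  have hm : ∀ (x y : Co0) (k l : G), k ∈ Kf f → f x * k * (f y * l) = f (x * y) * (k * l) :=
    fun x y k l hk => by rw [map_mul, mul_assoc, ← mul_assoc k, kcomm hk]; group
  let B : Subgroup Co0 :=
    { carrier := {x | ∃ k ∈ Kf f, ∃ a ∈ Sgn, g⁻¹ * f a * g = f x * k}
      one_mem' := ⟨1, one_mem _, 1, one_mem _, by simp⟩
      mul_mem' := by
        rintro x y ⟨k, hk, a, ha, e⟩ ⟨l, hl, b, hb, e'⟩
        exact ⟨k * l, mul_mem hk hl, a * b, mul_mem ha hb, by rw [← hm _ _ _ _ hk, ← e, ← e', map_mul]; group⟩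
      inv_mem' := by
        rintro x ⟨k, hk, a, ha, e⟩
        refine ⟨k⁻¹, inv_mem hk, a⁻¹, inv_mem ha, ?_⟩
        rw [← kcomm (inv_mem hk), map_inv f x, ← mul_inv_rev (f x), ← e, map_inv]; group }
  have hsq : ∀ x k a, k ∈ Kf f → a ∈ Sgn → g⁻¹ * f a * g = f x * k → f (x * x) * (k * k) = 1 :=
    fun x k a hk ha e => by
      rw [← hm _ _ _ _ hk, ← e]
      calc _ = g⁻¹ * f (a * a) * g := by rw [map_mul]; group
        _ = 1 := by rw [Sgn_sq ha, map_one]; group
  have hs : ∀ b ∈ B, b * b = 1 ∨ b * b = neg1 := by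
    rintro x ⟨k, hk, a, ha, e⟩
    refine h.eq_of_mem ?_
    rw [eq_inv_of_mul_eq_one_left (hsq x k a hk ha e)]
    exact inv_mem (mul_mem hk hk)
  have hcm : ∀ a ∈ B, ∀ b ∈ B, a * b = b * a := by
    rintro x hx y ⟨l, hl, b, hb, e'⟩
    obtain ⟨k, hk, a, ha, e⟩ := id hx
    have e1 : f (x * y) * (k * l) = f (y * x) * (l * k) := by
      rw [← hm _ _ _ _ hk, ← hm _ _ _ _ hl, ← e, ← e']
      calc _ = g⁻¹ * f (a * b) * g := by rw [map_mul]; group
        _ = _ := by rw [Sgn_comm ha hb, map_mul]; group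
    have e2 : f ((y * x)⁻¹ * (x * y)) = l * k * (k * l)⁻¹ := by
      rw [map_mul, map_inv, eq_mul_inv_iff_mul_eq, mul_assoc, e1]; group
    rcases h.eq_of_mem (e2 ▸ mul_mem (mul_mem hl hk) (inv_mem (mul_mem hk hl))) with e3 | e3
    · exact (inv_mul_eq_one.1 e3).symm
    · exfalso
      rw [e3] at e2
      have e4 := hsq x k a hk ha e
      rcases hs x hx with e5 | e5 <;> rw [e5] at e4
      · rw [map_one, one_mul] at e4
        apply h.zne
        rcases hc.uniq k hk e4 with e6 | e6 <;> rw [e2, e6]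
        · group
        · rw [kcomm hl]; group
      · rw [mul_eq_one_iff_inv_eq, h.zinv] at e4
        refine hc.noinv k hk l hl e4.symm ?_
        rw [e4] at e2
        calc l * k * l⁻¹ = l * k * (k * l)⁻¹ * k := by group
          _ = k * k * (k * k) * k⁻¹ := by rw [← e2]; group
          _ = k⁻¹ := by rw [← e4, h.zsq, one_mul]
  have hcard : 4096 ≤ Nat.card B := by
    let s : G → G := fun k => (QuotientGroup.mk k : G ⧸ zpowers (f neg1)).out
    have h2 : ∀ a : Sgn, ∃ x : B, ∃ k, s k ∈ Kf f ∧ g⁻¹ * f a * g = f x * s k := fun a => by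
      obtain ⟨x, k, hk, e⟩ := h1 a a.2
      obtain ⟨⟨_, i, rfl⟩, e1⟩ := QuotientGroup.mk_out_eq_mul (zpowers (f neg1)) k
      have e2 : s k = k * f (neg1 ^ i) := by rw [map_zpow]; exact e1
      have hk' : s k ∈ Kf f := by rw [e2, map_zpow]; exact mul_mem hk (zpow_mem h.z_mem i)
      have e3 : g⁻¹ * f a * g = f (x * (neg1 ^ i)⁻¹) * s k := by
        rw [e, e2, kcomm hk, map_mul, map_inv]; group
      exact ⟨⟨_, _, hk', a, a.2, e3⟩, k, hk', e3⟩
    choose x k hk e using h2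
    rw [show 4096 = Nat.card Sgn from card_Sgn.symm]
    refine Nat.card_le_card_of_injective x fun a b t => ?_
    have e1 : (s (k a))⁻¹ * s (k b) = g⁻¹ * f (a⁻¹ * b : Sgn) * g := by
      have := e a
      rw [t] at this
      calc _ = (f (x b) * s (k a))⁻¹ * (f (x b) * s (k b)) := by group
        _ = _ := by rw [← this, ← e b, coe_mul, coe_inv, map_mul, map_inv]; group
    have e2 : (s (k a))⁻¹ * s (k b) ∈ zpowers (f neg1) := by
      rcases hc.uniq _ (mul_mem (inv_mem (hk a)) (hk b)) (by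
        rw [e1]
        calc _ = g⁻¹ * f ((a⁻¹ * b : Sgn) * (a⁻¹ * b : Sgn)) * g := by
              rw [map_mul f ((a⁻¹ * b : Sgn) : Co0)]; group
          _ = 1 := by rw [Sgn_sq (a⁻¹ * b).2, map_one]; group) with e3 | e3 <;> rw [e3]
      exacts [one_mem _, mem_zpowers _]
    have e3 : s (k a) = s (k b) := by
      have := QuotientGroup.eq.2 e2
      simp only [s, QuotientGroup.out_eq'] at this
      simp only [s, this]
    have e4 := e a
    rw [t, e3, ← e b] at e4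
    exact Subtype.ext (h.inj (by simpa using e4))
  obtain ⟨k0, hk0⟩ := exists_conj_eq hcm hs hcard
  refine ⟨g * (f k0)⁻¹, ?_, by rw [← hg, mul_assoc g, ← map_inv, h.fcomm]; simp [mul_assoc]⟩
  rw [← inv_mem_iff]
  refine mem_normalizer_fintype ?_
  rintro _ ⟨a, ha, rfl⟩
  obtain ⟨x, k, hk, e⟩ := h1 a ha
  have hx := (hk0 x).1 ⟨k, hk, a, ha, e⟩
  have e1 : x * x = 1 := by
    calc x * x = k0⁻¹ * (k0 * x * k0⁻¹ * (k0 * x * k0⁻¹)) * k0 := by group
      _ = 1 := by rw [Sgn_sq hx]; group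
  have e2 := hsq x k a hk ha e
  rw [e1, map_one, one_mul] at e2
  have e3 : (g * (f k0)⁻¹)⁻¹ * f a * (g * (f k0)⁻¹)⁻¹⁻¹ = f (k0 * x * k0⁻¹) * k := by
    calc _ = f k0 * (g⁻¹ * f a * g) * (f k0)⁻¹ := by group
      _ = _ := by rw [e, map_mul, map_mul, mul_assoc, mul_assoc, ← map_inv, kcomm hk]; group
  rw [e3]
  rcases hc.uniq k hk e2 with e4 | e4 <;> rw [e4]
  · exact ⟨_, hx, (mul_one _).symm⟩
  · exact ⟨_, mul_mem hx neg1_mem_Sgn, map_mul _ _ _⟩

/-- the sign change on the word `c` is fused to the central involution -/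
def Fu (f : Co0 →* G) (c : Code) : Prop := ∃ g, g * f neg1 * g⁻¹ = f (sgn c)

omit [Finite G] in
theorem Fu.of_conj {c d : Code} (h : Fu f c) {n : G} (e : n * f (sgn c) * n⁻¹ = f (sgn d)) : Fu f d := by
  obtain ⟨g, hg⟩ := h
  exact ⟨n * g, by rw [← e, ← hg]; group⟩

omit [Finite G] in
theorem fu_iff {c d : Code} {n : G} (e : n * f (sgn c) * n⁻¹ = f (sgn d)) : Fu f c ↔ Fu f d :=
  ⟨fun h => h.of_conj e, fun h => h.of_conj (n := n⁻¹) (by rw [← e]; group)⟩

omit [Finite G] in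
theorem fu_of_card {c d : Code} (h0 : c.1.card ≠ 0) (h : c.1.card = d.1.card) : Fu f c ↔ Fu f d := by
  have key : ∀ σ ∈ M24, σ • c.1 = d.1 → (Fu f c ↔ Fu f d) := fun σ hσ e =>
    fu_iff (n := f (mono ⟨σ, hσ⟩ c0)) (by
      rw [← map_inv, ← map_mul, ← map_mul, conj_sgn]; congr 2; exact Subtype.ext e)
  rcases Golay.card_of_mem_code c.2 with e | e | e | e | e
  · exact absurd e h0
  · obtain ⟨σ, hσ, t⟩ := Golay.exists_smul_octad (Golay.mem_octads.2 ⟨c.2, e⟩)
      (Golay.mem_octads.2 ⟨d.2, h ▸ e⟩)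
    exact key σ hσ t
  · obtain ⟨σ, hσ, t⟩ := Golay.exists_smul_dodecad (Golay.mem_dodecads.2 ⟨c.2, e⟩)
      (Golay.mem_dodecads.2 ⟨d.2, h ▸ e⟩)
    exact key σ hσ t
  · obtain ⟨σ, hσ, t⟩ := Golay.exists_smul_octad (o := c.1ᶜ) (o' := d.1ᶜ)
      (Golay.mem_octads.2 ⟨Golay.compl_mem_code c.2, by rw [Finset.card_compl, Golay.card_pt, e]⟩)
      (Golay.mem_octads.2 ⟨Golay.compl_mem_code d.2, by rw [Finset.card_compl, Golay.card_pt, ← h, e]⟩)
    refine key σ hσ (Finset.ext fun p => ?_)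
    have := Finset.ext_iff.1 t p
    simp only [mem_smul_iff, Finset.mem_compl] at this ⊢
    exact not_iff_not.1 this
  · have e1 : c = d := Subtype.ext (by
      rw [Finset.eq_univ_of_card c.1 (by rw [e, Golay.card_pt]),
        Finset.eq_univ_of_card d.1 (by rw [← h, e, Golay.card_pt])])
    rw [e1]

omit [Finite G] in
theorem exists_back {n : G} (hn : n ∈ normalizer (Sgn.map f : Set G)) (c : Code) :
    ∃ d : Code, n * f (sgn d) * n⁻¹ = f (sgn c) := by
  obtain ⟨a, ha, e⟩ := (mem_normalizer_iff.1 (inv_mem hn) (f (sgn c))).1 ⟨_, sgn_mem c, rfl⟩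
  obtain ⟨d, rfl⟩ := exists_sgn ha
  exact ⟨d, by rw [e]; group⟩

/-- a code word given by a number -/
def wd (n : ℕ) (h : isCw n = true) : Code := ⟨E.setOf n, Golay.setOf_mem_of_isCw h⟩

/-- an octad -/
def x8 : Code := wd 13062145 (by decide +kernel)
/-- a dodecad -/
def x12 : Code := wd 8245261 (by decide +kernel)
/-- a word of weight sixteen -/
def x16 : Code := wd 16101503 (by decide +kernel)

theorem card_x8 : x8.1.card = 8 := (Golay.card_setOf _).trans (by decide +kernel)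
theorem card_x12 : x12.1.card = 12 := (Golay.card_setOf _).trans (by decide +kernel)
theorem card_x16 : x16.1.card = 16 := (Golay.card_setOf _).trans (by decide +kernel)

theorem pattern (h : M neg1 f) (hc : Cy neg1 f) (hin : ∀ α : Co0 ≃* Co0, ∃ a, ∀ x, α x = a * x * a⁻¹)
    {y y' : Code} (hx : Fu f (cx y y')) (h0 : y.1.card ≠ 0) (h0' : y'.1.card ≠ 0) :
    ((Fu f y ↔ Fu f x8) ∧ (Fu f y' ↔ Fu f x16)) ∨ ((Fu f y ↔ Fu f x12) ∧ (Fu f y' ↔ Fu f x12)) ∨
      ((Fu f y ↔ Fu f x16) ∧ (Fu f y' ↔ Fu f x8)) := by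
  obtain ⟨g, hg⟩ := hx
  obtain ⟨n, hn, e⟩ := exists_norm h hc hin (sgn_mem _) hg
  obtain ⟨t, ht⟩ := exists_back hn y
  obtain ⟨t', ht'⟩ := exists_back hn y'
  have e1 : cx t t' = c1 := sgn_inj (h.inj ((MulAut.conj n).injective (by
    show n * _ * n⁻¹ = n * _ * n⁻¹
    rw [sgn_c1, e, ← sgn_mul, ← sgn_mul, map_mul, map_mul, ← ht, ← ht']; group)))
  have hne : ∀ {t y : Code}, n * f (sgn t) * n⁻¹ = f (sgn y) → y.1.card ≠ 0 → t.1.card ≠ 0 :=
    fun {t y} ht h0 e => by
      have : t = c0 := Subtype.ext (Finset.card_eq_zero.1 e)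
      rw [this, sgn_c0, map_one, mul_one, mul_inv_cancel, ← map_one f, ← sgn_c0] at ht
      rw [← sgn_inj (h.inj ht)] at h0
      exact h0 rfl
  have e2 : t'.1 = t.1ᶜ := Finset.ext fun p => by
    have : p ∈ (cx t t').1 := by rw [e1]; exact Finset.mem_univ p
    simp only [cx, Finset.mem_symmDiff] at this
    rw [Finset.mem_compl]; tauto
  have e3 : t'.1.card = 24 - t.1.card := by rw [e2, Finset.card_compl, Golay.card_pt]
  have n1 := hne ht h0
  have n2 := hne ht' h0'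
  rw [← fu_iff ht, ← fu_iff ht']
  rcases Golay.card_of_mem_code t.2 with e | e | e | e | e
  · exact absurd e n1
  · exact Or.inl ⟨fu_of_card n1 (by rw [e, card_x8]), fu_of_card n2 (by rw [e3, e, card_x16])⟩
  · exact Or.inr (Or.inl ⟨fu_of_card n1 (by rw [e, card_x12]), fu_of_card n2 (by rw [e3, e, card_x12])⟩)
  · exact Or.inr (Or.inr ⟨fu_of_card n1 (by rw [e, card_x16]), fu_of_card n2 (by rw [e3, e, card_x8])⟩)
  · exact absurd (by rw [e3, e]) n2

theorem pattern' (h : M neg1 f) (hc : Cy neg1 f) (hin : ∀ α : Co0 ≃* Co0, ∃ a, ∀ x, α x = a * x * a⁻¹)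
    {x y : ℕ} {hx : isCw x = true} (hy : isCw y = true) (hf : Fu f (wd x hx)) {a b : Code}
    (ha : a.1.card = pc24 y) (hb : b.1.card = pc24 (x ^^^ y)) (h0 : pc24 y ≠ 0) (h0' : pc24 (x ^^^ y) ≠ 0) :
    ((Fu f a ↔ Fu f x8) ∧ (Fu f b ↔ Fu f x16)) ∨ ((Fu f a ↔ Fu f x12) ∧ (Fu f b ↔ Fu f x12)) ∨
      ((Fu f a ↔ Fu f x16) ∧ (Fu f b ↔ Fu f x8)) := by
  have e1 : (wd y hy).1.card = pc24 y := Golay.card_setOf _
  have e2 : (cx (wd x hx) (wd y hy)).1.card = pc24 (x ^^^ y) := by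
    rw [← Golay.card_setOf, E.setOf_xor]; rfl
  have := pattern h hc hin (y := wd y hy) (y' := cx (wd x hx) (wd y hy)) (by
    have : cx (wd y hy) (cx (wd x hx) (wd y hy)) = wd x hx :=
      Subtype.ext (by simp only [cx]; rw [symmDiff_comm, symmDiff_symmDiff_cancel_right])
    rwa [this])
    (e1 ▸ h0) (e2 ▸ h0')
  rwa [fu_of_card (e1 ▸ h0) (e1.trans ha.symm), fu_of_card (e2 ▸ h0') (e2.trans hb.symm)] at this

/-- an involution with eight fixed points -/
noncomputable def s2A : M24 := ⟨_, Golay.mem_2A⟩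

theorem not_fu (h : M neg1 f) (hc : Cy neg1 f) (hin : ∀ α : Co0 ≃* Co0, ∃ a, ∀ x, α x = a * x * a⁻¹)
    (c : Code) : ¬ Fu f (cx c (cs s2A c)) := by
  set σ := s2A
  have hσ : σ * σ = 1 := Subtype.ext (by
    have := pow_orderOf_eq_one (pm c2A)
    rwa [Golay.orderOf_2A, pow_two] at this)
  rintro ⟨g, hg⟩
  obtain ⟨n, hn, e⟩ := exists_norm h hc hin (sgn_mem _) hg
  have e2 : mono σ c0 * sgn (cx c (cs σ c)) = sgn (cx c (cs σ c)) * mono σ c0 :=
    commute_sgn_iff.2 (Subtype.ext (by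
      simp only [cx, cs]
      rw [Finset.smul_finset_symmDiff, ← mul_smul, ← coe_mul, hσ, coe_one, one_smul, symmDiff_comm]))
  obtain ⟨a, k, hk, e3⟩ := h.decomp hin (g := n⁻¹ * f (mono σ c0) * n) (by
    calc _ = n⁻¹ * (f (mono σ c0) * (n * f neg1 * n⁻¹)) * n := by group
      _ = n⁻¹ * (n * f neg1 * n⁻¹ * f (mono σ c0)) * n := by rw [e, ← map_mul, e2, map_mul]
      _ = _ := by group)
  choose F hF using exists_back hn
  have hFi : Function.Injective F := fun d d' t => sgn_inj (h.inj (by rw [← hF d, ← hF d', t]))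
  have : Finite Code := Golay.code_finite
  have hFs : Function.Surjective F := Finite.injective_iff_surjective.1 hFi
  have e4 : ∀ d, a * sgn (F d) * a⁻¹ = sgn (F (cs σ d)) := fun d => h.inj ((MulAut.conj n).injective (by
    show n * _ * n⁻¹ = n * _ * n⁻¹
    rw [hF, ← conj_sgn σ c0, map_mul, map_mul, map_mul, map_mul, ← hF d, map_inv, map_inv]
    have e5 : f (mono σ c0) = n * (f a * k) * n⁻¹ := by rw [← e3]; group
    rw [e5]
    calc _ = n * (f a * (k * f (sgn (F d)) * k⁻¹) * (f a)⁻¹) * n⁻¹ := by rw [kcomm hk]; group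
      _ = _ := by group))
  obtain ⟨π, c', rfl⟩ := exists_mono_of_mem_NN (mem_NN_of_norm (g := a) fun v hv => by
    obtain ⟨d, rfl⟩ := exists_sgn hv
    obtain ⟨d, rfl⟩ := hFs d
    rw [e4]; exact sgn_mem _)
  have e5 : ∀ d, cs π (F d) = F (cs σ d) := fun d => sgn_inj (by rw [← e4, conj_sgn])
  have e6 : π * π = 1 := eq_one_of_cs fun d => by
    obtain ⟨d, rfl⟩ := hFs d
    have t1 : ∀ (τ : M24) (d : Code), cs (τ * τ) d = cs τ (cs τ d) := fun τ d =>
      Subtype.ext (mul_smul _ _ _)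
    rw [t1, e5, e5, ← t1, hσ, cs_one]
  have e7 : cx (F c) (cs π (F c)) = c1 := sgn_inj (h.inj ((MulAut.conj n).injective (by
    show n * _ * n⁻¹ = n * _ * n⁻¹
    rw [sgn_c1, e, ← sgn_mul, ← sgn_mul, map_mul, map_mul, e5, ← hF c, ← hF (cs σ c)]; group)))
  have e8 : ∀ p, π.1 p ≠ p := fun p t => by
    have : p ∈ (cx (F c) (cs π (F c))).1 := by rw [e7]; exact Finset.mem_univ p
    simp only [cx, cs, Finset.mem_symmDiff, mem_smul_iff, (Equiv.symm_apply_eq _).2 t.symm] at this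
    tauto
  have e9 := fixed_conj (Golay.conjTo_2B π.2 (by
    rw [orderOf_coe]
    exact orderOf_eq_prime (by rwa [pow_two]) fun t => e8 none (by rw [t]; rfl))
    (Golay.card_fixS_eq_zero.2 e8))
  rw [fixed_2B] at e9
  have e10 := fixed_2A
  rw [← Nat.card_coe_set_eq] at e9 e10
  have : Finite ↥{s | s ∈ Code ∧ π.1 • s = s} := Nat.finite_of_card_ne_zero (by rw [e9]; decide)
  have e11 := Nat.card_le_card_of_injective (α := ↥{s | s ∈ Code ∧ pm c2A • s = s})
    (β := ↥{s | s ∈ Code ∧ π.1 • s = s}) (fun s => ⟨(F ⟨s.1, s.2.1⟩).1, (F _).2, by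
      have t : cs σ ⟨s.1, s.2.1⟩ = ⟨s.1, s.2.1⟩ := Subtype.ext s.2.2
      have := e5 ⟨s.1, s.2.1⟩
      rw [t] at this
      exact congrArg Subtype.val this⟩) fun s t e => by
      have e' : (F ⟨s.1, s.2.1⟩).1 = (F ⟨t.1, t.2.1⟩).1 :=
        congrArg (fun z : ↥{s | s ∈ Code ∧ π.1 • s = s} => z.1) e
      exact Subtype.ext (congrArg Subtype.val (hFi (Subtype.ext e')) :)
  omega

theorem card_comm (n : ℕ) (h : isCw n = true) :
    (cx (wd n h) (cs s2A (wd n h))).1.card = pc24 (n ^^^ img24 c2A n) := by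
  show (symmDiff (E.setOf _) (pm c2A • E.setOf _)).card = _
  rw [← Golay.R_2A.setOf_img, ← E.setOf_xor, Golay.card_setOf]

/-- the central involution is weakly closed in the component -/
theorem eq_of_conj (h : M neg1 f) (hc : Cy neg1 f) (hin : ∀ α : Co0 ≃* Co0, ∃ a, ∀ x, α x = a * x * a⁻¹)
    {g : G} {x : Co0} (hg : g * f neg1 * g⁻¹ = f x) : x = neg1 := by
  obtain ⟨k, hk⟩ := exists_conj_Sgn (x := x) (h.inj (by
    rw [map_mul, ← hg, map_one]
    calc _ = g * (f neg1 * f neg1) * g⁻¹ := by group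
      _ = 1 := by rw [h.zsq]; group))
  obtain ⟨c, e⟩ := exists_sgn hk
  have hf : Fu f c := ⟨f k * g, by rw [← e, map_mul, map_mul, ← hg, map_inv]; group⟩
  have k8 : ¬ Fu f x8 := fun t => not_fu h hc hin (wd 4845570 (by decide +kernel))
    ((fu_of_card (by rw [card_x8]; decide) (by rw [card_x8, card_comm]; decide +kernel)).1 t)
  have k16 : ¬ Fu f x16 := fun t => not_fu h hc hin (wd 12222476 (by decide +kernel))
    ((fu_of_card (by rw [card_x16]; decide) (by rw [card_x16, card_comm]; decide +kernel)).1 t)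
  have k12 : ¬ Fu f x12 := fun t => by
    rcases pattern' h hc hin (y := 9347075) (by decide +kernel) t (a := x8) (b := x12)
      (card_x8.trans (by decide +kernel)) (card_x12.trans (by decide +kernel)) (by decide +kernel)
      (by decide +kernel) with p | p | p
    exacts [k16 (p.2.1 t), k8 (p.1.2 t), k8 (p.2.1 t)]
  rcases Golay.card_of_mem_code c.2 with t | t | t | t | t
  · have : c = c0 := Subtype.ext (Finset.card_eq_zero.1 t)
    obtain ⟨l, hl⟩ := hf
    rw [this, sgn_c0, map_one, mul_inv_eq_one, mul_eq_left] at hl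
    exact absurd hl h.zne
  · exact absurd ((fu_of_card (by rw [t]; decide) (t.trans card_x8.symm)).1 hf) k8
  · exact absurd ((fu_of_card (by rw [t]; decide) (t.trans card_x12.symm)).1 hf) k12
  · exact absurd ((fu_of_card (by rw [t]; decide) (t.trans card_x16.symm)).1 hf) k16
  · have : c = c1 := Subtype.ext (Finset.eq_univ_of_card c.1 (by rw [t, Golay.card_pt]))
    rw [this, sgn_c1] at e
    calc x = k⁻¹ * (k * x * k⁻¹) * k := by group
      _ = neg1 := by rw [e, h.comm, inv_mul_cancel_right]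

end CL.StdCo
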