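/-
The double covers of the simple orthogonal group in dimension eight over the field with two elements,
and their automorphisms.
-/
import Cfsg.Agent.INV.STD.O8B
import Cfsg.Agent.CLAS.OutOrth3
import Cfsg.Agent.FGS.SchurCover
import Cfsg.Agent.SIG.Quasisimple
import Cfsg.Agent.S0296
import Cfsg.Agent.S2098

set_option autoImplicit false
set_option maxRecDepth 100000

namespace CL.StdO8

open Matrix Subgroup Cfsg CL.Schur
open scoped commutatorElement

/-- the simple group -/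
abbrev Ob : Type := POmega (ZMod 2) (quadFormPlus 4 (ZMod 2))

/-- the projection onto the simple group -/
noncomputable def π0 : P →* Ob := (QuotientGroup.mk' _).comp (ρ.subgroupComap Om)

theorem π0_surj : Function.Surjective π0 :=
  (QuotientGroup.mk'_surjective _).comp (ρ.subgroupComap_surjective_of_surjective Om ρ_surj)

theorem π0_eq_one {x : P} : π0 x = 1 ↔ x = 1 ∨ x = ζ := by
  rw [show π0 x = QuotientGroup.mk (ρ.subgroupComap Om x) from rfl, QuotientGroup.eq_one_iff,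
    card_eq_one.1 card_center_Om, mem_bot]
  refine ⟨fun h => (ker_ρ (congrArg Subtype.val h)).imp Subtype.ext Subtype.ext, ?_⟩
  rintro (rfl | rfl)
  exacts [map_one _, Subtype.ext ρ_e_one]

theorem π0_eq {x y : P} (h : π0 x = π0 y) : x = y ∨ x = y * ζ :=
  (π0_eq_one.1 (show π0 (y⁻¹ * x) = 1 by rw [map_mul, map_inv, h, inv_mul_cancel])).imp
    (fun t => (inv_mul_eq_one.1 t).symm) inv_mul_eq_iff_eq_mul.1

theorem comm_e {c : V} (hc : ∑ i, c i = 0) :
    ((⁅(⟨Q s2, Q_s2⟩ : P), (⟨e c, e_mem_P.2 hc⟩ : P)⁆ : P) : W) = e (c ∘ s2 + c) := by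
  change Q s2 * e c * (Q s2)⁻¹ * (e c)⁻¹ = _
  rw [Q_conj ag_s2, e_inv, e_add]

theorem stem_π0 : IsStemExtension π0 := ⟨π0_surj, fun x hx => (center_P x).2 (π0_eq_one.1 hx), fun x hx => by
  rcases π0_eq_one.1 hx with rfl | rfl
  · exact one_mem _
  · rw [show ζ = _ from Subtype.ext ((comm_e (c := ![1, 0, 1, 0, 1, 0, 1, 0]) (by decide)).trans
      (congrArg e (by decide))).symm]
    exact commutator_mem_commutator (mem_top _) (mem_top _)⟩

theorem perfect_Ob : commutator Ob = ⊤ := by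
  have := Cfsg.Agent.S0296.result (F := ZMod 2) 4 le_rfl
  refine (IsSimpleGroup.eq_bot_or_eq_top_of_normal _ inferInstance).resolve_left fun h => ?_
  have h1 : π0 ⁅(⟨Q s2, Q_s2⟩ : P), (⟨e ![1, 0, 1, 0, 0, 0, 0, 0], e_mem_P.2 (by decide)⟩ : P)⁆ = 1 := by
    rw [map_commutatorElement, ← mem_bot, ← h]
    exact commutator_mem_commutator (mem_top _) (mem_top _)
  rcases π0_eq_one.1 h1 with t | t <;> have := (comm_e (by decide)).symm.trans (congrArg Subtype.val t)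
  · exact absurd (e_inj (this.trans e_zero.symm)) (by decide)
  · exact absurd (e_inj this) (by decide)

theorem perfect_P : commutator P = ⊤ := by
  rw [eq_top_iff]
  intro x _
  have h1 : π0 x ∈ (commutator P).map π0 := by
    rw [map_commutator_eq, MonoidHom.range_eq_top.2 π0_surj, ← commutator_def, perfect_Ob]; trivial
  obtain ⟨a, ha, t⟩ := h1
  rcases π0_eq t.symm with rfl | rfl
  exacts [ha, mul_mem ha (stem_π0.2.2 (π0_eq_one.2 (.inr rfl)))]

/-- the automorphisms which lift to the double cover -/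
def Lf : Subgroup (MulAut Ob) where
  carrier := {γ | ∃ α : MulAut P, ∀ x, π0 (α x) = γ (π0 x)}
  one_mem' := ⟨1, fun _ => rfl⟩
  mul_mem' := fun ⟨α, h⟩ ⟨β, h'⟩ => ⟨α * β, fun x => by rw [MulAut.mul_apply, h, h', MulAut.mul_apply]⟩
  inv_mem' := fun {γ} ⟨α, h⟩ => ⟨α⁻¹, fun x => γ.injective (by
    rw [← h, MulAut.apply_inv_self, MulAut.apply_inv_self])⟩

theorem exists_desc (α : MulAut P) : ∃ γ : MulAut Ob, ∀ x, π0 (α x) = γ (π0 x) := by
  have h : ∀ x, π0 (α x) = 1 ↔ π0 x = 1 := fun x => by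
    rw [π0_eq_one, π0_eq_one, ← center_P, ← center_P]
    exact MulEquivClass.apply_mem_center_iff α
  let g : Ob →* Ob := π0.liftOfRightInverse _ (Function.rightInverse_surjInv π0_surj)
    ⟨π0.comp α.toMonoidHom, fun x hx => (h x).2 hx⟩
  have hg : ∀ x, g (π0 x) = π0 (α x) := fun x => MonoidHom.liftOfRightInverse_comp_apply _ _ _ _ x
  refine ⟨MulEquiv.ofBijective g (Finite.injective_iff_bijective.1 ((injective_iff_map_eq_one g).2 fun y hy => ?_)),
    fun x => (hg x).symm⟩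
  obtain ⟨x, rfl⟩ := π0_surj y
  rwa [hg, h] at hy

/-- an integral matrix in the hyperbolic basis -/
def im (X : Matrix (Fin 8) (Fin 8) ℤ) : Matrix ι ι ℤ := of fun i j => X (finSumFinEquiv i) (finSumFinEquiv j)

/-- triality -/
noncomputable def τ : MulAut Ob := OutOrth.tau4 (ZMod 2)

theorem τ_cube : τ ^ 3 = 1 := OutOrth.tau4_pow_three (ZMod 2)

theorem tau_notMem : τ ∉ Lf := by
  rintro ⟨α, hα⟩
  let M2 : Mt := (1 / 2 : ℚ) • !![0, -1, 0, 1, 0, 1, 0, 1; 1, 0, 0, -1, 0, 1, 1, 0; 0, 0, 0, 0, -1, 1, -1, -1;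
    -1, 1, 0, 0, 1, 1, 0, 0; 0, 0, 1, -1, 0, 0, -1, 1; -1, -1, -1, -1, 0, 0, 0, 0; 0, -1, 1, 0, 1, 0, 0, -1;
    -1, 0, 1, 0, -1, 0, 1, 0]
  let M3 : Mt := (1 / 2 : ℚ) • !![0, -1, 0, -1, 0, -1, 0, -1; 1, 0, 0, -1, 0, 1, 1, 0; 0, 0, 0, 0, 1, 1, -1, -1;
    1, 1, 0, 0, 1, -1, 0, 0; 0, 0, -1, -1, 0, 0, -1, 1; 1, -1, -1, 1, 0, 0, 0, 0; 0, -1, 1, 0, 1, 0, 0, 1;
    1, 0, 1, 0, -1, 0, -1, 0]
  let X1 := im !![1, 0, 0, 0, 0, 0, 0, 0; 0, 1, 0, 0, 0, 0, 0, 0; 0, 0, 1, 0, 0, 0, 0, 0; -1, 0, -1, 1, 2, 0, 2, 0;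
    1, -1, 0, 1, -1, 0, 0, -1; -1, 0, -1, 0, 2, 1, 2, 0; 0, 1, 1, -1, 0, 0, -1, 1; -1, 0, -1, 0, 2, 0, 2, 1]
  let X2 := im !![-1, 1, -1, -3, 2, 1, 2, 3; -2, -1, -2, 2, 1, -2, 2, 2; 0, 0, -1, -2, 0, 0, 0, 2;
    2, 0, 1, -1, -1, 2, 0, -2; 0, 2, 2, -2, 1, 2, 0, 0; 4, 0, 3, 0, -3, 3, -2, -6; -2, -1, -2, 0, 1, -2, 1, 3;
    2, 0, 0, -2, -1, 2, 0, -1]
  let X3 := im !![3, -2, 0, -2, -4, 0, -2, -1; -1, 1, -2, -2, 2, 0, 1, 3; 2, 0, 1, -2, -2, 1, -2, -1;
    1, 0, 1, 1, -1, 1, 1, -2; 2, -2, 0, 0, -3, -1, -2, -1; 0, 0, 2, 4, 0, 1, 2, -4; 0, 0, 0, -2, 0, 0, -1, 1;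
    2, 0, 2, 0, -2, 2, 0, -3]
  have e1 : qA * cq X1 = em (rp 1) * qA := by decide +kernel
  have e2 : qA * cq X2 = M2 * qA := by decide +kernel
  have e3 : qA * cq X3 = M3 * qA := by decide +kernel
  have o2 : Ok M2 := ok_of_int X2 (by decide +kernel) e2
  have o3 : Ok M3 := ok_of_int X3 (by decide +kernel) e3
  have q2 : wk M2 * wk M2 = e 1 := mat_inj (by rw [map_mul, mat_wk o2, mat_e_one]; decide +kernel)
  have q3 : wk M3 * wk M3 = e 1 := mat_inj (by rw [map_mul, mat_wk o3, mat_e_one]; decide +kernel)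
  let y1 : P := ⟨e (rp 1), e_mem_P.2 (by decide)⟩
  let y2 : P := ⟨wk M2, (J_data q2).1⟩
  let y3 : P := ⟨wk M3, (J_data q3).1⟩
  have hr := (OutOrth.ok4 (ZMod 2)).real.range_jE
  have hj : ∀ (y : P) (X : Matrix ι ι ℤ), qA * cq X = mat y * qA → ∀ v,
      AutForm.jE (AutForm.jOm (ZMod 2) (Orth.QPlus 4 (ZMod 2))) (ρ.subgroupComap Om y) v = X.map (↑) *ᵥ v :=
    fun y X h v => by rw [← Rz_eq h]; rfl
  have h1 : τ (π0 y1) = π0 y2 := by
    refine Witt.SymComp.tau_mk (C := Witt.paraOct (ZMod 2)) Witt.QPlus4_nondeg Witt.QPlus4_idx2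
      Witt.QPlus4_five_le _ (OutOrth.ok4 (ZMod 2)).real.inj_jE hr (g₃ := AutForm.jE (AutForm.jOm (ZMod 2) (Orth.QPlus 4 (ZMod 2)))
      (ρ.subgroupComap Om y3)) ⟨fun u v => ?_, hr.le ⟨_, rfl⟩, hr.le ⟨_, rfl⟩, hr.le ⟨_, rfl⟩⟩
    refine (hj y3 X3 (e3.trans (by rw [mat_wk o3])) _).trans (Eq.trans ?_ (congrArg₂ Witt.paraMul
      (hj y1 X1 (e1.trans (by rw [mat_e])) u) (hj y2 X2 (e2.trans (by rw [mat_wk o2])) v)).symm)
    have : (Witt.paraOct (ZMod 2)).mul.compr₂ (toLin' (X3.map (↑))) =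
        (Witt.paraOct (ZMod 2)).mul.compl₁₂ (toLin' (X1.map (↑))) (toLin' (X2.map (↑))) :=
      LinearMap.ext_basis (Pi.basisFun _ _) (Pi.basisFun _ _) fun i j => by
        simp only [LinearMap.compr₂_apply, LinearMap.compl₁₂_apply, toLin'_apply, Pi.basisFun_apply,
          Witt.paraOct_mul]
        revert i j
        decide +kernel
    exact congrFun (congrArg DFunLike.coe (congrFun (congrArg DFunLike.coe this) u)) v
  have h2 : α y1 * α y1 = 1 := by rw [← map_mul, show y1 * y1 = 1 from Subtype.ext (e_sq _), map_one]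
  have h3 : y2 * y2 = ζ := Subtype.ext q2
  refine e_one_ne (congrArg Subtype.val (?_ : ζ = 1))
  rcases π0_eq ((hα y1).trans h1) with t | t <;> rw [t] at h2
  · rw [← h3, h2]
  · have hz : ζ * y2 = y2 * ζ := Subtype.ext (e_one_comm _).symm
    rwa [mul_assoc, ← mul_assoc ζ, hz, mul_assoc y2, show ζ * ζ = 1 from Subtype.ext (e_sq _), mul_one, h3] at h2

theorem aut_inn {α : MulAut P} {γ : MulAut Ob} (h : ∀ x, π0 (α x) = γ (π0 x)) (hγ : γ ∈ Inn Ob) :
    ∃ p : P, α = MulAut.conjNormal (p : W) := by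
  obtain ⟨a, ha⟩ := hγ
  obtain ⟨p, rfl⟩ := π0_surj a
  refine ⟨p, MulEquiv.ext fun x => ?_⟩
  have := CL.Comp.eq_of_perfect_of_mul_inv_mem_center perfect_P
    ((MulAut.conj p⁻¹).toMonoidHom.comp α.toMonoidHom) (fun y => (center_P _).2 (π0_eq_one.1 (by
      change π0 (p⁻¹ * α y * p⁻¹⁻¹ * y⁻¹) = 1
      simp only [map_mul, map_inv, h, ← ha, MulAut.conj_apply]
      group))) x
  change p⁻¹ * α x * p⁻¹⁻¹ = x at this
  rw [MulAut.conjNormal_val, MulAut.conj_apply]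
  calc α x = p * (p⁻¹ * α x * p⁻¹⁻¹) * p⁻¹ := by group
    _ = _ := by rw [this]

theorem eq_or_eq_of_six {H : Type} [Group H] (h6 : Nat.card H = 6) {S : Subgroup H} (hS : S ≠ ⊤) {r x : H}
    (h1 : r ≠ 1) (h2 : r * r = 1) (hr : r ∈ S) (hx : x ∈ S) : x = 1 ∨ x = r := by
  classical
  have : Finite H := Nat.finite_of_card_ne_zero (by omega)
  have hr2 : orderOf r = 2 := orderOf_eq_prime (by rwa [pow_two]) h1
  have hz : zpowers r = S := by
    refine eq_of_le_of_card_ge (zpowers_le.2 hr) ?_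
    have a1 : 2 ∣ Nat.card S := hr2 ▸ S.orderOf_dvd_natCard hr
    have a2 := card_subgroup_dvd_card S
    have a3 : Nat.card S ≠ 6 := fun h => hS (eq_top_of_card_eq _ (h.trans h6.symm))
    rw [h6] at a2
    rw [Nat.card_zpowers, hr2]
    have := Nat.le_of_dvd (by norm_num) a2
    generalize Nat.card S = n at a1 a2 a3 this ⊢
    interval_cases n <;> omega
  rw [← hz, mem_zpowers_iff_mem_range_orderOf, hr2] at hx
  simpa [Finset.range_add_one, eq_comm, or_comm] using hx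

theorem map_Lf_ne : Lf.map (QuotientGroup.mk' (Inn Ob)) ≠ ⊤ := fun h => by
  obtain ⟨a, ha, t⟩ : (QuotientGroup.mk τ : Out Ob) ∈ Lf.map (QuotientGroup.mk' (Inn Ob)) := h.ge (mem_top _)
  obtain ⟨b, hb⟩ := QuotientGroup.eq.1 t
  obtain ⟨p, rfl⟩ := π0_surj b
  refine tau_notMem ((mul_mem_cancel_left (inv_mem ha)).1 ⟨MulAut.conj p, fun x => ?_⟩)
  rw [← hb]; simp

theorem card_Out : Nat.card (Out Ob) = 6 := by
  obtain ⟨t⟩ := (if_pos rfl).mp (OutOrth.out_QPlus_two (F := ZMod 2) (f := 1) (by simp) (m := 4) le_rfl)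
  rw [Nat.card_congr t.toEquiv]; simp [Fintype.card_perm, Nat.factorial]

theorem aut_P (α : MulAut P) : ∃ w : W, α = MulAut.conjNormal w := by
  let r : MulAut P := MulAut.conjNormal (e (pt 0))
  obtain ⟨γr, hr⟩ := exists_desc r
  obtain ⟨γ, hγ⟩ := exists_desc α
  have hr1 : (γr : Out Ob) ≠ 1 := fun h => by
    obtain ⟨p, hp⟩ := aut_inn hr ((QuotientGroup.eq_one_iff _).1 h)
    have : (p : W)⁻¹ * e (pt 0) ∈ P := by
      rcases cent_P (w := (p : W)⁻¹ * e (pt 0)) (fun x hx => by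
        have := congrArg Subtype.val (DFunLike.congr_fun hp ⟨x, hx⟩)
        simp only [r, MulAut.conjNormal_apply] at this
        calc _ = (p : W)⁻¹ * (e (pt 0) * x * (e (pt 0))⁻¹) * e (pt 0) := by group
          _ = _ := by rw [this]; group) with t | t <;> rw [t]
      exacts [one_mem _, ζ.2]
    exact e_pt_notMem 0 ((mul_mem_cancel_left (inv_mem p.2)).1 this)
  have hr2 : γr * γr = 1 := MulEquiv.ext fun y => by
    obtain ⟨x, rfl⟩ := π0_surj y
    rw [MulAut.mul_apply, ← hr, ← hr, ← MulAut.mul_apply, ← map_mul, e_sq, map_one]; rfl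
  rcases eq_or_eq_of_six card_Out map_Lf_ne hr1 (by rw [← QuotientGroup.mk_mul, hr2]; rfl)
    ⟨γr, ⟨r, hr⟩, rfl⟩ ⟨γ, ⟨α, hγ⟩, rfl⟩ with t | t
  · obtain ⟨p, hp⟩ := aut_inn hγ ((QuotientGroup.eq_one_iff _).1 t)
    exact ⟨p, hp⟩
  · obtain ⟨p, hp⟩ := aut_inn (α := r⁻¹ * α) (γ := γr⁻¹ * γ) (fun x => γr.injective (by
      rw [← hr, MulAut.mul_apply, MulAut.mul_apply, MulAut.apply_inv_self, MulAut.apply_inv_self, hγ]))
      (QuotientGroup.eq.1 t.symm)
    exact ⟨e (pt 0) * p, by rw [map_mul, ← hp, mul_inv_cancel_left]⟩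

theorem card_ker_π0 : Nat.card π0.ker = 2 := by
  have : π0.ker = zpowers ζ := by
    refine le_antisymm (fun w hw => ?_) (zpowers_le.2 (π0_eq_one.2 (.inr rfl)))
    rcases π0_eq_one.1 hw with rfl | rfl
    exacts [one_mem _, mem_zpowers _]
  rw [this, Nat.card_zpowers, order_ζ]

theorem card_surj {X Y : Type*} [Group X] [Group Y] {f : X →* Y} (hf : Function.Surjective f) :
    Nat.card X = Nat.card Y * Nat.card f.ker := by
  rw [card_eq_card_quotient_mul_card_subgroup f.ker,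
    Nat.card_congr (QuotientGroup.quotientKerEquivOfSurjective f hf).toEquiv]

theorem exists_over {Γ : Type} [Group Γ] {σ : Γ →* Ob} (hσ : IsCover σ) (h4 : Nat.card σ.ker = 4)
    {X : Type*} [Group X] {ξ : X →* Ob} (hξ : IsStemExtension ξ) (h2 : Nat.card ξ.ker = 2) (γ : MulAut Ob) :
    ∃ η : Γ →* X, Function.Surjective η ∧ (∀ g, ξ (η g) = γ (σ g)) ∧
      ∃ c : σ.ker, c ≠ 1 ∧ ∀ g, g ∈ η.ker ↔ g = 1 ∨ g = c := by
  obtain ⟨η, hη⟩ := hσ.exists_lift_of_perfect ⟨perfect_Ob⟩ γ.toMonoidHom ⟨hξ.1, hξ.2.1⟩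
  have hs := surjective_of_over_stem (γ.surjective.comp hσ.stem.1) hξ η hη
  have h : ∀ g, ξ (η g) = γ (σ g) := DFunLike.congr_fun hη
  have h1 := card_surj hs
  rw [card_surj hσ.stem.1, card_surj hξ.1, h4, h2, mul_assoc] at h1
  have h3 : Nat.card η.ker = 2 := by
    have := Nat.eq_of_mul_eq_mul_left Nat.card_pos h1
    omega
  obtain ⟨c, hc, hu⟩ := (Nat.card_eq_two_iff' 1).1 h3
  refine ⟨η, hs, h, ⟨c, γ.injective (by rw [← h, c.2, map_one, map_one])⟩,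
    fun t => hc (Subtype.ext (show (c : Γ) = 1 from congrArg Subtype.val t)), fun g => ⟨fun hg => ?_, ?_⟩⟩
  · by_contra! t
    exact t.2 (congrArg Subtype.val (hu ⟨g, hg⟩ fun t' => t.1 (congrArg Subtype.val t')))
  · rintro (rfl | rfl)
    exacts [one_mem _, c.2]

theorem exists_equiv_of_ker {Γ X Y : Type*} [Group Γ] [Group X] [Group Y] {η : Γ →* X} {θ : Γ →* Y}
    (h : Function.Surjective η) (h' : Function.Surjective θ) (t : η.ker = θ.ker) :
    ∃ α : X ≃* Y, ∀ g, α (η g) = θ g :=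
  ⟨(QuotientGroup.quotientKerEquivOfSurjective η h).symm.trans ((QuotientGroup.quotientMulEquivOfEq t).trans
    (QuotientGroup.quotientKerEquivOfSurjective θ h')), fun g => by
    rw [MulEquiv.trans_apply, show (QuotientGroup.quotientKerEquivOfSurjective η h).symm (η g) =
      QuotientGroup.mk g from (MulEquiv.symm_apply_eq _).2 rfl]
    rfl⟩

theorem exists_equiv {L : Type*} [Group L] {π : L →* Ob} (hπ : IsStemExtension π)
    (h2 : Nat.card π.ker = 2) : Nonempty (L ≃* P) := by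
  classical
  obtain ⟨Γ, _, _, σ, hσ⟩ := exists_cover Ob
  obtain ⟨t⟩ := hσ.nonempty_equiv (Cfsg.Agent.S2098.result (F := ZMod 2) (by simp))
  have h4 : Nat.card σ.ker = 4 := by rw [Nat.card_congr t.toEquiv]; simp
  choose η hs hη c hc hk using exists_over hσ h4 stem_π0 card_ker_π0
  obtain ⟨θ, hs', -, d, hd, hk'⟩ := exists_over hσ h4 hπ h2 1
  have h1 : ∀ γ δ, c γ = c δ → δ * γ⁻¹ ∈ Lf := fun γ δ t => by
    obtain ⟨α, hα⟩ := exists_equiv_of_ker (hs γ) (hs δ) (Subgroup.ext fun g => by rw [hk, hk, t])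
    refine ⟨α, fun x => ?_⟩
    obtain ⟨g, rfl⟩ := hs γ x
    rw [hα, hη, hη, MulAut.mul_apply, MulAut.inv_apply_self]
  have n1 : c 1 ≠ c τ := fun t => tau_notMem (by simpa using h1 _ _ t)
  have n2 : c τ ≠ c (τ * τ) := fun t => tau_notMem (by simpa using h1 _ _ t)
  have n3 : c (τ * τ) ≠ c 1 := fun t => tau_notMem (by
    have := h1 _ _ t
    rwa [one_mul, inv_eq_of_mul_eq_one_right (show τ * τ * τ = 1 by rw [← τ_cube, pow_three, mul_assoc])] at this)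
  obtain ⟨γ, t⟩ : ∃ γ, d = c γ := by
    by_contra! hn
    have := Fintype.ofFinite σ.ker
    have h5 := Finset.card_le_univ ({1, d, c 1, c τ, c (τ * τ)} : Finset σ.ker)
    rw [← Nat.card_eq_fintype_card, h4, Finset.card_insert_of_notMem (by simp [hd.symm, (hc _).symm]),
      Finset.card_insert_of_notMem (by simp [hn]), Finset.card_eq_three.2 ⟨_, _, _, n1, n3.symm, n2, rfl⟩] at h5
    omega
  obtain ⟨α, -⟩ := exists_equiv_of_ker hs' (hs γ) (Subgroup.ext fun g => by rw [hk, hk', t])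
  exact ⟨α⟩

end CL.StdO8
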