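/-
A standard subgroup isomorphic to the rotation subgroup of the Weyl group of type E8: fusion in the
group of sign changes.
-/
import Cfsg.Agent.INV.STD.O8E

set_option autoImplicit false
set_option maxRecDepth 100000

namespace CL.StdO8

open Matrix Subgroup Finset

variable {G : Type*} [Group G] {F : W → G} {D : AddSubgroup V} {ε : V → G}

/-- an elementary abelian group with an action of the affine group -/
structure St (D : AddSubgroup V) (ε : V → G) : Prop where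
  add : ∀ c ∈ D, ∀ d ∈ D, ε (c + d) = ε c * ε d
  inj : ∀ c ∈ D, ε c = 1 → c = 0
  sym : ∀ s, Ag s → ∃ n, ∀ c ∈ D, c ∘ s ∈ D ∧ n * ε c * n⁻¹ = ε (c ∘ s)

/-- linear combinations -/
def sp {n : ℕ} (g : Fin n → V) (a : Fin n → ZMod 2) : V := ∑ i, a i • g i

theorem sp_mem {n : ℕ} {g : Fin n → V} {H : AddSubgroup V} (h : ∀ i, g i ∈ H) (a : Fin n → ZMod 2) :
    sp g a ∈ H := H.sum_mem fun i _ => by
  rcases (by decide : ∀ x : ZMod 2, x = 0 ∨ x = 1) (a i) with t | t <;> simp [t, h]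

theorem sp_inj {n : ℕ} {g : Fin n → V} (h : ∀ a, sp g a = 0 → a = 0) : Function.Injective (sp g) :=
  fun a b t => sub_eq_zero.1 (h _ (by simpa [sp, sub_smul, sub_eq_zero] using t))

theorem sp_comp {n : ℕ} {g : Fin n → V} {s : Fin 8 → Fin 8} (h : ∀ i, g i ∘ s = g i) (a : Fin n → ZMod 2) :
    sp g a ∘ s = sp g a := funext fun x => by
  simp only [sp, Function.comp, Finset.sum_apply, Pi.smul_apply]
  exact sum_congr rfl fun i _ => by rw [show g i (s x) = g i x from congrFun (h i) x]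

namespace St

variable (h : St D ε)
include h

theorem zero : ε 0 = 1 := by simpa using h.add 0 (zero_mem _) 0 (zero_mem _)

theorem sq {c : V} (hc : c ∈ D) : ε c * ε c = 1 := by rw [← h.add c hc c hc, V.add_self, h.zero]

theorem comm {c d : V} (hc : c ∈ D) (hd : d ∈ D) : ε c * ε d = ε d * ε c := by
  rw [← h.add c hc d hd, ← h.add d hd c hc, add_comm]

theorem eq {c d : V} (hc : c ∈ D) (hd : d ∈ D) (t : ε c = ε d) : c = d := by
  rw [← add_zero c, ← V.add_self d, ← add_assoc, h.inj _ (add_mem hc hd) (by rw [h.add c hc d hd, t, h.sq hd]),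
    zero_add]

theorem isConj {c : V} (hc : c ∈ D) {s : Fin 8 → Fin 8} (hs : Ag s) : IsConj (ε c) (ε (c ∘ s)) :=
  let ⟨n, hn⟩ := h.sym s hs; isConj_iff.2 ⟨n, (hn c hc).2⟩

theorem isConj_of {c d : V} (hc : c ∈ D) (hd : d ∈ D) (t : c ∘ ot c = d ∘ ot d) : IsConj (ε c) (ε d) :=
  (h.isConj hc (ot_spec c).1).trans (t ▸ (h.isConj hd (ot_spec d).1).symm)

/-- the part inducing inner automorphisms -/
def H (F : W → G) : AddSubgroup V where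
  carrier := {c | c ∈ D ∧ ε c ∈ LK F}
  zero_mem' := ⟨zero_mem _, h.zero ▸ one_mem _⟩
  add_mem' := fun {c d} hc hd => ⟨add_mem hc.1 hd.1, h.add c hc.1 d hd.1 ▸ mul_mem hc.2 hd.2⟩
  neg_mem' := fun {c} hc => by rwa [neg_eq_of_add_eq_zero_left (V.add_self c)]

variable (hF : Fr F) {u : V} (hu : u ∈ D) (hz : ε u = F (e 1))
include hF

theorem inL {g : Fin 6 → V} (hg : ∀ i, g i ∈ h.H F) (hi : ∀ a, sp g a = 0 → a = 0) {c : V} (hc : c ∈ h.H F) :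
    ∃ x ∈ P, ε c = F x :=
  hF.mem_of_card (B := h.H F) (fun a => Subtype.ext (V.add_self _)) (β := fun a => ε a)
    (fun a b => h.add _ a.2.1 _ b.2.1) (fun a b t => Subtype.ext (h.eq a.2.1 b.2.1 t)) (by
      simpa using Nat.card_le_card_of_injective (fun a => (⟨_, sp_mem hg a⟩ : h.H F))
        fun a b t => sp_inj hi (congrArg Subtype.val t)) (fun a => a.2.2) ⟨c, hc⟩

include hu hz

theorem self_mem : u ∈ h.H F := ⟨hu, _, e1_P, hz ▸ hF.act_F e1_P⟩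

theorem exists_n {s : Fin 8 → Fin 8} (hs : Ag s) (hus : u ∘ s = u) :
    ∃ n, n * F (e 1) = F (e 1) * n ∧ ∀ c ∈ D, c ∘ s ∈ D ∧ n * ε c * n⁻¹ = ε (c ∘ s) :=
  let ⟨n, hn⟩ := h.sym s hs
  ⟨n, by rw [← mul_inv_eq_iff_eq_mul, ← hz, (hn u hu).2, hus], hn⟩

theorem comm_mem {s : Fin 8 → Fin 8} (hs : Ag s) (hus : u ∘ s = u) {d : V} (hd : d ∈ D) : d ∘ s + d ∈ h.H F := by
  obtain ⟨n, h1, hn⟩ := h.exists_n hF hu hz hs hus
  refine ⟨add_mem (hn d hd).1 hd, ?_⟩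
  have := hF.comm_mem h1 (hz ▸ h.comm hd hu)
  rwa [(hn d hd).2, inv_eq_of_mul_eq_one_right (h.sq hd), ← h.add _ (hn d hd).1 _ hd] at this

theorem conj_mem {s : Fin 8 → Fin 8} (hs : Ag s) (hus : u ∘ s = u) {d : V} (hd : d ∈ h.H F) : d ∘ s ∈ h.H F := by
  obtain ⟨n, h1, hn⟩ := h.exists_n hF hu hz hs hus
  exact ⟨(hn d hd.1).1, (hn d hd.1).2 ▸ hF.conj_mem h1 hd.2⟩

theorem no_A4 {g : Fin 6 → V} (hg : ∀ i, g i ∈ h.H F) (hi : ∀ a, sp g a = 0 → a = 0)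
    {s t θ : Fin 8 → Fin 8} {a b : V} {j : Fin 4 → V}
    (H : (Ag s ∧ Ag t ∧ Ag θ) ∧ (u ∘ s = u ∧ u ∘ t = u ∧ u ∘ θ = u) ∧ (s ∘ s = id ∧ t ∘ t = id ∧ t ∘ s = s ∘ t) ∧
      (θ ∘ θ ∘ θ = id ∧ θ ∘ s = t ∘ θ ∧ θ ∘ t = t ∘ s ∘ θ) ∧ a + a ∘ s + (b + b ∘ t) = u)
    (H' : (∃ x, a = sp g x) ∧ (∃ x, b = sp g x) ∧ (∀ i, ∃ x, j i = sp g x) ∧ (∀ i, j i ∘ s = j i ∧ j i ∘ t = j i) ∧
      ∀ x, sp j x = 0 → x = 0) : False := by
  obtain ⟨⟨hs, ht, hθ⟩, ⟨us, ut, uθ⟩, ⟨r1, r2, r3⟩, ⟨r4, r5, r6⟩, r7⟩ := H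
  obtain ⟨⟨a', rfl⟩, ⟨b', rfl⟩, j1, j2, j3⟩ := H'
  choose φ hP hφ using fun c : h.H F => h.inL hF hg hi c.2
  let A (s : Fin 8 → Fin 8) (hs : Ag s) (us : u ∘ s = u) (c : h.H F) : h.H F := ⟨_, h.conj_mem hF hu hz hs us c.2⟩
  have hA : ∀ s hs us, ∃ w, ∀ c, φ (A s hs us c) = w * φ c * w⁻¹ := fun s hs us => by
    obtain ⟨n, h1, hn⟩ := h.exists_n hF hu hz hs us
    obtain ⟨w, hw⟩ := hF.act n h1
    exact ⟨w, fun c => hF.inj _ (hP _) _ (conj_P (hP _) _) (by rw [← hw _ (hP _), ← hφ, ← hφ, (hn c c.2.1).2])⟩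
  have hj : ∀ i, j i ∈ h.H F := fun i => let ⟨x, t⟩ := j1 i; t ▸ sp_mem hg x
  refine StdO8.no_A4 (φ := φ) (fun a c => hF.inj _ (hP _) _ (mul_mem (hP _) (hP _)) (by
      rw [hF.mul _ (hP _) _ (hP _), ← hφ, ← hφ, ← hφ, ← h.add _ a.2.1 _ c.2.1]; rfl))
    (fun a => Subtype.ext (V.add_self _)) (hA s hs us) (hA t ht ut) (hA θ hθ uθ)
    (funext fun c => Subtype.ext (congrArg (c.1 ∘ ·) r1)) (funext fun c => Subtype.ext (congrArg (c.1 ∘ ·) r2))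
    (funext fun c => Subtype.ext (congrArg (c.1 ∘ ·) r3)) (funext fun c => Subtype.ext (congrArg (c.1 ∘ ·) r4))
    (funext fun c => Subtype.ext (congrArg (c.1 ∘ ·) r5)) (funext fun c => Subtype.ext (congrArg (c.1 ∘ ·) r6))
    (a := ⟨_, sp_mem hg a'⟩) (b := ⟨_, sp_mem hg b'⟩)
    (hF.inj _ (hP _) _ e1_P (by rw [← hφ, ← hz, ← r7]; rfl)) (j := fun x => ⟨_, sp_mem hj x⟩)
    (fun x y t => sp_inj j3 (h.eq (sp_mem hj x).1 (sp_mem hj y).1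
      ((hφ ⟨_, sp_mem hj x⟩).trans (t ▸ (hφ ⟨_, sp_mem hj y⟩).symm))))
    (funext fun x => Subtype.ext (sp_comp (fun i => (j2 i).1) x))
    (funext fun x => Subtype.ext (sp_comp (fun i => (j2 i).2) x))

end St

/-- the even subsets -/
def D0 : AddSubgroup V where
  carrier := {c | ∑ i, c i = 0}
  zero_mem' := by simp
  add_mem' := fun {c d} hc hd => by
    simp only [Set.mem_ofPred_eq, Pi.add_apply, sum_add_distrib] at *; rw [hc, hd, add_zero]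
  neg_mem' := fun {c} hc => by rwa [neg_eq_of_add_eq_zero_left (V.add_self c)]

instance : DecidablePred (· ∈ D0) := fun c => inferInstanceAs (Decidable (∑ i, c i = 0))

theorem D0_P {c : V} (h : c ∈ D0) : e c ∈ P := e_mem_P.2 h

namespace Fr

variable (h : Fr F)
include h

theorem st0 : St D0 fun c => F (e c) where
  add c hc d hd := by rw [e_add, h.mul _ (D0_P hc) _ (D0_P hd)]
  inj c hc t := e_inj ((h.inj _ (D0_P hc) _ (one_mem _) (t.trans h.one.symm)).trans e_zero.symm)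
  sym s hs := by
    obtain ⟨k, hk, t⟩ := exists_P (Q s)
    refine ⟨F k, fun c hc => ⟨e_mem_P.1 (Q_conj hs c ▸ conj_P (D0_P hc) _), ?_⟩⟩
    rw [h.act_F hk _ (D0_P hc), t, Q_conj hs]

theorem not_A : ¬IsConj (F (e 1)) (F (e (rp 2))) := fun t => by
  obtain ⟨g, t⟩ := isConj_iff.1 t
  let ss : Fin 6 → Fin 8 → Fin 8 := ![![0, 1, 2, 3, 6, 7, 4, 5], ![0, 2, 1, 3, 4, 6, 5, 7], ![0, 2, 3, 1, 4, 6, 7, 5],
    ![0, 1, 3, 2, 4, 5, 7, 6], ![0, 3, 1, 2, 4, 7, 5, 6], ![3, 0, 1, 2, 4, 7, 6, 5]]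
  let dd : Fin 6 → V := ![![0, 0, 0, 0, 0, 0, 1, 1], ![0, 0, 0, 0, 0, 0, 1, 1], ![0, 0, 0, 0, 0, 0, 1, 1],
    ![0, 0, 0, 1, 0, 0, 0, 1], ![0, 0, 0, 1, 0, 0, 0, 1], ![0, 0, 0, 1, 0, 0, 0, 1]]
  have h1 : ∀ i, Ag (ss i) ∧ rp 2 ∘ ss i = rp 2 ∧ dd i ∈ D0 := by decide +kernel
  exact h.st0.no_A4 (h.conj g) (by decide) t.symm (g := fun i => dd i ∘ ss i + dd i)
    (fun i => h.st0.comm_mem (h.conj g) (by decide) t.symm (h1 i).1 (h1 i).2.1 (h1 i).2.2) (by decide +kernel)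
    (s := ![1, 0, 3, 2, 4, 5, 6, 7]) (t := ![2, 3, 0, 1, 4, 5, 6, 7]) (θ := ![0, 2, 3, 1, 4, 6, 7, 5])
    (a := 0) (b := ![1, 0, 0, 1, 0, 1, 0, 1]) (j := ![![1, 1, 1, 1, 0, 0, 1, 1], ![0, 0, 0, 0, 0, 1, 0, 1],
      ![0, 0, 0, 0, 0, 1, 1, 0], ![0, 0, 0, 0, 1, 1, 1, 1]]) (by decide +kernel) (by decide +kernel)

theorem not_B : ¬IsConj (F (e 1)) (F (e (rp 4))) := fun t => by
  obtain ⟨g, t⟩ := isConj_iff.1 t
  let ss : Fin 6 → Fin 8 → Fin 8 := ![![0, 1, 2, 3, 6, 7, 4, 5], ![0, 1, 6, 7, 2, 3, 4, 5], ![0, 1, 3, 2, 4, 5, 7, 6],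
    ![0, 1, 4, 5, 2, 3, 6, 7], ![0, 1, 4, 5, 6, 7, 2, 3], ![1, 0, 2, 3, 4, 5, 7, 6]]
  let dd : Fin 6 → V := ![![0, 0, 0, 0, 0, 0, 1, 1], ![0, 0, 0, 0, 0, 0, 1, 1], ![0, 0, 0, 0, 0, 1, 0, 1],
    ![0, 0, 0, 0, 0, 1, 0, 1], ![0, 0, 0, 0, 0, 1, 0, 1], ![0, 1, 0, 0, 0, 0, 0, 1]]
  have h1 : ∀ i, Ag (ss i) ∧ rp 4 ∘ ss i = rp 4 ∧ dd i ∈ D0 := by decide +kernel
  exact h.st0.no_A4 (h.conj g) (by decide) t.symm (g := fun i => dd i ∘ ss i + dd i)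
    (fun i => h.st0.comm_mem (h.conj g) (by decide) t.symm (h1 i).1 (h1 i).2.1 (h1 i).2.2) (by decide +kernel)
    (s := ![0, 1, 2, 3, 5, 4, 7, 6]) (t := ![0, 1, 3, 2, 4, 5, 7, 6]) (θ := ![0, 1, 4, 5, 6, 7, 2, 3])
    (a := ![0, 0, 0, 1, 0, 1, 0, 0]) (b := ![0, 0, 0, 1, 0, 0, 0, 1]) (j := ![![1, 1, 0, 0, 0, 0, 1, 1],
      ![0, 0, 0, 0, 0, 0, 1, 1], ![0, 0, 1, 1, 0, 0, 1, 1], ![0, 0, 0, 0, 1, 1, 1, 1]])
    (by decide +kernel) (by decide +kernel)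

theorem sq_of_conj {y : G} (t : IsConj (F (e 1)) y) : y * y = 1 := by
  obtain ⟨g, rfl⟩ := isConj_iff.1 t
  rw [conj_mul, h.zsq]; group

theorem ne_of_conj {y : G} (t : IsConj (F (e 1)) y) : y ≠ 1 := fun t' => h.zne (isConj_one_left.1 (t' ▸ t))

/-- the classes of involutions of the component which can be fused to the central involution -/
theorem types {x : W} (hx : x ∈ P) (t : IsConj (F (e 1)) (F x)) (hn : x ≠ e 1) :
    ((∃ k, k * x * k⁻¹ = e (rp 1)) ∧ IsConj (F (e 1)) (F (e (rp 1))) ∧ ¬IsConj (F (e 1)) (F x * F (e 1))) ∨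
      (IsConj (F (e 1)) (F (e (rp 3))) ∧ IsConj (F (e 1)) (F x * F (e 1))) := by
  obtain ⟨k, hk, r, hr⟩ := inv_rp (w := x) (h.inj _ (mul_mem hx hx) _ (one_mem _) (by
    rw [h.mul _ hx _ hx, h.sq_of_conj t, h.one]))
  have h1 : IsConj (F x) (F (e (rp r))) := isConj_iff.2 ⟨F k, by rw [h.act_F hk _ hx, hr]⟩
  have h2 : IsConj (F x * F (e 1)) (F (e (rp r + 1))) := isConj_iff.2 ⟨F k, by
    rw [← h.mul _ hx _ e1_P, h.act_F hk _ (mul_mem hx e1_P), e_add, ← hr, mul_assoc _ k⁻¹, e_one_comm k⁻¹]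
    congr 1; group⟩
  have h3 : ∑ i, rp r i = 0 := e_mem_P.1 (hr ▸ conj_P hx k)
  rcases (by decide : ∀ r, ∑ i, rp r i = 0 → r = 0 ∨ r = 1 ∨ r = 2 ∨ r = 3 ∨ r = 4 ∨ r = 5) r h3 with
    rfl | rfl | rfl | rfl | rfl | rfl
  · exact absurd (h1.trans (by rw [show rp 0 = 0 from rfl, e_zero, h.one])) fun t' =>
      h.ne_of_conj t (isConj_one_left.1 t')
  · exact .inl ⟨⟨k, hr⟩, t.trans h1, fun t' => h.not_B (by
      rw [show rp 4 = rp 1 + 1 by decide]; exact t'.trans h2)⟩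
  · exact absurd (t.trans h1) h.not_A
  · exact .inr ⟨t.trans h1, (t.trans h1).trans ((h.st0.isConj_of (by decide) (by decide)
      (by decide +kernel)).trans h2.symm)⟩
  · exact absurd (t.trans h1) h.not_B
  · exact absurd (by rw [← conj_e1 k⁻¹, ← show k * x * k⁻¹ = e 1 from hr]; group) hn

end Fr

theorem St.three (h : St D ε) (hF : Fr F) {u : V} (hu : u ∈ D) (hz : ε u = F (e 1)) {y : Fin 3 → V}
    (h1 : ∀ i, y i ∈ D) (h2 : ∀ i, ∃ x ∈ P, ε (y i) = F x) (h3 : ∀ i, IsConj (ε u) (ε (y i)))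
    (h4 : ∀ i, ¬IsConj (ε u) (ε (y i + u))) (h5 : (∀ i, y i ≠ u) ∧ y 0 + y 1 + y 2 = u) : False := by
  choose x hx t using h2
  have h6 : ∀ i, ∃ k, k * x i * k⁻¹ = e (rp 1) := fun i => by
    rcases hF.types (hx i) (by rw [← t, ← hz]; exact h3 i) (fun t' => h5.1 i (h.eq (h1 i) hu (by
      rw [t, t', hz]))) with t' | t'
    · exact t'.1
    · exact absurd (by rw [h.add _ (h1 i) _ hu, t, hz]; exact t'.2) (h4 i)
  refine no_three (h6 0) (h6 1) (h6 2) (hF.inj _ (mul_mem (mul_mem (hx _) (hx _)) (hx _)) _ e1_P ?_)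
  rw [hF.mul _ (mul_mem (hx _) (hx _)) _ (hx _), hF.mul _ (hx _) _ (hx _), ← t, ← t, ← t,
    ← h.add _ (h1 _) _ (h1 _), ← h.add _ (add_mem (h1 _) (h1 _)) _ (h1 _), h5.2, hz]

/-- the extension of the group of even sign changes by an outer involution -/
structure Ex (F : W → G) (ε : V → G) : Prop where
  st : St ⊤ ε
  ev : ∀ c ∈ D0, ε c = F (e c)
  act : ∀ c, Act F (ε c) (e c)

theorem Fr.exists_ex (h : Fr F) {b : G} {u : V} (hu : u ∉ D0) (h2 : b * b = 1) (hb : Act F b (e u)) :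
    ∃ ε, Ex F ε ∧ ε u = b := by
  have hD : ∀ {c d}, c ∉ D0 → d ∉ D0 → c + d ∈ D0 := fun {c d} hc hd => by
    refine e_mem_P.1 ?_
    rw [e_add, mul_mem_iff_of_index_two index_P]
    exact iff_of_false (fun t => hc (e_mem_P.1 t)) fun t => hd (e_mem_P.1 t)
  have hc : ∀ c ∈ D0, b * F (e c) = F (e c) * b := fun c hc => by
    rw [← mul_inv_eq_iff_eq_mul, hb _ (D0_P hc), e_comm, mul_inv_cancel_right]
  have ha := h.st0.add
  let ε : V → G := fun c => if c ∈ D0 then F (e c) else F (e (c + u)) * b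
  have e1 : ∀ c ∈ D0, ε c = F (e c) := fun c t => if_pos t
  have e2 : ∀ c ∉ D0, ε c = F (e (c + u)) * b := fun c t => if_neg t
  have e3 : ∀ c, Act F (ε c) (e c) := fun c => by
    by_cases t : c ∈ D0
    · rw [e1 c t]; exact h.act_F (D0_P t)
    · have := (h.act_F (D0_P (hD t hu))).mul hb
      rwa [← e2 c t, ← e_add, add_assoc, V.add_self, add_zero] at this
  refine ⟨ε, ⟨⟨fun c _ d _ => ?_, fun c _ t => ?_, fun s hs => ?_⟩, e1, e3⟩, by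
    rw [e2 u hu, V.add_self, e_zero, h.one, one_mul]⟩
  · by_cases t : c ∈ D0 <;> by_cases t' : d ∈ D0
    · rw [e1 c t, e1 d t', e1 _ (add_mem t t'), ha c t d t']
    · rw [e1 c t, e2 d t', e2 _ (by rwa [AddSubgroup.add_mem_cancel_left _ t]), add_assoc,
        ha c t _ (hD t' hu), mul_assoc]
    · rw [e2 c t, e1 d t', e2 _ (by rwa [AddSubgroup.add_mem_cancel_right _ t']), add_right_comm,
        ha _ (hD t hu) d t', mul_assoc, mul_assoc, hc d t']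
    · rw [e2 c t, e2 d t', e1 _ (hD t t'), mul_assoc, ← mul_assoc b, hc _ (hD t' hu), mul_assoc, h2, mul_one,
        ← ha _ (hD t hu) _ (hD t' hu), add_add_add_comm, V.add_self, add_zero]
  · rcases h.act_eq (act_one.2 (one_mem _)) (t ▸ e3 c) with t' | t'
    · exact e_inj (t'.trans e_zero.symm)
    · obtain rfl := e_inj (t'.trans (one_mul _))
      exact absurd ((e1 1 (by decide)).symm.trans t) h.zne
  · obtain ⟨k, hk, t⟩ := exists_P (Q s)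
    simp only [Q_conj hs] at t
    have h3 : ∀ c, c ∘ s ∈ D0 ↔ c ∈ D0 := fun c => by
      change ∑ i, _ = 0 ↔ ∑ i, _ = 0
      rw [← e_mem_P, ← e_mem_P, ← t]
      exact (inferInstance : P.Normal).mem_comm_iff.trans (by rw [inv_mul_cancel_left])
    have h4 : ∀ c ∈ D0, F k * F (e c) * (F k)⁻¹ = F (e (c ∘ s)) := fun c hc => by rw [h.act_F hk _ (D0_P hc), t]
    refine ⟨F k, fun c _ => ⟨trivial, ?_⟩⟩
    by_cases t' : c ∈ D0
    · rw [e1 c t', e1 _ ((h3 c).2 t'), h4 c t']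
    · have h5 : F k * b * (F k)⁻¹ = F (e (u ∘ s + u)) * b := by
        rw [e_add, ← t, ← e_inv u, mul_assoc k, mul_assoc k, e_inv, ← e_inv u, h.mul _ hk _ (by
          rw [e_inv]; simpa [e_inv] using conj_P (inv_mem hk) (e u)), e_inv]
        have := hb _ (inv_mem hk)
        rw [e_inv, h.inv hk] at this
        rw [← this]; group
      rw [e2 c t', e2 _ (mt (h3 c).1 t'), ← conj_mul, h4 _ (hD t' hu), h5, ← mul_assoc,
        ← ha _ ((h3 _).2 (hD t' hu)) _ (hD (mt (h3 u).1 hu) hu)]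
      congr 3
      rw [show (c + u) ∘ s = c ∘ s + u ∘ s from rfl, add_assoc, ← add_assoc (u ∘ s), V.add_self, zero_add]

theorem Fr.not_three (h : Fr F) {b : G} (t : IsConj (F (e 1)) b) : ¬Act F b (e (rp 7)) := fun hb => by
  obtain ⟨ε, hε, rfl⟩ := h.exists_ex (by decide) (h.sq_of_conj t) hb
  obtain ⟨g, t'⟩ := isConj_iff.1 t
  let ss : Fin 6 → Fin 8 → Fin 8 := ![![0, 1, 2, 3, 5, 4, 7, 6], ![0, 1, 2, 3, 6, 7, 4, 5], ![0, 1, 2, 3, 7, 6, 5, 4],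
    ![0, 2, 1, 3, 4, 6, 5, 7], ![2, 0, 1, 3, 4, 6, 7, 5], id]
  let dd : Fin 6 → V := ![pt 7, pt 7, pt 7, pt 2, pt 2, 0]
  let y : Fin 3 → V := ![![1, 0, 0, 0, 1, 0, 0, 1], ![0, 1, 0, 0, 0, 1, 0, 1], ![0, 0, 1, 0, 1, 1, 0, 0]]
  let γ : Fin 6 → V := fun i => dd i ∘ ss i + dd i + if i = 5 then rp 7 else 0
  have h1 : ∀ i, Ag (ss i) ∧ rp 7 ∘ ss i = rp 7 := by decide +kernel
  have h2 : ∀ i, γ i ∈ hε.st.H fun x => g * F x * g⁻¹ := fun i => add_mem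
    (hε.st.comm_mem (h.conj g) trivial t'.symm (h1 i).1 (h1 i).2 trivial) (by
      split_ifs
      exacts [hε.st.self_mem (h.conj g) trivial t'.symm, zero_mem _])
  have h3 : ∀ i, (∃ a, y i = sp γ a) ∧ rp 7 ∘ ot (rp 7) = y i ∘ ot (y i) ∧ y i + rp 7 ∈ D0 ∧
      (y i + rp 7) ∘ ot (y i + rp 7) = rp 2 ∘ ot (rp 2) := by decide +kernel
  refine hε.st.three (h.conj g) trivial t'.symm (y := y) (fun _ => trivial)
    (fun i => hε.st.inL (h.conj g) h2 (by decide +kernel) (let ⟨a, t⟩ := (h3 i).1; t ▸ sp_mem h2 a))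
    (fun i => hε.st.isConj_of trivial trivial (h3 i).2.1) (fun i t'' => h.not_A ?_) (by decide +kernel)
  rw [hε.ev _ (h3 i).2.2.1] at t''
  exact (t.trans t'').trans (h.st0.isConj_of (h3 i).2.2.1 (by decide) (h3 i).2.2.2)

/-- an outer conjugate induces a reflection -/
theorem Fr.outer (h : Fr F) {b : G} (t : IsConj (F (e 1)) b) (hc : b * F (e 1) = F (e 1) * b) (hb : b ∉ LK F) :
    ∃ k ∈ P, Act F b (k⁻¹ * e (pt 0) * k) := by
  obtain ⟨w, hw⟩ := h.act b hc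
  have hP : w ∉ P := fun t => hb ⟨w, t, hw⟩
  have h2 : w * w = 1 := (h.act_eq (act_one.2 (one_mem _)) (h.sq_of_conj t ▸ hw.mul hw)).resolve_right
    fun t => hP (J_data (t.trans (one_mul _))).1
  obtain ⟨k, hk, r, hr⟩ := inv_rp h2
  have h1 : Act F (F k * b * (F k)⁻¹) (e (rp r)) := hr ▸ ((h.act_F hk).mul hw).mul (h.act_F hk).inv
  have h3 : ∑ i, rp r i ≠ 0 := fun t => hP (by
    simpa [← hr, mul_assoc] using conj_P (e_mem_P.2 t) k⁻¹)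
  have h4 : IsConj (F (e 1)) (F k * b * (F k)⁻¹) := t.trans (isConj_iff.2 ⟨_, rfl⟩)
  have h5 : Act F (F k * b * (F k)⁻¹) (e (pt 0)) := by
    rcases (by decide : ∀ r, ∑ i, rp r i ≠ 0 → rp r = pt 0 ∨ rp r + 1 = pt 0 ∨ rp r = rp 7 ∨ rp r + 1 = rp 7)
      r h3 with t | t | t | t
    · exact t ▸ h1
    · exact t ▸ e_add _ _ ▸ h1.neg
    · exact absurd (t ▸ h1) (h.not_three h4)
    · exact absurd (t ▸ e_add _ _ ▸ h1.neg) (h.not_three h4)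
  exact ⟨k, hk, by simpa [mul_assoc] using ((h.act_F hk).inv.mul h5).mul (h.act_F hk)⟩

end CL.StdO8
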