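/- Facts on elements of order four of `Aut(L3(4))`. -/
import Cfsg.Agent.SPOR.ONU.ATab

set_option autoImplicit false
set_option maxRecDepth 100000

namespace CL.StdO

open CL.ONU CL.CE CL.K CL.Net CL.Reg CL.A10 Subgroup

noncomputable abbrev tP : TA := τ [0, 1, 2, 1]

def PB (b : TA) : Prop := b.val < 64 ∧ b * tP = tP * b ∧ b * b ≠ 1 ∧ tP * tP * (b * b) ≠ 1

noncomputable instance instDecPB (b : TA) : Decidable (PB b) := by unfold PB; infer_instance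

/-- `a` normalizes the cyclic group generated by `p` -/
def Nm {H : Type*} [Group H] (a p : H) : Prop := a * p * a⁻¹ = p ∨ a * p * a⁻¹ = p⁻¹

/-- a table of a Sylow 2-subgroup adapted to `p` -/
structure Tb (p : A) (ψ : TA →* A) : Prop where
  inj : Function.Injective ψ
  mem : ∀ {x}, ψ x ∈ Q ↔ x.val < 64
  hp : ψ tP = p
  cen : ∀ {a}, a * p = p * a → ∃ x, ψ x = a
  syl : ∀ {s}, s * s = 1 → ∀ w, s * (ψ w)⁻¹ ∈ Q → ∃ m ∈ Q, ∃ x, ψ x = m * s * m⁻¹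

theorem tb1 : Tb P1 ψA := by
  refine ⟨ψ_inj, ψ_mem, ψ_P, fun {a} h => ?_, fun {s} h w hw => ?_⟩
  · have e : ψA '' {x | x * τ [0, 1, 2, 1] = τ [0, 1, 2, 1] * x} = centralizer {P1} :=
      Set.eq_of_subset_of_ncard_le (by
        rintro _ ⟨x, hx, rfl⟩
        exact mem_centralizer_singleton_iff.2 (by rw [← ψ_P, ← map_mul, hx, map_mul])) (by
        rw [Set.ncard_image_of_injective _ ψ_inj, RG.ncard_eq, show RG.count _ = 64 by decide +kernel]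
        exact card_cenP)
    obtain ⟨x, -, hx⟩ := e.ge (mem_centralizer_singleton_iff.2 h)
    exact ⟨x, hx⟩
  · obtain ⟨n, hn, x, hx⟩ := sylA (N := ψA.range ⊔ Q) le_sup_left (t := s) (k := 1) (by
      have := mul_mem (mem_sup_right hw) (mem_sup_left (S := ψA.range) (T := Q) ⟨w, rfl⟩)
      rwa [inv_mul_cancel_right] at this) (by rwa [pow_one, sq])
    have : n ∈ ((ψA.range ⊔ Q : Subgroup A) : Set A) := hn
    rw [mul_normal] at this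
    obtain ⟨_, ⟨y, rfl⟩, m, hm, rfl⟩ := this
    exact ⟨m, hm, y⁻¹ * x * y, by rw [map_mul, map_mul, hx, map_inv]; group⟩

theorem exists_v {u : A} (hu : u ∈ Q) (h1 : u ≠ 1) (h2 : u * u = 1) :
    ∃ m ∈ Q, u = MulAut.conj m v1 :=
  let ⟨m, hm, e⟩ := conj_v1 hu h1 h2
  ⟨m⁻¹, inv_mem hm, by simp [← e, mul_assoc]⟩

theorem exists_tb {p : A} (hp : p ∈ Q) (h2 : p * p ≠ 1) (h4 : p * p * (p * p) = 1) : ∃ ψ, Tb p ψ := by
  obtain ⟨m, hm, e⟩ := conj_v1 (mul_mem hp hp) h2 h4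
  obtain ⟨n, f⟩ := root_conj (Q_normal.conj_mem p hp m) (by rw [conj_mul, e])
  let k := MulAut.conj (n * m)⁻¹
  have g : k P1 = p := by simp [k, ← f, mul_assoc]
  have q : ∀ a, k a ∈ Q ↔ a ∈ Q := fun a => ⟨fun h => by
    simpa [k, mul_assoc] using Q_normal.conj_mem _ h (n * m), fun h => Q_normal.conj_mem _ h _⟩
  refine ⟨k.toMonoidHom.comp ψA, k.injective.comp ψ_inj, (q _).trans ψ_mem, g ▸ congrArg k ψ_P,
    fun {a} h => ?_, fun {s} h w hw => ?_⟩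
  · obtain ⟨a, rfl⟩ := k.surjective a
    obtain ⟨x, rfl⟩ := tb1.cen (a := a) (k.injective (by rw [map_mul, map_mul, g, h]))
    exact ⟨x, rfl⟩
  · obtain ⟨s, rfl⟩ := k.surjective s
    obtain ⟨l, hl, x, hx⟩ := tb1.syl (s := s) (k.injective (by rw [map_mul, h, map_one])) w
      ((q _).1 (by rw [map_mul, map_inv]; exact hw))
    exact ⟨k l, (q _).2 hl, x, by rw [← map_inv, ← map_mul, ← map_mul, ← hx]; rfl⟩

variable {p b : A} {ψ : TA →* A}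

theorem Tb.pb (T : Tb p ψ) (h : Pair p b) : ∃ y, ψ y = b ∧ PB y := by
  obtain ⟨y, rfl⟩ := T.cen h.comm.symm
  refine ⟨y, rfl, T.mem.1 h.hq, T.inj (by rw [map_mul, map_mul, T.hp, h.comm]), fun e => h.q2 ?_,
    fun e => h.pq ?_⟩
  · rw [← map_mul, e, map_one]
  · rw [← T.hp, ← map_mul, ← map_mul, ← map_mul, e, map_one]

theorem exists_tp (h : Pair p b) : ∃ ψ y, Tb p ψ ∧ ψ y = b ∧ PB y :=
  let ⟨ψ, T⟩ := exists_tb h.hp h.p2 h.p4
  let ⟨y, hy⟩ := T.pb h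
  ⟨ψ, y, T, hy⟩

theorem Tb.nm (T : Tb p ψ) {a : A} (h : Nm a p) : ∃ x, ψ x = a := by
  rcases h with h | h
  · exact T.cen (mul_inv_eq_iff_eq_mul.1 h)
  · obtain ⟨s, hs⟩ : ∃ s : TA, s * tP * s⁻¹ = tP⁻¹ := by decide +kernel
    have e : ψ s * p * (ψ s)⁻¹ = p⁻¹ := by rw [← T.hp, ← map_inv, ← map_mul, ← map_mul, hs, map_inv]
    obtain ⟨x, hx⟩ := T.cen (a := (ψ s)⁻¹ * a) (by
      calc (ψ s)⁻¹ * a * p = (ψ s)⁻¹ * (a * p * a⁻¹) * a := by group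
        _ = _ := by rw [h, ← e]; group)
    exact ⟨s * x, by rw [map_mul, hx, mul_inv_cancel_left]⟩

theorem exists_pair (hp : p ∈ Q) (h2 : p * p ≠ 1) (h4 : p * p * (p * p) = 1) : ∃ b, Pair p b := by
  obtain ⟨m, hm, e⟩ := conj_v1 (mul_mem hp hp) h2 h4
  obtain ⟨n, f⟩ := root_conj (Q_normal.conj_mem p hp m) (by rw [conj_mul, e])
  have := pair1.map (n * m)⁻¹
  rw [show MulAut.conj (n * m)⁻¹ P1 = p by simp [← f, mul_assoc]] at this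
  exact ⟨_, this⟩

theorem Pair.symm' (e : Pair p b) : Pair b p :=
  ⟨e.hq, e.hp, e.comm.symm, e.q4, e.p4, e.q2, e.p2, fun f => e.pq (mul_eq_one_comm.1 f)⟩

theorem t_sq : ∀ x : TA, (x * x).val < 64 := by decide +kernel

theorem sq_mem {a : A} {k : ℕ} (h : a ^ 2 ^ k = 1) : a * a ∈ Q := by
  obtain ⟨n, -, x, hx⟩ := sylA le_top (mem_top a) h
  have := Q_normal.conj_mem' _ (ψ_mem.2 (t_sq x)) n
  rw [map_mul, hx] at this
  simpa [mul_assoc] using this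

theorem root_cases {y : A} (h2 : y * y ≠ 1) (h4 : y * y * (y * y) = 1) :
    ∃ r ∈ Q, ∃ s ∈ Q, r * (y * y) = y * y * r ∧ s * (y * y) = y * y * s ∧
      ∀ t ∈ [r, s, r * s], t * y ≠ y * t ∧ (y ∈ Q ∨ t * y * t⁻¹ ≠ y⁻¹) := by
  obtain ⟨m, -, e⟩ := conj_v1 (sq_mem (a := y) (k := 2) (by
    rw [show 2 ^ 2 = 2 * 2 from rfl, pow_mul, sq, sq, h4])) h2 h4
  obtain ⟨n, x, -, hx, h⟩ := root_v1 (y := m * y * m⁻¹) (by rw [conj_mul, e])
  let k := MulAut.conj (n * m)⁻¹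
  have g : y = k (ψA x) := by simp [k, hx, mul_assoc]
  have b : ∀ x : TA, x * x = τ [0, 2, 0, 2] → ∃ r : TA, r.val < 64 ∧ r * (x * x) = x * x * r ∧
      (r * x ≠ x * r ∧ (x.val < 64 ∨ r * x * r⁻¹ ≠ x⁻¹)) ∧ ∃ s : TA, s.val < 64 ∧
      s * (x * x) = x * x * s ∧ (s * x ≠ x * s ∧ (x.val < 64 ∨ s * x * s⁻¹ ≠ x⁻¹)) ∧
      (r * s * x ≠ x * (r * s) ∧ (x.val < 64 ∨ r * s * x * (r * s)⁻¹ ≠ x⁻¹)) := by decide +kernel
  obtain ⟨r, r0, r1, r2, s, s0, s1, s2, rs⟩ := b x h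
  have q : k (ψA x) ∈ Q ↔ x.val < 64 := ⟨fun h => ψ_mem.1 (by
    simpa [k, mul_assoc] using Q_normal.conj_mem _ h (n * m)), fun h => Q_normal.conj_mem _ (ψ_mem.2 h) _⟩
  refine ⟨k (ψA r), Q_normal.conj_mem _ (ψ_mem.2 r0) _, k (ψA s), Q_normal.conj_mem _ (ψ_mem.2 s0) _, ?_⟩
  simp only [g, q, List.forall_mem_cons, ← map_mul, ← map_inv, ne_eq, EmbeddingLike.apply_eq_iff_eq,
    ψ_inj.eq_iff, List.not_mem_nil, false_imp_iff, implies_true, and_true]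
  exact ⟨r1, s1, r2, s2, rs⟩

theorem cen_pair (h : Pair p b) {a : A} (h1 : a * p = p * a) (h2 : a * b = b * a) :
    ∃ u ∈ [1, p, p * p, p⁻¹], ∃ w ∈ [1, b, b * b, b⁻¹], a = u * w := by
  obtain ⟨ψ, y, T, rfl, hy⟩ := exists_tp h
  obtain ⟨x, rfl⟩ := T.cen h1
  have f : ∀ b, PB b → ∀ a : TA, a * tP = tP * a → a * b = b * a →
      ∃ u ∈ [1, tP, tP * tP, tP⁻¹], ∃ w ∈ [1, b, b * b, b⁻¹], a = u * w := by decide +kernel
  obtain ⟨u, hu, w, hw, rfl⟩ := f y hy x (T.inj (by rw [map_mul, map_mul, T.hp, h1]))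
    (T.inj (by rw [map_mul, map_mul, h2]))
  exact ⟨ψ u, by simpa [T.hp] using List.mem_map_of_mem (f := ψ) hu, ψ w,
    by simpa using List.mem_map_of_mem (f := ψ) hw, map_mul _ _ _⟩

theorem nm_pair (h : Pair p b) {a : A} (ha : a ∈ Q) (h1 : Nm a p) (h2 : Nm a b) :
    ∃ u ∈ [1, p, p * p, p⁻¹], ∃ w ∈ [1, b, b * b, b⁻¹], a = u * w := by
  obtain ⟨ψ, y, T, rfl, hy⟩ := exists_tp h
  obtain ⟨x, rfl⟩ := T.nm h1
  have f : ∀ b, PB b → ∀ a : TA, a.val < 64 → (a * tP * a⁻¹ = tP ∨ a * tP * a⁻¹ = tP⁻¹) →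
      (a * b * a⁻¹ = b ∨ a * b * a⁻¹ = b⁻¹) →
      ∃ u ∈ [1, tP, tP * tP, tP⁻¹], ∃ w ∈ [1, b, b * b, b⁻¹], a = u * w := by decide +kernel
  rw [← T.hp] at h1
  simp only [Nm, ← map_mul, ← map_inv, T.inj.eq_iff] at h1 h2
  obtain ⟨u, hu, w, hw, rfl⟩ := f y hy x (T.mem.1 ha) h1 h2
  exact ⟨ψ u, by simpa [T.hp] using List.mem_map_of_mem (f := ψ) hu, ψ w,
    by simpa using List.mem_map_of_mem (f := ψ) hw, map_mul _ _ _⟩

theorem t_cen : ∀ b, PB b → ∀ a : TA, a.val < 64 →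
    a * (b * b) = b * b * a ∧ a * (tP * tP) = tP * tP * a := by decide +kernel

theorem exists_s (h : Pair p b) : ∃ s ∈ Q, s * p * s⁻¹ = b * b * p ∧ s * (b * b) = b * b * s := by
  obtain ⟨ψ, y, T, rfl, hy⟩ := exists_tp h
  have f : ∀ b, PB b → ∃ s : TA, s.val < 64 ∧ s * tP * s⁻¹ = b * b * tP := by decide +kernel
  obtain ⟨s, h1, h2⟩ := f y hy
  refine ⟨ψ s, T.mem.2 h1, ?_⟩
  rw [← T.hp]
  simp only [← map_mul, ← map_inv, T.inj.eq_iff]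
  exact ⟨h2, (t_cen y hy s h1).1⟩

theorem exists_t (h : Pair p b) : ∃ t ∈ Q, t * p * t⁻¹ = p⁻¹ ∧ ¬ Nm t b ∧ t * (b * b) = b * b * t := by
  obtain ⟨ψ, y, T, rfl, hy⟩ := exists_tp h
  have f : ∀ b, PB b → ∃ s : TA, s.val < 64 ∧ s * tP * s⁻¹ = tP⁻¹ ∧
      ¬ (s * b * s⁻¹ = b ∨ s * b * s⁻¹ = b⁻¹) := by decide +kernel
  obtain ⟨s, h1, h2, h3⟩ := f y hy
  refine ⟨ψ s, T.mem.2 h1, ?_⟩
  rw [← T.hp]
  simp only [Nm, ← map_mul, ← map_inv, T.inj.eq_iff]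
  exact ⟨h2, h3, (t_cen y hy s h1).1⟩

theorem sq_of_inv (h : Pair p b) {a : A} (h1 : a * p * a⁻¹ = p⁻¹) (h2 : a * b * a⁻¹ = b⁻¹) :
    a * a = 1 := by
  obtain ⟨ψ, y, T, rfl, hy⟩ := exists_tp h
  obtain ⟨x, rfl⟩ := T.nm (.inr h1)
  have f : ∀ b, PB b → ∀ a : TA, a * tP * a⁻¹ = tP⁻¹ → a * b * a⁻¹ = b⁻¹ → a * a = 1 := by
    decide +kernel
  rw [← T.hp] at h1
  simp only [← map_mul, ← map_inv, T.inj.eq_iff] at h1 h2
  rw [← map_mul, f y hy x h1 h2, map_one]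

theorem act_sq (h : Pair p b) {a : A} (h1 : a * p = p * a) :
    a * (b * b) * a⁻¹ = b * b ∨ a ∉ Q ∧ a * (b * b) * a⁻¹ = b * b * (p * p) := by
  obtain ⟨ψ, y, T, rfl, hy⟩ := exists_tp h
  obtain ⟨x, rfl⟩ := T.cen h1
  have f : ∀ b, PB b → ∀ a : TA, a * tP = tP * a → a * (b * b) * a⁻¹ = b * b ∨
      ¬ a.val < 64 ∧ a * (b * b) * a⁻¹ = b * b * (tP * tP) := by decide +kernel
  rw [← T.hp] at h1 ⊢
  simp only [← map_mul, ← map_inv, T.inj.eq_iff, T.mem] at h1 ⊢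
  exact f y hy x h1

theorem klein (h : Pair p b) {a c d : A} (ha : a * p = p * a) (hc : c * p = p * c)
    (hd : d * p = p * d) : a * a ∈ Q ∧ (a ∉ Q → c ∉ Q → c * a ∉ Q →
      d ∈ Q ∨ d * a ∈ Q ∨ d * c ∈ Q ∨ d * c * a ∈ Q) := by
  obtain ⟨ψ, y, T, rfl, hy⟩ := exists_tp h
  obtain ⟨x, rfl⟩ := T.cen ha
  obtain ⟨u, rfl⟩ := T.cen hc
  obtain ⟨v, rfl⟩ := T.cen hd
  have f : ∀ a b : TA, (a * b).val / 64 = (a.val / 64) ^^^ (b.val / 64) := by decide +kernel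
  have g : ∀ a : TA, a.val < 64 ↔ a.val / 64 = 0 := fun a => by omega
  have l : ∀ a : TA, a.val / 64 < 4 := fun a => by have : a.val < 256 := a.lt; omega
  simp only [← map_mul, T.mem]
  refine ⟨t_sq x, ?_⟩
  simp only [g, f]
  have := l x; have := l u; have := l v
  generalize x.val / 64 = i at *
  generalize u.val / 64 = j at *
  generalize v.val / 64 = k at *
  interval_cases i <;> interval_cases j <;> interval_cases k <;> decide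

theorem exists_pos (h : Pair p b) {t s : A} (ht : t * p = p * t) (h1 : t * (b * b) * t⁻¹ = b * b * (p * p))
    (hs : s * s = 1) (h2 : s * t⁻¹ ∈ Q) : ∃ m ∈ Q, m * s * m⁻¹ * (p * p) = p * p * (m * s * m⁻¹) ∧
      m * s * m⁻¹ * (b * b) * (m * s * m⁻¹)⁻¹ = b * b * (p * p) := by
  obtain ⟨ψ, y, T, rfl, hy⟩ := exists_tp h
  obtain ⟨w, rfl⟩ := T.cen ht
  obtain ⟨m, hm, x, hx⟩ := T.syl hs w h2
  refine ⟨m, hm, ?_⟩
  have a : (x * w⁻¹).val < 64 := T.mem.1 (by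
    have := mul_mem (mul_mem hm h2) (Q_normal.conj_mem _ (inv_mem hm) (ψ w))
    rw [map_mul, map_inv, hx]
    simpa [mul_assoc] using this)
  obtain ⟨c, d⟩ := t_cen y hy _ a
  have c' := congrArg ψ c
  have d' := congrArg ψ d
  simp only [map_mul, map_inv, T.hp] at c' d'
  rw [← hx]
  generalize ψ x = x at *
  generalize ψ w = w at *
  generalize ψ y * ψ y = e at *
  have i : w * (p * p) = p * p * w := (Commute.mul_right ht ht).eq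
  constructor
  · calc x * (p * p) = x * w⁻¹ * (w * (p * p)) := by group
      _ = _ := by rw [i, ← mul_assoc, d']; group
  · calc x * e * x⁻¹ = x * w⁻¹ * (w * e * w⁻¹) * (x * w⁻¹)⁻¹ := by group
      _ = _ := by rw [h1, ← mul_assoc _ e, c', mul_assoc e, d', ← mul_assoc, mul_inv_cancel_right]

end CL.StdO
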