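/- Groups with a normal subgroup `4·L3(4)`. -/
import Cfsg.Agent.INV.STD.OnA

set_option autoImplicit false

namespace CL.StdO

open CL.ONU Subgroup CL.CE

/-- a group with a normal subgroup `4·L3(4)` -/
structure Sx (X : Type*) [Group X] where
  L : Subgroup X
  ρ : X →* A
  ζ : X
  nrm : L.Normal
  mem : ∀ {x}, x ∈ L → ρ x ∈ Q
  ker : ∀ {x}, x ∈ L → ρ x = 1 → x ∈ zpowers ζ
  ζL : ζ ∈ L
  ρζ : ρ ζ = 1
  ord : orderOf ζ = 4
  sur : ∀ u ∈ Q, ∃ x ∈ L, ρ x = u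
  cen : ∀ {c x}, ρ c = 1 → x ∈ L → c * x = x * c

namespace Sx

variable {X : Type*} [Group X] (S : Sx X)

/-- the central involution -/
def z : X := S.ζ * S.ζ

theorem zz : S.z * S.z = 1 := by
  have := pow_orderOf_eq_one S.ζ
  rw [S.ord] at this
  rw [z, ← this, ← sq, ← sq, ← pow_mul]

theorem z_ne : S.z ≠ 1 := fun e => by
  have := orderOf_dvd_of_pow_eq_one ((sq _).trans e)
  rw [S.ord] at this
  omega

theorem ρz : S.ρ S.z = 1 := by rw [z, map_mul, S.ρζ, mul_one]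

theorem zL : S.z ∈ S.L := mul_mem S.ζL S.ζL

theorem inv_ζ : S.ζ⁻¹ = S.ζ * S.z :=
  (eq_inv_of_mul_eq_one_right ((mul_assoc _ _ _).symm.trans S.zz)).symm

theorem ne_inv : S.ζ ≠ S.ζ⁻¹ := fun e => S.z_ne (mul_eq_one_iff_eq_inv.2 e)

variable {S}

theorem ker4 {c : X} (hc : c ∈ S.L) (h : S.ρ c = 1) : c = 1 ∨ c = S.ζ ∨ c = S.z ∨ c = S.ζ⁻¹ := by
  classical
  have := (IsOfFinOrder.mem_zpowers_iff_mem_range_orderOf (orderOf_pos_iff.1
    (by rw [S.ord]; norm_num))).1 (S.ker hc h)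
  simp only [S.ord, Finset.mem_image, Finset.mem_range] at this
  obtain ⟨i, hi, rfl⟩ := this
  interval_cases i <;> simp [S.inv_ζ, z, pow_succ, mul_assoc]

theorem dec {a : X} (h : S.ρ a ∈ Q) : ∃ l ∈ S.L, ∃ k, S.ρ k = 1 ∧ a = l * k :=
  let ⟨l, hl, e⟩ := S.sur _ h
  ⟨l, hl, l⁻¹ * a, by simp [e], by simp⟩

theorem cen' {c a : X} (hc : c ∈ S.L) (h : S.ρ c = 1) (ha : S.ρ a ∈ Q) : c * a = a * c := by
  obtain ⟨l, hl, k, hk, rfl⟩ := dec ha
  exact Commute.mul_right (S.cen h hl) (S.cen hk hc).symm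

theorem sq_ker {c : X} (hc : c ∈ S.L) (h : S.ρ c = 1) : c * c = 1 ∨ c * c = S.z := by
  rcases ker4 hc h with rfl | rfl | rfl | rfl
  exacts [.inl (one_mul _), .inr rfl, .inl S.zz,
    .inr ((mul_inv_rev _ _).symm.trans (inv_eq_of_mul_eq_one_right S.zz))]

theorem pow4 {c : X} (hc : c ∈ S.L) (h : S.ρ c = 1) : c * c * (c * c) = 1 := by
  rcases sq_ker hc h with e | e <;> rw [e]
  exacts [one_mul _, S.zz]

theorem inv_ker {c : X} (hc : c ∈ S.L) (h : S.ρ c = 1) (h2 : c * c = 1) : c = 1 ∨ c = S.z := by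
  rcases ker4 hc h with rfl | rfl | rfl | rfl
  exacts [.inl rfl, absurd h2 S.z_ne, .inr rfl,
    absurd (inv_eq_one.1 ((mul_inv_rev _ _).trans h2)) S.z_ne]

theorem conj_ζ (g : X) : Nm g S.ζ := by
  have a : ¬ g * S.ζ * g⁻¹ * (g * S.ζ * g⁻¹) = 1 := fun e => S.z_ne (by
    rwa [conj_mul, conj_eq_one_iff] at e)
  rcases ker4 (c := g * S.ζ * g⁻¹) (S.nrm.conj_mem _ S.ζL g) (by simp [S.ρζ]) with e | e | e | e
  exacts [absurd (by rw [e, one_mul]) a, .inl e, absurd (by rw [e, S.zz]) a, .inr e]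

theorem z_cen (g : X) : g * S.z = S.z * g := by
  rw [← mul_inv_eq_iff_eq_mul, z, ← conj_mul]
  rcases conj_ζ (S := S) g with e | e <;> rw [e]
  exact (mul_inv_rev _ _).symm.trans (inv_eq_of_mul_eq_one_right S.zz)

theorem eq_mul {a b : X} (h : S.ρ a = S.ρ b) : ∃ c, S.ρ c = 1 ∧ a = b * c :=
  ⟨b⁻¹ * a, by simp [h], by simp⟩

theorem eq_mulL {a b : X} (ha : a ∈ S.L) (hb : b ∈ S.L) (h : S.ρ a = S.ρ b) :
    ∃ c ∈ S.L, S.ρ c = 1 ∧ a = b * c :=
  ⟨b⁻¹ * a, mul_mem (inv_mem hb) ha, by simp [h], by simp⟩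

theorem comm_of {a b a' b' : X} (ha : a ∈ S.L) (hb : b ∈ S.L) (hb' : b' ∈ S.L) (h1 : S.ρ a' = S.ρ a)
    (h2 : S.ρ b' = S.ρ b) (h : a * b = b * a) : a' * b' = b' * a' := by
  obtain ⟨c, hc, rfl⟩ := eq_mul h1
  obtain ⟨d, -, hd, rfl⟩ := eq_mulL hb' hb h2
  exact (Commute.mul_right h (S.cen hd ha).symm).mul_left (S.cen hc hb')

theorem comm_sq {p q : X} (hp : p ∈ S.L) (hq : q ∈ S.L) (h : Pair (S.ρ p) (S.ρ q)) :
    p * p * (q * q) = q * q * (p * p) := by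
  obtain ⟨c, cL, hc, e⟩ := eq_mulL (mul_mem hp hq) (mul_mem hq hp) (by rw [map_mul, map_mul, h.comm])
  have a := S.cen hc hp
  have b := S.cen hc hq
  have d : ∀ x, p * (q * x) = q * (p * (c * x)) := fun x => by simp only [← mul_assoc, e]
  have a' : ∀ x, c * (p * x) = p * (c * x) := fun x => by simp only [← mul_assoc, a]
  have b' : ∀ x, c * (q * x) = q * (c * x) := fun x => by simp only [← mul_assoc, b]
  have := pow4 cL hc
  rw [mul_assoc] at this
  rw [← mul_one (p * p * (q * q))]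
  simp only [mul_assoc, d, a', b']
  rw [mul_one, this, mul_one]

theorem sq_lift {x : X} (hx : x ∈ S.L) (h : S.ρ x * S.ρ x = 1) : x * x = 1 ∨ x * x = S.z := by
  refine inv_ker (mul_mem hx hx) (by rw [map_mul, h]) ?_
  by_cases h1 : S.ρ x = 1
  · exact pow4 hx h1
  obtain ⟨p, hp', hp⟩ := S.sur _ P1_mem
  obtain ⟨q, hq', hq⟩ := S.sur _ q1_mem
  have e : Pair (S.ρ p) (S.ρ q) := by rw [hp, hq]; exact pair1
  have a : ∀ y ∈ S.L, S.ρ y ≠ 1 → S.ρ y * S.ρ y = 1 →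
      y * y * (y * y) = p * p * (p * p) * (p * p * (p * p)) := fun y hy h1 h2 => by
    obtain ⟨m, hm, f⟩ := conj_v1 (S.mem hy) h1 h2
    obtain ⟨m, hm', rfl⟩ := S.sur m hm
    obtain ⟨c, cL, hc, g⟩ := eq_mulL (mul_mem hp' hp') (S.nrm.conj_mem y hy m) (by simp [hp, f, P1_sq])
    have k : S.ρ (y * y) = 1 := by rw [map_mul, h2]
    have l : m * y * m⁻¹ * c * (m * y * m⁻¹ * c) = y * y * (c * c) := by
      rw [Commute.mul_mul_mul_comm (S.cen hc (S.nrm.conj_mem y hy m)), conj_mul,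
        ← S.cen k hm', mul_inv_cancel_right]
    rw [g, l, Commute.mul_mul_mul_comm (S.cen (by rw [map_mul, hc, mul_one]) (mul_mem hy hy)),
      pow4 cL hc, mul_one]
  have b := a (p * p * (q * q)) (mul_mem (mul_mem hp' hp') (mul_mem hq' hq'))
    (by simpa only [map_mul] using e.pq) (by
      simp only [map_mul]
      have t : Commute (S.ρ q) (S.ρ p) := e.comm.symm
      rw [((t.mul_left t).mul_right (t.mul_left t)).mul_mul_mul_comm, e.p4, e.q4, one_mul])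
  have c := comm_sq hp' hq' e
  rw [Commute.mul_mul_mul_comm c.symm, Commute.mul_mul_mul_comm
    ((Commute.mul_left c.symm c.symm).mul_right (Commute.mul_left c.symm c.symm)),
    a (q * q) (mul_mem hq' hq') (by simpa only [map_mul] using e.q2)
      (by simpa only [map_mul] using e.q4)] at b
  rw [a x hx h1 h]
  exact mul_eq_left.1 b

theorem lift_inv {u : A} (hu : u ∈ Q) (h : u * u = 1) : ∃ x ∈ S.L, S.ρ x = u ∧ x * x = 1 := by
  obtain ⟨x, hx, rfl⟩ := S.sur u hu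
  rcases sq_lift hx h with e | e
  · exact ⟨x, hx, rfl, e⟩
  · exact ⟨x * S.ζ, mul_mem hx S.ζL, by rw [map_mul, S.ρζ, mul_one],
      by rw [Commute.mul_mul_mul_comm (S.cen S.ρζ hx), e]; exact S.zz⟩

theorem chi0 {a b : X} (ha : S.ρ a ∈ Q) (a2 : a * a = 1) (b2 : b * b = 1) (h : S.ρ b = S.ρ a)
    (hL : a⁻¹ * b ∈ S.L) : b = a ∨ b = a * S.z := by
  have hc : S.ρ (a⁻¹ * b) = 1 := by simp [h]
  have e : b = a * (a⁻¹ * b) := by simp
  generalize a⁻¹ * b = c at *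
  rw [e, Commute.mul_mul_mul_comm (cen' hL hc ha), a2, one_mul] at b2
  rcases inv_ker hL hc b2 with rfl | rfl
  exacts [.inl (e.trans (mul_one _)), .inr e]

theorem chi {x r : X} (hx : S.ρ x ∈ Q) (h2 : x * x = 1) (hL : r ∈ S.L ∨ x ∈ S.L)
    (h : S.ρ r * S.ρ x = S.ρ x * S.ρ r) : r * x * r⁻¹ = x ∨ r * x * r⁻¹ = x * S.z := by
  refine chi0 hx h2 (by rw [conj_mul, h2, mul_one, mul_inv_cancel]) (by simp [h]) ?_
  rcases hL with hL | hL
  · have := mul_mem (S.nrm.conj_mem' _ hL x) (inv_mem hL)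
    simpa only [mul_assoc] using this
  · exact mul_mem (inv_mem hL) (S.nrm.conj_mem _ hL r)

theorem chi2 {x r s : X} (h1 : r * x * r⁻¹ = x * S.z) (h2 : s * x * s⁻¹ = x * S.z) :
    r * s * x * (r * s)⁻¹ = x := by
  calc _ = r * (s * x * s⁻¹) * r⁻¹ := by group
    _ = _ := by rw [h2, ← conj_mul, h1, z_cen r, mul_inv_cancel_right, mul_assoc, S.zz, mul_one]

theorem exists_comm_conj {x : X} (hx : S.ρ x ∉ Q) (h2 : x * x = 1) :
    ∃ u ∈ S.L, S.ρ (x * (u * x * u⁻¹)) ≠ 1 ∧ x * (u * x * u⁻¹) * (x * (u * x * u⁻¹)) = 1 := by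
  obtain ⟨_, _, e, H⟩ := outer_inv hx (by rw [← map_mul, h2, map_one])
  obtain ⟨p, hp, rfl⟩ := S.sur _ e.hp
  obtain ⟨q, hq, rfl⟩ := S.sur _ e.hq
  have hpp := mul_mem hp hp
  have hqq := mul_mem hq hq
  have c := comm_sq hp hq e
  have xi : x⁻¹ = x := inv_eq_of_mul_eq_one_right h2
  have mL : ∀ u ∈ S.L, x * (u * x * u⁻¹) ∈ S.L := fun u hu => by
    have := mul_mem (S.nrm.conj_mem _ hu x) (inv_mem hu)
    rwa [xi, mul_assoc x, mul_assoc x] at this
  rcases H with H | ⟨H1, H2⟩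
  · refine ⟨q * q, hqq, fun f => e.p2 ?_, ?_⟩
    · rwa [← mul_assoc, ← mul_assoc, map_mul, map_mul, map_mul, map_inv, map_mul, H,
        mul_inv_cancel_right] at f
    · have a : x * (q * q) * x * (q * q) = q * q * (x * (q * q) * x) :=
        comm_of (mul_mem hpp hqq) hqq hqq (by simpa only [map_mul] using H) rfl
          (Commute.mul_left c rfl)
      have b : q * q * (q * q) * x = x * (q * q * (q * q)) := by
        rcases sq_lift hqq (by simpa only [map_mul] using e.q4) with f | f <;> rw [f]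
        exacts [(one_mul _).trans (mul_one _).symm, (z_cen x).symm]
      generalize q * q = y at a b
      have a' : Commute (x * y * x) y⁻¹ := Commute.inv_right a
      calc _ = x * y * x * y⁻¹ * (x * y * x * y⁻¹) := by simp only [mul_assoc]
        _ = x * (y * (x * x) * y * x) * (y * y)⁻¹ := by
          rw [a'.symm.mul_mul_mul_comm, mul_inv_rev]; simp only [mul_assoc]
        _ = 1 := by rw [h2, mul_one, b, ← mul_assoc, ← mul_assoc, h2, one_mul, mul_inv_cancel]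
  · have k : ∀ {u v}, Pair (S.ρ u) v → S.ρ x * S.ρ u * S.ρ x * S.ρ u = 1 →
        S.ρ (x * (u * x * u⁻¹)) = S.ρ (u * u) := fun {u v} e H => by
      rw [map_mul _ u, eq_inv_of_mul_eq_one_left e.p4, map_mul, map_mul, map_mul, ← mul_assoc,
        ← mul_assoc, eq_inv_of_mul_eq_one_left H, map_inv, mul_inv_rev]
    have k1 := k e H1
    have k2 := k (Pair.symm' e) H2
    rcases sq_lift (mL p hp) (by simpa only [k1, map_mul] using e.p4) with f1 | f1
    · exact ⟨p, hp, by simpa only [k1, map_mul] using e.p2, f1⟩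
    rcases sq_lift (mL q hq) (by simpa only [k2, map_mul] using e.q4) with f2 | f2
    · exact ⟨q, hq, by simpa only [k2, map_mul] using e.q2, f2⟩
    have g : x * (p * q * x * (p * q)⁻¹) = x * (p * x * p⁻¹) * (p * (x * (q * x * q⁻¹)) * p⁻¹) := by
      calc _ = x * p * (x * x) * (q * x * q⁻¹) * p⁻¹ := by rw [h2]; group
        _ = _ := by group
    have k3 : S.ρ (p * (x * (q * x * q⁻¹)) * p⁻¹) = S.ρ (q * q) := by
      rw [map_mul, map_mul _ p, k2, map_mul, map_inv, Commute.mul_right e.comm e.comm,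
        mul_inv_cancel_right]
    refine ⟨p * q, mul_mem hp hq, ?_, ?_⟩ <;> rw [g]
    · simpa only [k1, k3, map_mul] using e.pq
    · rw [Commute.mul_mul_mul_comm (comm_of hpp hqq (S.nrm.conj_mem _ (mL q hq) p) k1 k3 c).symm,
        conj_mul, f1, f2, z_cen p, mul_inv_cancel_right, S.zz]

/-- the involutions of `L` outside the centre are conjugate -/
theorem conj_inv {x s a : X} (hx : x ∈ S.L) (x1 : S.ρ x ≠ 1) (x2 : x * x = 1) (hs : s ∈ S.L)
    (h : s * x * s⁻¹ = x * S.z) (ha : a ∈ S.L) (a1 : S.ρ a ≠ 1) (a2 : a * a = 1) :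
    ∃ l ∈ S.L, l * a * l⁻¹ = x := by
  obtain ⟨m, hm, e⟩ := conj_v1 (S.mem hx) x1 (by rw [← map_mul, x2, map_one])
  obtain ⟨n, hn, f⟩ := conj_v1 (S.mem ha) a1 (by rw [← map_mul, a2, map_one])
  obtain ⟨l, hl, g⟩ := S.sur _ (mul_mem (inv_mem hm) hn)
  rcases chi0 (b := l * a * l⁻¹) (S.mem hx) x2 (by rw [conj_mul, a2, mul_one, mul_inv_cancel]) (by
    rw [map_mul, map_mul, map_inv, g, ← mul_right_inj m, ← mul_left_inj m⁻¹, e, ← f]
    group) (mul_mem (inv_mem hx) (S.nrm.conj_mem _ ha l)) with k | k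
  · exact ⟨l, hl, k⟩
  · refine ⟨s⁻¹ * l, mul_mem (inv_mem hs) hl, ?_⟩
    calc _ = s⁻¹ * (l * a * l⁻¹) * s := by group
      _ = _ := by rw [k, ← h]; group

end Sx

end CL.StdO
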