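/- Conjugates of a standard subgroup `4·L3(4)`. -/
import Cfsg.Agent.INV.STD.OnB
import Cfsg.Agent.INV.STD.Even

set_option autoImplicit false

namespace CL.StdO

open CL.ONU Subgroup CL.StdE

variable {X G : Type*} [Group X] [Group G]

theorem Nm.map {a p : X} (h : Nm a p) (f : X →* G) : Nm (f a) (f p) :=
  h.imp (fun e => by rw [← map_inv, ← map_mul, ← map_mul, e]) fun e => by
    rw [← map_inv, ← map_mul, ← map_mul, e, map_inv]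

theorem Nm.of_map {a p : X} {f : X →* G} (hf : Function.Injective f) (h : Nm (f a) (f p)) : Nm a p :=
  h.imp (fun e => hf (by rw [map_mul, map_mul, map_inv, e])) fun e =>
    hf (by rw [map_mul, map_mul, map_inv, e, map_inv])

theorem Nm.mul {a b p : X} (h1 : Nm a p) (h2 : Nm b p) : Nm (a * b) p := by
  have e : a * b * p * (a * b)⁻¹ = a * (b * p * b⁻¹) * a⁻¹ := by group
  rcases h2 with h2 | h2 <;> rw [Nm, e, h2]
  · exact h1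
  · rw [← conj_inv]
    rcases h1 with h1 | h1 <;> simp [h1]

/-- the family of identifications of `X` with the centralizers of the conjugates of an involution -/
structure Fam (S : Sx X) (P : (X →* G) → Prop) : Prop where
  inj : ∀ {ι}, P ι → Function.Injective ι
  rng : ∀ {ι}, P ι → ∀ {g}, g * ι S.z = ι S.z * g → ∃ x, ι x = g
  conj : ∀ {ι}, P ι → ∀ g, P (cj g ι)
  tr : ∀ {ι κ}, P ι → P κ → ∃ g, κ = cj g ι
  ti : ∀ {ι κ}, P ι → P κ → ∀ {a b}, S.ρ a = 1 → S.ρ b = 1 → ι a = κ b → a * a = 1 →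
    a = 1 ∨ ι S.z = κ S.z

variable {S : Sx X} {P : (X →* G) → Prop} {ι κ μ : X →* G} {y : X}

theorem Fam.nm (F : Fam S P) (h : P κ) {g : G} (hg : g * κ S.z = κ S.z * g) : Nm g (κ S.ζ) := by
  obtain ⟨t, rfl⟩ := F.rng h hg
  exact (Sx.conj_ζ t).map κ

theorem sq_eq (hy : ι y = κ S.ζ) : ι (y * y) = κ S.z := by rw [map_mul, hy, Sx.z, map_mul]

theorem Fam.zz (κ : X →* G) : κ S.z * κ S.z = 1 := by rw [← map_mul, S.zz, map_one]

theorem Fam.zne (F : Fam S P) (h : P κ) : κ S.z ≠ 1 := (map_eq_one_iff _ (F.inj h)).not.2 S.z_ne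

theorem Fam.ne_inv (F : Fam S P) (h : P κ) : κ S.ζ ≠ (κ S.ζ)⁻¹ := fun e =>
  S.ne_inv (F.inj h (by rw [map_inv, ← e]))

theorem Fam.nmX (F : Fam S P) (h1 : P ι) (h2 : P κ) (hy : ι y = κ S.ζ) {g : X}
    (hg : g * (y * y) * g⁻¹ = y * y) : Nm g y :=
  Nm.of_map (F.inj h1) (hy ▸ F.nm h2 (by
    rw [← sq_eq hy, ← map_mul, mul_inv_eq_iff_eq_mul.1 hg, map_mul ι _ g]))

theorem Fam.sq4 (F : Fam S P) (h1 : P ι) (hy : ι y = κ S.ζ) : y * y * (y * y) = 1 :=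
  F.inj h1 (by rw [map_mul, sq_eq hy, Fam.zz, map_one])

theorem Fam.ρ_ne (F : Fam S P) (h1 : P ι) (h2 : P κ) (ne : ι S.z ≠ κ S.z) {x : X} (hx : ι x = κ S.z) :
    S.ρ x ≠ 1 := fun e =>
  (F.ti h1 h2 e S.ρz hx (F.inj h1 (by rw [map_mul, hx, Fam.zz, map_one]))).elim
    (fun f => F.zne h2 (by rw [← hx, f, map_one])) ne

theorem Fam.lemA (F : Fam S P) (h1 : P ι) (h2 : P κ) (ne : ι S.z ≠ κ S.z) (hy : ι y = κ S.ζ) :
    y * y ∈ S.L ∧ S.ρ y ∈ Q := by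
  have a := F.sq4 h1 hy
  have a' : S.ρ y * S.ρ y * (S.ρ y * S.ρ y) = 1 := by simpa only [map_mul, map_one] using congrArg S.ρ a
  obtain ⟨r, hr, s, hs, r1, s1, H⟩ := root_cases (y := S.ρ y)
    (map_mul S.ρ y y ▸ F.ρ_ne h1 h2 ne (sq_eq hy)) a'
  obtain ⟨r, rL, rfl⟩ := S.sur r hr
  obtain ⟨s, sL, rfl⟩ := S.sur s hs
  have q : S.ρ (y * y) ∈ Q := map_mul S.ρ y y ▸ sq_mem (k := 2) (by
    rw [show 2 ^ 2 = 2 * 2 from rfl, pow_mul, sq, sq, a'])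
  have key : ∀ t ∈ S.L, S.ρ t ∈ [S.ρ r, S.ρ s, S.ρ r * S.ρ s] → t * (y * y) * t⁻¹ = y * y →
      y * y ∈ S.L ∧ S.ρ y ∈ Q := fun t tL ht e => by
    obtain ⟨b, c⟩ := H _ ht
    have d := (F.nmX h1 h2 hy e).resolve_left fun f => b (by
      rw [← map_mul, mul_inv_eq_iff_eq_mul.1 f, map_mul])
    refine ⟨?_, c.resolve_right fun f => f (by rw [← map_inv, ← map_mul, ← map_mul, d, map_inv])⟩
    have := mul_mem (S.nrm.conj_mem _ tL y) (inv_mem tL)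
    rwa [mul_assoc y, mul_assoc y, conj_inv.symm, d, inv_inv] at this
  rw [← map_mul] at r1 s1
  rcases Sx.chi q a (.inl rL) r1 with e | e
  · exact key r rL (by simp) e
  rcases Sx.chi q a (.inl sL) s1 with f | f
  · exact key s sL (by simp) f
  exact key _ (mul_mem rL sL) (by simp) (Sx.chi2 e f)

/-- a pair of the first type -/
structure T1 (S : Sx X) (P : (X →* G) → Prop) (ι κ : X →* G) : Prop where
  F : Fam S P
  h1 : P ι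
  h2 : P κ
  ne : ι S.z ≠ κ S.z
  comm : ι S.ζ * κ S.ζ = κ S.ζ * ι S.ζ

theorem T1.symm (h : T1 S P ι κ) : T1 S P κ ι := ⟨h.F, h.h2, h.h1, h.ne.symm, h.comm.symm⟩

theorem Fam.t1 (F : Fam S P) (h1 : P ι) (h2 : P κ) (ne : ι S.z ≠ κ S.z)
    (h : κ S.ζ * ι S.z = ι S.z * κ S.ζ) : T1 S P ι κ := by
  obtain ⟨y, hy⟩ := F.rng h1 h
  refine ⟨F, h1, h2, ne, ?_⟩
  rw [← hy, ← map_mul, Sx.cen' S.ζL S.ρζ (F.lemA h1 h2 ne hy).2, map_mul]

namespace T1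

theorem ex (h : T1 S P ι κ) : ∃ y, ι y = κ S.ζ :=
  h.F.rng h.h1 (by rw [Sx.z, map_mul]; exact Commute.mul_right h.comm.symm h.comm.symm)

variable (h : T1 S P ι κ) (hy : ι y = κ S.ζ)
include h hy

theorem mL : y * y ∈ S.L := (h.F.lemA h.h1 h.h2 h.ne hy).1
theorem mQ : S.ρ y ∈ Q := (h.F.lemA h.h1 h.h2 h.ne hy).2
theorem ρ2 : S.ρ (y * y) ≠ 1 := h.F.ρ_ne h.h1 h.h2 h.ne (sq_eq hy)
theorem y4 : y * y * (y * y) = 1 := h.F.sq4 h.h1 hy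
theorem ρ4 : S.ρ y * S.ρ y * (S.ρ y * S.ρ y) = 1 := by
  simpa only [map_mul, map_one] using congrArg S.ρ (h.y4 hy)
theorem nm {g : X} (hg : g * (y * y) * g⁻¹ = y * y) : Nm g y := h.F.nmX h.h1 h.h2 hy hg

theorem pair : ∃ b, Pair (S.ρ y) b := exists_pair (h.mQ hy) (map_mul S.ρ y y ▸ h.ρ2 hy) (h.ρ4 hy)

/-- lifting commutation with `y` -/
theorem lift {g : X} (hg : g * (y * y) * g⁻¹ = y * y) (e : S.ρ g * S.ρ y = S.ρ y * S.ρ g) :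
    g * y = y * g := by
  refine mul_inv_eq_iff_eq_mul.1 ((h.nm hy hg).resolve_right fun f => h.ρ2 hy ?_)
  have := congrArg S.ρ f
  rw [map_mul, map_mul, map_inv, e, mul_inv_cancel_right, map_inv] at this
  rw [map_mul, mul_eq_one_iff_eq_inv, ← this]

theorem s_act {b : A} (e : Pair (S.ρ y) b) {s : X} (hs : s ∈ S.L)
    (f : S.ρ s * S.ρ y * (S.ρ s)⁻¹ = b * b * S.ρ y) : s * (y * y) * s⁻¹ = y * y * S.z := by
  have c : Commute (S.ρ y) (b * b) := Commute.mul_right e.comm e.comm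
  refine (Sx.chi (S.mem (h.mL hy)) (h.y4 hy) (.inl hs) ?_).resolve_left fun g => ?_
  · rw [← mul_inv_eq_iff_eq_mul, map_mul, ← conj_mul, f, c.mul_mul_mul_comm, e.q4, one_mul]
  · rcases (h.nm hy g).map S.ρ with k | k <;> rw [f] at k
    · exact e.q2 (mul_eq_right.1 k)
    · refine e.pq ?_
      rw [mul_assoc, c.eq, k, mul_inv_cancel]

theorem f3 : ∃ s ∈ S.L, s * (y * y) * s⁻¹ = y * y * S.z := by
  obtain ⟨b, e⟩ := h.pair hy
  obtain ⟨s, hs, f, -⟩ := exists_s e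
  obtain ⟨s, sL, rfl⟩ := S.sur s hs
  exact ⟨s, sL, h.s_act hy e sL f⟩

theorem conjL {a : X} (ha : a ∈ S.L) (a1 : S.ρ a ≠ 1) (a2 : a * a = 1) :
    ∃ l ∈ S.L, l * a * l⁻¹ = y * y :=
  let ⟨_, hs, e⟩ := h.f3 hy
  Sx.conj_inv (h.mL hy) (h.ρ2 hy) (h.y4 hy) hs e ha a1 a2

end T1

theorem Fam.t1L (F : Fam S P) (h1 : P ι) (h2 : P μ) {a : X} (ha : a ∈ S.L) (a1 : S.ρ a ≠ 1)
    (e : μ S.z = ι a) : T1 S P ι μ :=
  (F.t1 h2 h1 (fun f => a1 (F.inj h1 (e.symm.trans f) ▸ S.ρz)) (by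
    rw [e, ← map_mul, S.cen S.ρζ ha, map_mul])).symm

theorem T1.chartL (h : T1 S P ι κ) {a : X} (ha : a ∈ S.L) (a1 : S.ρ a ≠ 1) (a2 : a * a = 1) :
    ∃ μ, T1 S P ι μ ∧ μ S.z = ι a := by
  obtain ⟨y, hy⟩ := h.ex
  obtain ⟨l, -, e⟩ := h.conjL hy ha a1 a2
  have f : cj (ι l⁻¹) κ S.z = ι a := by
    rw [cj_apply, ← sq_eq hy, ← e, ← map_inv, ← map_mul, ← map_mul]; congr 1; group
  exact ⟨_, h.F.t1L h.h1 (h.F.conj h.h2 _) ha a1 f, f⟩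

theorem Fam.inv_of (F : Fam S P) (h1 : P ι) (h2 : P κ) (ne : ι S.z ≠ κ S.z)
    (c : ι S.z * κ S.z = κ S.z * ι S.z) (h : ¬ T1 S P ι κ) :
    ι S.z * κ S.ζ * (ι S.z)⁻¹ = (κ S.ζ)⁻¹ :=
  (F.nm h2 c).resolve_left fun e => h (F.t1 h1 h2 ne (mul_inv_eq_iff_eq_mul.1 e).symm)

theorem Fam.exists_t1 (F : Fam S P) (h1 : P ι) (h2 : P κ) (ne : ι S.z ≠ κ S.z)
    (c : ι S.z * κ S.z = κ S.z * ι S.z) : ∃ μ, T1 S P ι μ := by
  by_cases h : T1 S P ι κ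
  · exact ⟨κ, h⟩
  have i1 := F.inv_of h1 h2 ne c h
  have i2 := F.inv_of h2 h1 ne.symm c.symm fun e => h e.symm
  obtain ⟨x, hx⟩ := F.rng h1 c.symm
  have x2 : x * x = 1 := F.inj h1 (by rw [map_mul, hx, Fam.zz, map_one])
  have xi : x * S.ζ * x⁻¹ = S.ζ⁻¹ := F.inj h1 (by rw [map_mul, map_mul, map_inv, hx, i2, map_inv])
  obtain ⟨u, uL, u1, u2⟩ := Sx.exists_comm_conj (S := S) (x := x) (fun e => S.ne_inv (by
    rw [← xi, ← Sx.cen' S.ζL S.ρζ e, mul_inv_cancel_right])) x2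
  have xx : x⁻¹ = x := inv_eq_of_mul_eq_one_right x2
  have wL : x * (u * x * u⁻¹) ∈ S.L := by
    have := mul_mem (S.nrm.conj_mem _ uL x) (inv_mem uL)
    rwa [xx, mul_assoc x, mul_assoc x] at this
  have v2 : u * x * u⁻¹ * (u * x * u⁻¹) = 1 := by rw [conj_mul, x2, mul_one, mul_inv_cancel]
  have d : S.ζ * u * x * (S.ζ * u)⁻¹ = u * x * u⁻¹ * S.z := by
    have : u * x * u⁻¹ * S.ζ * (u * x * u⁻¹)⁻¹ = S.ζ⁻¹ := by
      have k := S.cen S.ρζ uL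
      calc _ = u * x * (u⁻¹ * (S.ζ * u)) * x⁻¹ * u⁻¹ := by group
        _ = u * (x * S.ζ * x⁻¹) * u⁻¹ := by rw [k]; group
        _ = _ := by rw [xi, ← conj_inv, ← k, mul_inv_cancel_right]
    calc _ = S.ζ * (u * x * u⁻¹ * S.ζ * (u * x * u⁻¹)⁻¹)⁻¹ * (u * x * u⁻¹) := by group
      _ = _ := by rw [this, inv_inv, Sx.z_cen]; rfl
  have e : ∀ v : X, ι (v * x * v⁻¹) = cj (ι v) κ S.z := fun v => by
    rw [cj_apply, ← hx, map_mul, map_mul, map_inv]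
  have e1 := e u
  have e2 := e (S.ζ * u)
  rw [d] at e2
  generalize u * x * u⁻¹ = v at *
  have c' : x * v = v * x := by
    rw [eq_inv_of_mul_eq_one_left u2, mul_inv_rev, xx, inv_eq_of_mul_eq_one_right v2]
  have k : κ S.ζ * ι S.z * (κ S.ζ)⁻¹ = ι x * ι S.z := by
    calc _ = κ S.ζ * (ι S.z * κ S.ζ * (ι S.z)⁻¹)⁻¹ * ι S.z := by group
      _ = _ := by rw [i1, inv_inv, hx, Sx.z, map_mul κ]
  have key : ∀ w ∈ S.L, S.ρ w ≠ 1 → ∀ g, ι w * κ S.ζ = κ S.ζ * ι w → ι (w * x * S.z) = cj g κ S.z →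
      ∃ μ, T1 S P ι μ := fun w wL w1 g f1 f2 =>
    ⟨cj (κ S.ζ)⁻¹ (cj g κ), F.t1L h1 (F.conj (F.conj h2 _) _) (mul_mem wL S.zL)
      (by rwa [map_mul, S.ρz, mul_one]) (by
        rw [cj_apply, ← f2, map_mul, map_mul, map_mul, mul_assoc (ι w), ← k]
        calc _ = (κ S.ζ)⁻¹ * (ι w * κ S.ζ) * ι S.z := by group
          _ = _ := by rw [f1]; group)⟩
  have n : x * v * x = v := by rw [c', mul_assoc, x2, mul_one]
  rcases F.nm h2 (g := ι (x * v)) (by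
    rw [← hx, ← map_mul, ← map_mul, n, ← mul_assoc, x2, one_mul]) with f | f
  · exact key _ wL u1 _ (mul_inv_eq_iff_eq_mul.1 f) (by rw [n, e2])
  · refine key _ (mul_mem wL S.zL) (by rwa [map_mul, S.ρz, mul_one]) (ι u) ?_ ?_
    · rw [← mul_inv_eq_iff_eq_mul, map_mul]
      calc _ = ι (x * v) * (ι S.z * κ S.ζ * (ι S.z)⁻¹) * (ι (x * v))⁻¹ := by group
        _ = _ := by rw [i1, conj_inv.symm, f, inv_inv]
    · rw [mul_assoc (x * v), ← Sx.z_cen, ← mul_assoc, n, mul_assoc, S.zz, mul_one, e1]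

end CL.StdO
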