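/- Triples of conjugates of a standard subgroup `4·L3(4)`. -/
import Cfsg.Agent.INV.STD.OnC

set_option autoImplicit false

namespace CL.StdO

open CL.ONU Subgroup CL.StdE

variable {X G : Type*} [Group X] [Group G]
variable {S : Sx X} {P : (X →* G) → Prop} {ι κ μ : X →* G} {y w : X}

theorem T1.cz (h : T1 S P ι κ) : ι S.z * κ S.z = κ S.z * ι S.z := by
  simp only [Sx.z, map_mul]
  exact ((Commute.mul_left h.comm h.comm).mul_right (Commute.mul_left h.comm h.comm)).eq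

theorem T1.cenK (h : T1 S P ι κ) (hy : ι y = κ S.ζ) {k : X} (hk : S.ρ k = 1) : k * y = y * k :=
  h.lift hy (by rw [S.cen hk (h.mL hy), mul_inv_cancel_right]) (by rw [hk, one_mul, mul_one])

/-- three independent charts -/
structure Tri (S : Sx X) (P : (X →* G) → Prop) (ι κ μ : X →* G) : Prop where
  a : T1 S P ι κ
  b : T1 S P ι μ
  c : T1 S P κ μ
  ne : ι S.z * κ S.z * μ S.z ≠ 1

theorem Tri.s12 (h : Tri S P ι κ μ) : Tri S P κ ι μ := ⟨h.a.symm, h.c, h.b, h.a.cz ▸ h.ne⟩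

theorem Tri.s23 (h : Tri S P ι κ μ) : Tri S P ι μ κ :=
  ⟨h.b, h.a, h.c.symm, by rw [mul_assoc, ← h.c.cz, ← mul_assoc]; exact h.ne⟩

theorem T1.exists_tri (h : T1 S P ι κ) : ∃ μ, Tri S P ι κ μ := by
  obtain ⟨y, hy⟩ := h.ex
  obtain ⟨b, e⟩ := h.pair hy
  obtain ⟨x, xL, hx, x2⟩ := S.lift_inv (mul_mem e.hq e.hq) e.q4
  obtain ⟨μ, m, f⟩ := h.chartL xL (hx ▸ e.q2) x2
  obtain ⟨p, pL, hp⟩ := S.sur _ e.hp
  obtain ⟨q, qL, rfl⟩ := S.sur _ e.hq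
  have a : y * y * x = x * (y * y) := Sx.comm_of (mul_mem pL pL) (mul_mem qL qL) xL
    (by rw [map_mul, map_mul, hp]) (by rw [hx, map_mul]) (Sx.comm_sq pL qL (hp ▸ e))
  have c := h.lift hy (g := x) (by rw [← a, mul_inv_cancel_right])
    (by rw [hx]; exact (Commute.mul_right e.comm e.comm).symm.eq)
  refine ⟨μ, h, m, (h.F.t1 m.h2 h.h2 (fun g => e.pq ?_) (by rw [f, ← hy, ← map_mul, ← c, map_mul])).symm,
    fun g => e.pq ?_⟩
  · rw [← hx, ← map_mul, h.F.inj h.h1 ((sq_eq hy).trans (g.symm.trans f)), ← map_mul, x2, map_one]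
  · rw [f, ← sq_eq hy, ← map_mul, ← map_mul, map_eq_one_iff _ (h.F.inj h.h1)] at g
    simpa [hx, S.ρz] using congrArg S.ρ g

namespace Tri

variable (h : Tri S P ι κ μ) (hy : ι y = κ S.ζ) (hw : ι w = μ S.ζ)
include h hy hw

theorem comm : y * w = w * y := h.a.F.inj h.a.h1 (by rw [map_mul, map_mul, hy, hw, h.c.comm])

theorem pair : Pair (S.ρ y) (S.ρ w) := by
  refine ⟨h.a.mQ hy, h.b.mQ hw, by rw [← map_mul, h.comm hy hw, map_mul], h.a.ρ4 hy, h.b.ρ4 hw,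
    map_mul S.ρ y y ▸ h.a.ρ2 hy, map_mul S.ρ w w ▸ h.b.ρ2 hw, fun e => ?_⟩
  have c : Commute y w := h.comm hy hw
  have f : ι (y * y * (w * w)) = κ S.z * μ S.z := by rw [map_mul, sq_eq hy, sq_eq hw]
  rcases Sx.inv_ker (mul_mem (h.a.mL hy) (h.b.mL hw)) (by simpa only [map_mul] using e) (by
    rw [((c.mul_left c).mul_right (c.mul_left c)).symm.mul_mul_mul_comm, h.a.y4 hy, h.b.y4 hw,
      one_mul]) with g | g <;> rw [g] at f
  · exact h.c.ne ((eq_inv_of_mul_eq_one_left (f.symm.trans (map_one _))).trans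
      (inv_eq_of_mul_eq_one_right (Fam.zz μ)))
  · exact h.ne (by rw [mul_assoc, ← f, Fam.zz])

theorem exists_t : ∃ t ∈ S.L, t * y * t⁻¹ = y⁻¹ ∧ t * (w * w) * t⁻¹ = w * w * S.z := by
  have e := h.pair hy hw
  obtain ⟨t, ht, t1, t2, t3⟩ := StdO.exists_t e
  obtain ⟨s, hs, s1, -⟩ := exists_s e
  obtain ⟨t, tL, rfl⟩ := S.sur t ht
  obtain ⟨s, sL, rfl⟩ := S.sur s hs
  have a : t * (y * y) * t⁻¹ = y * y := by
    refine (Sx.chi (S.mem (h.a.mL hy)) (h.a.y4 hy) (.inl tL) ?_).resolve_right fun f => ?_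
    · rw [← mul_inv_eq_iff_eq_mul, map_mul, ← conj_mul, t1, ← mul_inv_rev,
        inv_eq_of_mul_eq_one_right e.p4]
    · have g := (h.a.nm hy (Sx.chi2 (h.a.s_act hy e sL s1) f)).map S.ρ
      have k : S.ρ (s * t) * S.ρ y * (S.ρ (s * t))⁻¹ = (S.ρ w * S.ρ w * S.ρ y)⁻¹ := by
        rw [← s1, conj_inv, ← t1, map_mul]; group
      rcases g with g | g <;> rw [k] at g
      · refine e.pq ?_
        rw [mul_eq_one_comm, ← mul_assoc, inv_eq_iff_eq_inv.1 g, inv_mul_cancel]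
      · exact e.q2 (mul_eq_right.1 (inv_injective g))
  refine ⟨t, tL, (h.a.nm hy a).resolve_left fun f => e.p2 ?_, (Sx.chi (S.mem (h.b.mL hw)) (h.b.y4 hw)
    (.inl tL) (by rw [map_mul, t3])).resolve_left fun f => t2 ((h.b.nm hw f).map _)⟩
  rw [mul_eq_one_iff_eq_inv, ← t1, ← map_inv, ← map_mul, ← map_mul, f]

theorem exists_t' : ∃ t, (∃ t' ∈ S.L, ι t = κ t') ∧ t * y = y * t ∧ S.ρ t ∉ Q ∧
    t * (w * w) * t⁻¹ = w * w * (y * y) := by
  obtain ⟨y', hy'⟩ := h.a.symm.ex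
  obtain ⟨w', hw'⟩ := h.c.ex
  obtain ⟨t', tL, t1, t2⟩ := h.s12.exists_t hy' hw'
  have t1 := congrArg κ t1
  have t2 := congrArg κ t2
  simp only [map_mul, map_inv, hy', hw'] at t1 t2
  obtain ⟨t, ht⟩ := h.a.F.rng h.a.h1 (g := κ t') (by
    rw [← mul_inv_eq_iff_eq_mul, Sx.z, map_mul, ← conj_mul, t1, ← mul_inv_rev, ← map_mul]
    exact inv_eq_of_mul_eq_one_right (Fam.zz ι))
  have i := h.a.F.inj h.a.h1
  refine ⟨t, ⟨t', tL, ht⟩, i (by rw [map_mul, map_mul, ht, hy, ← map_mul, ← S.cen S.ρζ tL, map_mul]),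
    fun e => h.a.F.ne_inv h.a.h1 ?_, i ?_⟩
  · rw [← t1, ← ht, ← map_mul, ← Sx.cen' S.ζL S.ρζ e, map_mul, mul_inv_cancel_right]
  · rw [map_mul ι _ (y * y), sq_eq hy]
    simp only [map_mul, map_inv, ht, hw, t2]

omit hy hw in
theorem lemD {k : X} (hk : S.ρ k = 1) : ∃ u ∈ zpowers S.ζ, ∃ a, S.ρ a = 1 ∧ ι a = κ (k * u) := by
  obtain ⟨y, hy⟩ := h.a.ex
  obtain ⟨w, hw⟩ := h.b.ex
  obtain ⟨y', hy'⟩ := h.a.symm.ex
  obtain ⟨w', hw'⟩ := h.c.ex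
  obtain ⟨t, ⟨t', tL, ht⟩, t1, -, t2⟩ := h.exists_t' hy hw
  obtain ⟨a, ha⟩ := h.a.F.rng h.a.h1 (g := κ k) (by
    rw [← sq_eq hy', ← map_mul, S.cen hk (h.a.symm.mL hy'), map_mul])
  have c : ∀ {u v}, ι u = κ v → k * v = v * k → S.ρ a * S.ρ u = S.ρ u * S.ρ a := fun {u v} e f => by
    rw [← map_mul, h.a.F.inj h.a.h1 (a₁ := a * u) (a₂ := u * a) (by
      rw [map_mul, map_mul, ha, e, ← map_mul, f, map_mul]), map_mul]
  have e := h.pair hy hw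
  obtain ⟨u, hu, v, hv, f⟩ := cen_pair e (c hy (S.cen hk S.ζL)) (c (hw.trans hw'.symm) (h.c.cenK hw' hk))
  have c1 : Commute (S.ρ t) (S.ρ y) := Commute.map t1 _
  have c2 : Commute (S.ρ t) (S.ρ a) := (c ht (S.cen hk tL)).symm
  have c3 : ¬ Commute (S.ρ t) (S.ρ w * S.ρ w) := fun g => e.p2 (by
    have := congrArg S.ρ t2
    simp only [map_mul, map_inv, g.eq, mul_inv_cancel_right] at this
    exact left_eq_mul.1 this)
  have c4 : Commute (S.ρ t) v := by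
    rw [eq_inv_mul_of_mul_eq f.symm]
    refine Commute.mul_right (Commute.inv_right ?_) c2
    simp only [List.mem_cons, List.not_mem_nil, or_false] at hu
    rcases hu with rfl | rfl | rfl | rfl
    exacts [.one_right _, c1, c1.mul_right c1, c1.inv_right]
  simp only [List.mem_cons, List.not_mem_nil, or_false] at hu hv
  rcases hv with rfl | rfl | rfl | rfl
  · have k : ∀ i : ℤ, u = S.ρ y ^ i → ∃ u ∈ zpowers S.ζ, ∃ a, S.ρ a = 1 ∧ ι a = κ (k * u) :=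
      fun i g => ⟨S.ζ ^ (-i), ⟨_, rfl⟩, a * y ^ (-i), by simp [f, g], by simp [ha, hy]⟩
    rcases hu with g | g | g | g
    exacts [k 0 (by simpa), k 1 (by simpa), k 2 (by rwa [zpow_two]), k (-1) (by simpa)]
  exacts [absurd (c4.mul_right c4) c3, absurd c4 c3,
    absurd ((Commute.inv_right_iff.1 c4).mul_right (Commute.inv_right_iff.1 c4)) c3]

theorem lemE {c : X} (c1 : c * (y * y) * c⁻¹ = y * y) (c2 : c * (w * w) * c⁻¹ = w * w) :
    c * S.ζ * c⁻¹ = S.ζ ∧ c * y * c⁻¹ = y ∨ c * S.ζ * c⁻¹ = S.ζ⁻¹ ∧ c * y * c⁻¹ = y⁻¹ ∧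
      ∃ ν, P ν ∧ ν S.z = κ S.z * ι S.z ∧ ι c * ν S.ζ * (ι c)⁻¹ = (ν S.ζ)⁻¹ := by
  have e := h.pair hy hw
  obtain ⟨s, hs, s1, -⟩ := exists_s e
  obtain ⟨s, sL, rfl⟩ := S.sur s hs
  have s2 := h.a.s_act hy e sL s1
  obtain ⟨d, dL, d1, d2⟩ := Sx.eq_mulL (a := s * y * s⁻¹ * y⁻¹) (by
    have := mul_mem sL (S.nrm.conj_mem _ (inv_mem sL) y)
    simpa only [mul_assoc] using this) (h.b.mL hw) (by simp [s1])
  have d3 : s * y * s⁻¹ = w * w * (d * y) := by rw [← mul_assoc, ← d2, inv_mul_cancel_right]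
  have k1 : Commute y w := h.comm hy hw
  have k2 : Commute d y := h.a.cenK hy d1
  have k3 : Commute d w := h.b.cenK hw d1
  have k4 : Commute (d * y) (w * w) := (k3.mul_left k1).mul_right (k3.mul_left k1)
  have d4 : d * d = S.z := by
    rw [← conj_mul, d3, k4.mul_mul_mul_comm, h.b.y4 hw, one_mul, k2.symm.mul_mul_mul_comm,
      Sx.z_cen] at s2
    exact mul_right_cancel s2
  have hν : ι (s * y * s⁻¹) = cj (ι s) κ S.ζ := by rw [cj_apply, ← hy, map_mul, map_mul, map_inv]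
  have n := h.a.F.nmX h.a.h1 (h.a.F.conj h.a.h2 _) hν (g := c) (by
    rw [conj_mul, s2, ← conj_mul, c1, Sx.z_cen c, mul_inv_cancel_right])
  have d5 : c * d * c⁻¹ = d ∧ c * S.ζ * c⁻¹ = S.ζ ∨ c * d * c⁻¹ = d⁻¹ ∧ c * S.ζ * c⁻¹ = S.ζ⁻¹ := by
    rcases Sx.ker4 dL d1 with rfl | rfl | rfl | rfl
    · exact absurd ((one_mul _).symm.trans d4).symm S.z_ne
    · exact (Sx.conj_ζ c).imp (fun f => ⟨f, f⟩) fun f => ⟨f, f⟩
    · exact absurd (d4.symm.trans S.zz) S.z_ne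
    · exact (Sx.conj_ζ c).imp (fun f => ⟨by rw [← conj_inv, f], f⟩) fun f => ⟨by rw [← conj_inv, f], f⟩
  have i : (w * w * (d * y))⁻¹ = w * w * (d⁻¹ * y⁻¹) := by
    rw [← k4.eq, mul_inv_rev, inv_eq_of_mul_eq_one_right (h.b.y4 hw), k2.eq, mul_inv_rev]
  have dn : d ≠ d⁻¹ := fun f => S.z_ne (d4 ▸ mul_eq_one_iff_eq_inv.2 f)
  have yn : y ≠ y⁻¹ := fun f => h.a.ρ2 hy (by rw [mul_eq_one_iff_eq_inv.2 f, map_one])
  have n' := n
  rw [Nm, d3, i, ← conj_mul, ← conj_mul (a := d), c2, mul_right_inj, mul_right_inj] at n'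
  rcases d5 with ⟨f, g⟩ | ⟨f, g⟩ <;> rcases h.a.nm hy c1 with k | k <;> rw [f, k] at n'
  · exact .inl ⟨g, k⟩
  · exact absurd n' (by simpa using ⟨yn.symm, dn⟩)
  · exact absurd n' (by simpa using ⟨dn.symm, yn⟩)
  · refine .inr ⟨g, k, _, h.a.F.conj h.a.h2 _, by rw [← sq_eq hν, conj_mul, s2, map_mul, sq_eq hy], ?_⟩
    rw [← hν, ← map_inv, ← map_mul, ← map_mul, ← map_inv, d3, i, ← conj_mul, ← conj_mul (a := d), c2, f, k]

end Tri

end CL.StdO
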