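/- The involutions centralizing the centre of a standard subgroup `4·L3(4)`. -/
import Cfsg.Agent.INV.STD.OnD

set_option autoImplicit false

namespace CL.StdO

open CL.ONU Subgroup CL.StdE

variable {X G : Type*} [Group X] [Group G]
variable {S : Sx X} {P : (X →* G) → Prop} {ι κ μ : X →* G} {y w : X}

theorem eq_one_of_odd {a : X} (h : Odd (orderOf a)) {k : ℕ} (e : a ^ 2 ^ k = 1) : a = 1 :=
  orderOf_eq_one_iff.1 (Nat.Coprime.eq_one_of_dvd ((Nat.coprime_two_right.2 h).pow_right k)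
    (orderOf_dvd_of_pow_eq_one e))

theorem Fam.odd [Finite X] (F : Fam S P) (h1 : P ι) (h2 : P κ) (ne : ι S.z ≠ κ S.z) {a b : X}
    (ha : S.ρ a = 1) (hb : S.ρ b = 1) (e : ι a = κ b) : Odd (orderOf a) := by
  by_contra h
  obtain ⟨m, hm⟩ := Nat.not_odd_iff_even.1 h
  have p := orderOf_pos a
  refine (F.ti h1 h2 (a := a ^ m) (b := b ^ m) (by simp [ha]) (by simp [hb]) (by simp [e])
    (by rw [← pow_add, ← hm, pow_orderOf_eq_one])).elim (fun f => ?_) ne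
  have := Nat.le_of_dvd (by omega) (orderOf_dvd_of_pow_eq_one f)
  omega

theorem T1.lemD (h : T1 S P ι κ) {k : X} (hk : S.ρ k = 1) :
    ∃ u ∈ zpowers S.ζ, ∃ a, S.ρ a = 1 ∧ ι a = κ (k * u) :=
  let ⟨_, t⟩ := h.exists_tri
  t.lemD hk

theorem Sx.of_zpowers {u : X} (h : u ∈ zpowers S.ζ) : u ∈ S.L ∧ S.ρ u = 1 := by
  obtain ⟨i, rfl⟩ := h
  exact ⟨zpow_mem S.ζL i, by simp [S.ρζ]⟩

theorem T1.decK [Finite X] (h : T1 S P ι κ) {k : X} (hk : S.ρ k = 1) :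
    ∃ u ∈ zpowers S.ζ, Odd (orderOf (k * u)) :=
  let ⟨u, hu, _, a, e⟩ := h.symm.lemD hk
  ⟨u, hu, h.F.odd h.h1 h.h2 h.ne (by rw [map_mul, hk, (Sx.of_zpowers hu).2, mul_one]) a e.symm⟩

theorem T1.memL [Finite X] (h : T1 S P ι κ) {s : X} (hs : S.ρ s ∈ Q) (s2 : s * s = 1) : s ∈ S.L := by
  obtain ⟨l, hl, k, hk, rfl⟩ := Sx.dec hs
  obtain ⟨u, hu, o⟩ := h.decK hk
  obtain ⟨uL, u1⟩ := Sx.of_zpowers hu
  have a : S.ρ (k * u) = 1 := by rw [map_mul, hk, u1, mul_one]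
  have b : l * k = l * u⁻¹ * (k * u) := by rw [S.cen hk uL]; group
  have m := mul_mem hl (inv_mem uL)
  rw [b] at s2 ⊢
  generalize k * u = c at *
  generalize l * u⁻¹ = d at *
  rw [Commute.mul_mul_mul_comm (S.cen a m)] at s2
  have e := Sx.pow4 (S := S) (c := c * c) (eq_inv_of_mul_eq_one_right s2 ▸ inv_mem (mul_mem m m))
    (by rw [map_mul, a, mul_one])
  rw [eq_one_of_odd o (k := 3) (by rw [← e]; norm_num [pow_succ, mul_assoc]), mul_one]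
  exact m

variable (S) in
/-- the elements of odd order of the centralizer of the component -/
def OO (ι : X →* G) : Set G := {g | ∃ k, S.ρ k = 1 ∧ Odd (orderOf k) ∧ ι k = g}

theorem T1.OO_le [Finite X] (h : T1 S P ι κ) : OO S κ ⊆ OO S ι := by
  rintro _ ⟨k, hk, o, rfl⟩
  obtain ⟨u, hu, a, ha, e⟩ := h.lemD hk
  obtain ⟨uL, u1⟩ := Sx.of_zpowers hu
  have o1 := h.F.odd h.h2 h.h1 h.ne.symm (by rw [map_mul, hk, u1, mul_one]) ha e.symm
  have c : Commute k⁻¹ (k * u) := ((Commute.refl k).mul_right (S.cen hk uL)).inv_left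
  have d := c.orderOf_mul_dvd_mul_orderOf
  rw [inv_mul_cancel_left, orderOf_inv] at d
  rw [eq_one_of_odd ((o.mul o1).of_dvd_nat d) (k := 2) (by
    rw [← Sx.pow4 uL u1]; norm_num [pow_succ, mul_assoc]), mul_one] at e
  exact ⟨a, ha, h.F.odd h.h1 h.h2 h.ne ha hk e, e⟩

theorem T1.OO_eq [Finite X] (h : T1 S P ι κ) : OO S κ = OO S ι := h.OO_le.antisymm h.symm.OO_le

theorem OO_cj (g : G) {a : G} : a ∈ OO S (cj g ι) ↔ g⁻¹ * a * g ∈ OO S ι :=
  exists_congr fun k => and_congr_right fun _ => and_congr_right fun _ => by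
    rw [cj_apply]
    exact ⟨fun e => by rw [← e]; group, fun e => by rw [e]; group⟩

theorem Fam.OO_le (F : Fam S P) (h1 : P ι) (h2 : P κ) (e : ι S.z = κ S.z) : OO S κ ⊆ OO S ι := by
  obtain ⟨g, rfl⟩ := F.tr h1 h2
  obtain ⟨x, rfl⟩ := F.rng h1 (mul_inv_eq_iff_eq_mul.1 (e.trans (cj_apply _ _ _)).symm)
  rintro _ ⟨k, hk, o, rfl⟩
  exact ⟨x * k * x⁻¹, by simp [hk], (MulAut.conj x).orderOf_eq k ▸ o, by simp [cj_apply]⟩

theorem Fam.OO_eq (F : Fam S P) (h1 : P ι) (h2 : P κ) (e : ι S.z = κ S.z) : OO S κ = OO S ι :=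
  (F.OO_le h1 h2 e).antisymm (F.OO_le h2 h1 e.symm)

variable (S P) in
/-- `g` is a conjugate of the central involution with the same odd core -/
def Good (ι : X →* G) (g : G) : Prop := ∃ ν, P ν ∧ ν S.z = g ∧ OO S ν = OO S ι

theorem Good.conj (F : Fam S P) (h1 : P ι) {s : X} (l : X) (h : Good S P ι (ι (l * s * l⁻¹))) :
    Good S P ι (ι s) := by
  obtain ⟨ν, n1, n2, n3⟩ := h
  refine ⟨_, F.conj n1 (ι l⁻¹), by rw [cj_apply, n2]; simp [mul_assoc], Set.ext fun a => ?_⟩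
  rw [OO_cj, n3, ← OO_cj, F.OO_eq h1 (F.conj h1 _) (by
    rw [cj_apply, ← map_mul, Sx.z_cen, map_mul, mul_inv_cancel_right])]

theorem T1.good [Finite X] (h : T1 S P ι κ) {s : X} (hs : S.ρ s ∈ Q) (s2 : s * s = 1) (s1 : s ≠ 1) :
    Good S P ι (ι s) := by
  have sL := h.memL hs s2
  by_cases e : S.ρ s = 1
  · exact ⟨ι, h.h1, by rw [(Sx.inv_ker sL e s2).resolve_left s1], rfl⟩
  · obtain ⟨μ, m, f⟩ := h.chartL sL e s2
    exact ⟨μ, m.h2, f, m.OO_eq⟩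

theorem Tri.good [Finite X] (h : Tri S P ι κ μ) (hy : ι y = κ S.ζ) (hw : ι w = μ S.ζ) {t t' : X}
    (tL : t' ∈ S.L) (ht : ι t = κ t') (t1 : t * y = y * t) (t2 : t * (w * w) * t⁻¹ = w * w * (y * y))
    {s : X} (hs : S.ρ s * (S.ρ t)⁻¹ ∈ Q) (s2 : s * s = 1) (s1 : s ≠ 1) : Good S P ι (ι s) := by
  have e := h.pair hy hw
  have F := h.a.F
  have yL := h.a.mL hy
  have wL := h.b.mL hw
  have c : Commute y w := h.comm hy hw
  have c' : Commute (y * y) (w * w) := (c.mul_left c).mul_right (c.mul_left c)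
  have key : ∀ s, S.ρ s * (S.ρ t)⁻¹ ∈ Q → s * s = 1 → s ≠ 1 → s * (y * y) * s⁻¹ = y * y →
      s * (w * w) * s⁻¹ = w * w * (y * y) → Good S P ι (ι s) := fun s hs s2 s1 a b => by
    have a' : t⁻¹ * (y * y) * t = y * y := by
      rw [mul_assoc, ← (Commute.mul_right t1 t1).eq, inv_mul_cancel_left]
    have b' : t⁻¹ * (w * w) * t = w * w * (y * y) := by
      calc _ = t⁻¹ * (w * w * (y * y * (y * y))) * t := by rw [h.a.y4 hy, mul_one]
        _ = t⁻¹ * (w * w * (y * y)) * t * (t⁻¹ * (y * y) * t) := by simp only [mul_assoc, mul_inv_cancel_left]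
        _ = _ := by rw [a', show t⁻¹ * (w * w * (y * y)) * t = w * w by rw [← t2]; group]
    obtain ⟨u, hu, v, hv, f⟩ := nm_pair e hs
      (by simpa using (h.a.nm hy (g := s * t⁻¹) (by
        calc _ = s * (t⁻¹ * (y * y) * t) * s⁻¹ := by group
          _ = _ := by rw [a', a])).map S.ρ)
      (by simpa using (h.b.nm hw (g := s * t⁻¹) (by
        calc _ = s * (t⁻¹ * (w * w) * t) * s⁻¹ := by group
          _ = _ := by rw [b', ← conj_mul, a, b, mul_assoc, h.a.y4 hy, mul_one])).map S.ρ)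
    let I : Subgroup X := (((Q.comap S.ρ).map κ).comap ι)
    obtain ⟨y', hy'⟩ := h.a.symm.ex
    obtain ⟨w', hw'⟩ := h.c.ex
    have i1 : y ∈ I := ⟨S.ζ, S.mem S.ζL, hy.symm⟩
    have i2 : w ∈ I := ⟨w', h.c.mQ hw', hw'.trans hw.symm⟩
    have i3 : ∀ k, S.ρ k = 1 → k ∈ I := fun k hk => by
      obtain ⟨u, hu, a, ha, g⟩ := h.a.symm.lemD hk
      exact (I.mul_mem_cancel_right (zpowers_le.2 (⟨y', h.a.symm.mQ hy', hy'⟩ : S.ζ ∈ I) hu)).1
        ⟨a, by rw [SetLike.mem_coe, mem_comap, ha]; exact one_mem _, g⟩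
    have i4 : ∀ {y}, y ∈ I → ∀ u ∈ [1, S.ρ y, S.ρ y * S.ρ y, (S.ρ y)⁻¹], ∃ a ∈ I, S.ρ a = u :=
      fun {y} hy u hu => by
        simp only [List.mem_cons, List.not_mem_nil, or_false] at hu
        rcases hu with rfl | rfl | rfl | rfl
        exacts [⟨1, one_mem _, map_one _⟩, ⟨y, hy, rfl⟩, ⟨_, mul_mem hy hy, map_mul _ _ _⟩,
          ⟨_, inv_mem hy, map_inv _ _⟩]
    obtain ⟨u, uI, rfl⟩ := i4 i1 u hu
    obtain ⟨v, vI, rfl⟩ := i4 i2 v hv
    obtain ⟨k, hk, g⟩ := Sx.eq_mul (S := S) (a := s * t⁻¹) (b := u * v) (by simpa using f)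
    obtain ⟨x, hx, x1⟩ : s ∈ I := by
      rw [eq_mul_of_mul_inv_eq g]
      exact mul_mem (mul_mem (mul_mem uI vI) (i3 k hk)) ⟨t', S.mem tL, ht.symm⟩
    obtain ⟨ν, n1, n2, n3⟩ := h.a.symm.good hx (F.inj h.a.h2 (by
      rw [map_mul, x1, ← map_mul, s2, map_one, map_one])) fun e => s1 (F.inj h.a.h1 (by
        rw [← x1, e, map_one, map_one]))
    exact ⟨ν, n1, n2.trans x1, n3.trans h.a.OO_eq⟩
  have cj1 : ∀ l ∈ S.L, ∀ s, S.ρ s * (S.ρ t)⁻¹ ∈ Q → s * s = 1 → s ≠ 1 →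
      S.ρ (l * s * l⁻¹) * (S.ρ t)⁻¹ ∈ Q ∧ l * s * l⁻¹ * (l * s * l⁻¹) = 1 ∧ l * s * l⁻¹ ≠ 1 :=
    fun l hl s hs s2 s1 => ⟨by
      have := mul_mem (mul_mem (S.mem hl) hs) (Q_normal.conj_mem _ (inv_mem (S.mem hl)) (S.ρ t))
      simpa [mul_assoc] using this, by rw [conj_mul, s2, mul_one, mul_inv_cancel], by simpa⟩
  obtain ⟨m, hm, m1, m2⟩ := exists_pos e (Commute.map t1 S.ρ).eq
    (by simpa only [map_mul, map_inv] using congrArg S.ρ t2) (by rw [← map_mul, s2, map_one]) hs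
  obtain ⟨m, mL, rfl⟩ := S.sur m hm
  refine Good.conj F h.a.h1 m ?_
  obtain ⟨hs, s2, s1⟩ := cj1 m mL s hs s2 s1
  simp only [← map_mul, ← map_inv] at m1 m2
  generalize m * s * m⁻¹ = s at *
  have wy : w * w * (y * y) * (w * w * (y * y)) = 1 := by
    rw [c'.mul_mul_mul_comm, h.a.y4 hy, h.b.y4 hw, one_mul]
  have b := Sx.chi0 (S.mem (mul_mem wL yL)) wy (by rw [conj_mul, h.b.y4 hw, mul_one, mul_inv_cancel]) m2
    (mul_mem (inv_mem (mul_mem wL yL)) (S.nrm.conj_mem _ wL s))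
  have a : s * (y * y) * s⁻¹ = y * y := by
    have k : s * (s * (w * w) * s⁻¹) * s⁻¹ = w * w := by
      calc _ = s * s * (w * w) * (s * s)⁻¹ := by group
        _ = _ := by rw [s2]; group
    have y1 : (y * y)⁻¹ = y * y := inv_eq_of_mul_eq_one_right (h.a.y4 hy)
    rcases b with b | b
    · rw [b, ← conj_mul, b, mul_assoc (w * w), mul_eq_left] at k
      rw [eq_inv_of_mul_eq_one_right k, y1]
    · rw [b, ← conj_mul, ← conj_mul, b, Sx.z_cen s, mul_inv_cancel_right, mul_assoc _ S.z, ← Sx.z_cen,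
        mul_assoc, mul_assoc _ S.z, S.zz, mul_one, mul_assoc (w * w), mul_eq_left] at k
      rw [eq_inv_of_mul_eq_one_right k, y1]
  rcases b with b | b
  · exact key s hs s2 s1 a b
  obtain ⟨l, hl, l1, l2⟩ := exists_s e
  obtain ⟨l, lL, rfl⟩ := S.sur l hl
  have l3 := h.a.s_act hy e lL l1
  obtain ⟨hs', s2', s1'⟩ := cj1 l⁻¹ (inv_mem lL) s hs s2 s1
  have zc : ∀ g : X, g⁻¹ * S.z * g = S.z := fun g => by rw [mul_assoc, ← Sx.z_cen, inv_mul_cancel_left]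
  have l4 : l⁻¹ * (y * y) * l = y * y * S.z := by
    calc _ = l⁻¹ * (y * y * (S.z * S.z)) * l := by rw [S.zz, mul_one]
      _ = l⁻¹ * (y * y * S.z) * l * (l⁻¹ * S.z * l) := by simp only [mul_assoc, mul_inv_cancel_left]
      _ = _ := by rw [zc, show l⁻¹ * (y * y * S.z) * l = y * y by rw [← l3]; group]
  refine Good.conj F h.a.h1 l⁻¹ (key _ hs' s2' s1' ?_ ?_)
  · calc _ = l⁻¹ * (s * (l * (y * y) * l⁻¹) * s⁻¹) * l := by group
      _ = _ := by rw [l3, ← conj_mul, a, Sx.z_cen s, mul_inv_cancel_right, ← l3]; group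
  · have g : ∀ v, l * (w * w) * l⁻¹ = w * w * v → s * v * s⁻¹ = v → l⁻¹ * v * l = v → v * S.z = S.z * v →
        v * (y * y) = y * y * v → l⁻¹ * s * l⁻¹⁻¹ * (w * w) * (l⁻¹ * s * l⁻¹⁻¹)⁻¹ = w * w * (y * y) :=
      fun v v1 v2 v3 v4 v5 => by
        calc _ = l⁻¹ * (s * (l * (w * w) * l⁻¹) * s⁻¹) * l := by group
          _ = l⁻¹ * (w * w * v) * l * (l⁻¹ * (y * y) * l) * (l⁻¹ * S.z * l) := by
            rw [v1, ← conj_mul, b, v2, mul_assoc _ S.z, ← v4, ← mul_assoc _ v, mul_assoc (w * w), ← v5]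
            group
          _ = _ := by rw [← v1, l4, zc, mul_assoc _ _ S.z, mul_assoc _ S.z, S.zz]; group
    rcases Sx.chi (S.mem wL) (h.b.y4 hw) (.inl lL) (by rw [map_mul, l2]) with f | f
    · exact g 1 (by rw [f, mul_one]) (by simp) (by simp) (by simp) (by simp)
    · exact g _ f (by rw [Sx.z_cen, mul_inv_cancel_right]) (zc l) rfl (Sx.z_cen _).symm

end CL.StdO
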